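import Mathlib

/-!
# Primes of `O_{X,x}` over the maximal ideal of `O_{S,f x}` (piece (NI) for S4980)
-/

set_option autoImplicit false
universe u
open CategoryTheory CategoryTheory.Limits AlgebraicGeometry TopologicalSpace Opposite
open IsLocalRing

namespace Groth.Agent.H89.DvrLen_NI

/-- (NI) primes of `O_{X,x}` containing `𝔪_{f x} O_{X,x}` are the generizations in the fibre. -/
theorem map_maximalIdeal_le_iff {X S : Scheme.{u}} (f : X ⟶ S) (x : X)
    (p : PrimeSpectrum (X.presheaf.stalk x)) :
    Ideal.map (f.stalkMap x).hom (maximalIdeal (S.presheaf.stalk (f x))) ≤ p.asIdeal ↔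
      f ((X.fromSpecStalk x) p) = f x := by
  have hsq : (S.fromSpecStalk (f x)) ((Spec.map (f.stalkMap x)) p) = f ((X.fromSpecStalk x) p) := by
    have := Scheme.SpecMap_stalkMap_fromSpecStalk f (x := x)
    exact congrArg (fun g : Spec (X.presheaf.stalk x) ⟶ S => g p) this
  have hinj : Function.Injective (S.fromSpecStalk (f x)) :=
    (S.fromSpecStalk (f x)).isEmbedding.injective
  have hcl : (S.fromSpecStalk (f x)) (closedPoint (S.presheaf.stalk (f x))) = f x :=
    Scheme.fromSpecStalk_closedPoint
  rw [← hsq, Ideal.map_le_iff_le_comap]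
  constructor
  · intro h
    have h2 : (Spec.map (f.stalkMap x)) p = closedPoint (S.presheaf.stalk (f x)) := by
      apply PrimeSpectrum.ext
      have hmax : (maximalIdeal (S.presheaf.stalk (f x))).IsMaximal := inferInstance
      have hne : ((Spec.map (f.stalkMap x)) p).asIdeal ≠ ⊤ :=
        ((Spec.map (f.stalkMap x)) p).isPrime.ne_top
      exact (hmax.eq_of_le hne h).symm
    rw [h2, hcl]
  · intro h
    have h2 := hinj (h.trans hcl.symm)
    have : p.asIdeal.comap (f.stalkMap x).hom = ((Spec.map (f.stalkMap x)) p).asIdeal := rfl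
    rw [this, h2]
    exact le_rfl

end Groth.Agent.H89.DvrLen_NI
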