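import Mathlib
import Groth.Prelude.Def_FlatMod2
import Groth.Prelude.Def_FDesc
import Groth.Agent.H7.AssTensorFlat

/-!
# Stalks on the generic fibre (piece (SLG) for S4980)
-/

set_option autoImplicit false
set_option linter.style.haveILetI false
universe u
open CategoryTheory CategoryTheory.Limits AlgebraicGeometry TopologicalSpace Opposite TensorProduct
open IsLocalRing

namespace Groth.Agent.H89.DvrLen_SLG

/-- the local ring at the generic point of an integral scheme is a field. -/
theorem maximalIdeal_stalk_eq_bot {Y : Scheme.{u}} [IsIntegral Y] (y : Y)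
    (hy : y = genericPoint Y) : maximalIdeal (Y.presheaf.stalk y) = ⊥ := by
  subst hy
  rw [← IsLocalRing.isField_iff_maximalIdeal_eq]
  exact Field.toIsField (Y.functionField)

/-- length is invariant under base change along a bijective ring map. -/
theorem length_tensor_of_bijective {R R' M : Type u} [CommRing R] [CommRing R'] [Algebra R R']
    [AddCommGroup M] [Module R M] (h : Function.Bijective (algebraMap R R')) :
    Module.length R' (R' ⊗[R] M) = Module.length R M := by
  rw [← Module.length_eq_of_surjective (S := R) (R := R') (M := R' ⊗[R] M) h.2]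
  let e0 : R ≃ₗ[R] R' := LinearEquiv.ofBijective (Algebra.linearMap R R') h
  exact ((TensorProduct.congr e0 (LinearEquiv.refl R M)).symm.trans
    (TensorProduct.lid R M)).length_eq

/-- (SLG) on the generic fibre (integral base) the stalks do not change. -/
theorem length_stalk_genericFibre {X Y : Scheme.{u}} [IsIntegral Y] (f : X ⟶ Y) (F : X.Modules)
    [F.IsQuasicoherent] (v : f.fiber (genericPoint Y)) :
    Module.length ((f.fiber (genericPoint Y)).presheaf.stalk v)
        (((Scheme.Modules.pullback (f.fiberι (genericPoint Y))).obj F).presheaf.stalk v) =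
      Module.length (X.presheaf.stalk (f.fiberι (genericPoint Y) v))
        (F.presheaf.stalk (f.fiberι (genericPoint Y) v)) := by
  letI := ((f.fiberι (genericPoint Y)).stalkMap v).hom.toAlgebra
  obtain ⟨E⟩ := Groth.Agent.H8.nonempty_stalk_pullback_equiv (f.fiberι (genericPoint Y)) F v
  rw [E.length_eq]
  apply length_tensor_of_bijective
  obtain ⟨hsurj, hker⟩ :=
    Groth.Agent.H9.stalkMap_fiberι_surjective_and_ker_eq f (genericPoint Y) v
  have hfx : f ((f.fiberι (genericPoint Y)) v) = genericPoint Y := by
    have : (f.fiberι (genericPoint Y)) v ∈ Set.range (f.fiberι (genericPoint Y)) := ⟨v, rfl⟩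
    rw [Scheme.Hom.range_fiberι] at this
    exact this
  rw [maximalIdeal_stalk_eq_bot _ hfx, Ideal.map_bot] at hker
  refine ⟨?_, hsurj⟩
  exact (RingHom.injective_iff_ker_eq_bot _).mpr hker

end Groth.Agent.H89.DvrLen_SLG
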