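import Mathlib.RingTheory.Flat.Equalizer
import Mathlib.LinearAlgebra.TensorProduct.Prod
import Mathlib.RingTheory.TensorProduct.Basic

set_option autoImplicit false

namespace Groth.Agent.H89

open TensorProduct

universe u v v'

theorem flat_prod (R : Type u) [CommRing R] (M : Type v) (N : Type v') [AddCommGroup M] [Module R M]
    [AddCommGroup N] [Module R N] [Module.Flat R M] [Module.Flat R N] : Module.Flat R (M × N) := by
  rw [Module.Flat.iff_rTensor_preserves_injective_linearMap]
  intro X Y _ _ _ _ h hh
  have key : ∀ z : X ⊗[R] (M × N), TensorProduct.prodRight R R Y M N (h.rTensor (M × N) z) =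
      (h.rTensor M (TensorProduct.prodRight R R X M N z).1,
        h.rTensor N (TensorProduct.prodRight R R X M N z).2) := by
    intro z
    induction z using TensorProduct.induction_on with
    | zero => simp; rfl
    | tmul x mn => simp
    | add a b ha hb => simp only [map_add, ha, hb, Prod.fst_add, Prod.snd_add, Prod.mk_add_mk]
  intro z z' hz
  have h1 := congrArg (TensorProduct.prodRight R R Y M N) hz
  rw [key, key] at h1
  have h2 := Module.Flat.rTensor_preserves_injective_linearMap (M := M) h hh (congrArg Prod.fst h1)
  have h3 := Module.Flat.rTensor_preserves_injective_linearMap (M := N) h hh (congrArg Prod.snd h1)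
  exact (TensorProduct.prodRight R R X M N).injective (Prod.ext h2 h3)

theorem flat_of_exact {R : Type u} [CommRing R] {M N P : Type*} [AddCommGroup M] [Module R M]
    [AddCommGroup N] [Module R N] [AddCommGroup P] [Module R P] [Module.Flat R N] [Module.Flat R P]
    (g : M →ₗ[R] N) (f : N →ₗ[R] P) (hg : Function.Injective g) (hf : Function.Surjective f)
    (H : Function.Exact g f) : Module.Flat R M := by
  rw [Module.Flat.iff_rTensor_preserves_injective_linearMap]
  intro X Y _ _ _ _ h hh
  have h1 : Function.Injective (g.lTensor X) :=
    LinearMap.lTensor_injective_of_exact_of_flat f hf g hg H X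
  have h2 : Function.Injective (h.rTensor N) :=
    Module.Flat.rTensor_preserves_injective_linearMap h hh
  have h3 : (g.lTensor Y) ∘ₗ (h.rTensor M) = (h.rTensor N) ∘ₗ (g.lTensor X) := by
    ext x m
    simp
  have h4 : Function.Injective ((g.lTensor Y) ∘ₗ (h.rTensor M)) := by
    rw [h3]
    exact h2.comp h1
  exact Function.Injective.of_comp h4

theorem algMap_eq_lTensor {R : Type*} [CommRing R] {R' X Y : Type*} [CommRing R'] [Algebra R R']
    [CommRing X] [Algebra R X] [CommRing Y] [Algebra R Y] (f : X →ₐ[R] Y) (w : R' ⊗[R] X) :
    Algebra.TensorProduct.map (AlgHom.id R R') f w = f.toLinearMap.lTensor R' w := by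
  induction w using TensorProduct.induction_on with
  | zero => simp
  | tmul x y => simp
  | add a b ha hb => simp only [map_add, ha, hb]

end Groth.Agent.H89
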