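import Mathlib

/-!
# Morphisms from spectra of local rings factor through affine opens
-/

set_option autoImplicit false
open CategoryTheory AlgebraicGeometry

namespace Groth.Agent.H89.LocalSpec
universe u

/-- a morphism from `Spec C` into `X` with image in an affine open factors through it. -/
lemma exists_factor {X : Scheme.{u}} {U : X.Opens} (hU : IsAffineOpen U) {C : CommRingCat.{u}}
    (ξ : Spec C ⟶ X) (H : Set.range ξ ⊆ U) :
    ∃ α : Γ(X, U) ⟶ C, Spec.map α ≫ hU.fromSpec = ξ := by
  have H' : Set.range ξ ⊆ Set.range hU.fromSpec := by rw [hU.range_fromSpec]; exact H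
  refine ⟨Spec.preimage (IsOpenImmersion.lift hU.fromSpec ξ H'), ?_⟩
  rw [Spec.map_preimage, IsOpenImmersion.lift_fac]

lemma factor_unique {X : Scheme.{u}} {U : X.Opens} (hU : IsAffineOpen U) {C : CommRingCat.{u}}
    (α β : Γ(X, U) ⟶ C) (h : Spec.map α ≫ hU.fromSpec = Spec.map β ≫ hU.fromSpec) : α = β := by
  apply Spec.map_injective
  exact (cancel_mono hU.fromSpec).mp h

lemma range_subset_of_closedPoint_mem {X : Scheme.{u}} (U : X.Opens) {C : CommRingCat.{u}}
    [IsLocalRing C] (ξ : Spec C ⟶ X) (h : ξ (IsLocalRing.closedPoint C) ∈ U) :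
    Set.range ξ ⊆ U := by
  rintro _ ⟨z, rfl⟩
  have hz : z ⤳ IsLocalRing.closedPoint C := IsLocalRing.specializes_closedPoint z
  exact (hz.map ξ.continuous).mem_open U.2 h

/-- two morphisms from the spectrum of a local ring which agree at the closed point and after
composing with `Spec` of an injective ring map are equal. -/
lemma eq_of_comp_eq {X : Scheme.{u}} {C C' : CommRingCat.{u}} [IsLocalRing C]
    (a b : Spec C ⟶ X) (j : C ⟶ C') (hj : Function.Injective j.hom)
    (hcl : a (IsLocalRing.closedPoint C) = b (IsLocalRing.closedPoint C))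
    (h : Spec.map j ≫ a = Spec.map j ≫ b) : a = b := by
  obtain ⟨W, hW, hxW, -⟩ := exists_isAffineOpen_mem_and_subset (X := X)
    (x := a (IsLocalRing.closedPoint C)) (U := ⊤) trivial
  obtain ⟨γ1, h1⟩ := exists_factor hW a (range_subset_of_closedPoint_mem W a hxW)
  obtain ⟨γ2, h2⟩ := exists_factor hW b (range_subset_of_closedPoint_mem W b (hcl ▸ hxW))
  have e : γ1 ≫ j = γ2 ≫ j := by
    apply factor_unique hW
    rw [Spec.map_comp, Spec.map_comp, Category.assoc, Category.assoc, h1, h2, h]
  have e' : γ1 = γ2 := by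
    ext t
    apply hj
    exact congrArg (fun q : Γ(X, W) ⟶ C' => q.hom t) e
  rw [← h1, ← h2, e']

end Groth.Agent.H89.LocalSpec
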