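import Mathlib
import Groth.Agent.H46.BD0

/-!
# Two out of three for the biduality map (piece (TWO) for S1819, helper46)
-/

set_option autoImplicit false
universe u
open CategoryTheory CategoryTheory.Limits HomologicalComplex CochainComplex
open CochainComplex.HomComplex
attribute [local instance] HasDerivedCategory.standard
open Groth.Agent.H33.TensorHom Groth.Agent.H33.Bidual Groth.Agent.H46.BD

namespace Groth.Agent.H89.BD_TWO

section General

open ComposableArrows Abelian HomologicalComplex.HomologySequence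

variable {C : Type*} [Category C] [Abelian C]

/-- The middle map of a morphism of short exact sequences of cochain complexes is a
quasi-isomorphism if the outer two are. -/
theorem quasiIso_τ₂ {S₁ S₂ : ShortComplex (CochainComplex C ℤ)} (φ : S₁ ⟶ S₂)
    (hS₁ : S₁.ShortExact) (hS₂ : S₂.ShortExact) (h₁ : QuasiIso φ.τ₁) (h₃ : QuasiIso φ.τ₃) :
    QuasiIso φ.τ₂ := by
  have i₁ : ∀ n : ℤ, IsIso (homologyMap φ.τ₁ n) := fun n =>
    (quasiIsoAt_iff_isIso_homologyMap φ.τ₁ n).1 ((quasiIso_iff φ.τ₁).1 h₁ n)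
  have i₃ : ∀ n : ℤ, IsIso (homologyMap φ.τ₃ n) := fun n =>
    (quasiIsoAt_iff_isIso_homologyMap φ.τ₃ n).1 ((quasiIso_iff φ.τ₃).1 h₃ n)
  rw [quasiIso_iff]
  intro n
  rw [quasiIsoAt_iff_isIso_homologyMap]
  have hr1 : (ComplexShape.up ℤ).Rel (n - 1) n := by simp
  have hr2 : (ComplexShape.up ℤ).Rel n (n + 1) := by simp
  have hm : Mono (homologyMap φ.τ₂ n) := by
    refine mono_of_epi_of_mono_of_mono'' (k := 2) (n := 5) (by omega)
      (composableArrows₅_exact hS₁ (n - 1) n hr1) (composableArrows₅_exact hS₂ (n - 1) n hr1)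
      (mapComposableArrows₅ φ hS₁ hS₂ (n - 1) n hr1) 2 3 4 5 rfl rfl rfl rfl ?_ ?_ ?_
    · have := i₃ (n - 1)
      change Epi (homologyMap φ.τ₃ (n - 1))
      infer_instance
    · have := i₁ n
      change Mono (homologyMap φ.τ₁ n)
      infer_instance
    · have := i₃ n
      change Mono (homologyMap φ.τ₃ n)
      infer_instance
  have he : Epi (homologyMap φ.τ₂ n) := by
    refine epi_of_epi_of_epi_of_mono'' (k := 0) (n := 5) (by omega)
      (composableArrows₅_exact hS₁ n (n + 1) hr2) (composableArrows₅_exact hS₂ n (n + 1) hr2)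
      (mapComposableArrows₅ φ hS₁ hS₂ n (n + 1) hr2) 0 1 2 3 rfl rfl rfl rfl ?_ ?_ ?_
    · have := i₁ n
      change Epi (homologyMap φ.τ₁ n)
      infer_instance
    · have := i₃ n
      change Epi (homologyMap φ.τ₃ n)
      infer_instance
    · have := i₁ (n + 1)
      change Mono (homologyMap φ.τ₁ (n + 1))
      infer_instance
  exact isIso_of_mono_of_epi _

end General

variable {A : Type u} [CommRing A]

theorem quasiIso_bidual_X₂ (S : ShortComplex (DRing.Cx A)) (hS : S.ShortExact) (J : DRing.Cx A)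
    (hJ : ∀ q, Injective (J.X q)) (h₁ : QuasiIso (bidual S.X₁ J)) (h₃ : QuasiIso (bidual S.X₃ J)) :
    QuasiIso (bidual S.X₂ J) := by
  have hS' : (homSC (homSC S J) J).ShortExact :=
    shortExact_homSC_of_injective _ (shortExact_homSC_of_injective S hS J hJ) J hJ
  let φ : S ⟶ homSC (homSC S J) J :=
    { τ₁ := bidual S.X₁ J
      τ₂ := bidual S.X₂ J
      τ₃ := bidual S.X₃ J
      comm₁₂ := (bidual_naturality S.f J).symm
      comm₂₃ := (bidual_naturality S.g J).symm }
  exact quasiIso_τ₂ φ hS hS' h₁ h₃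

end Groth.Agent.H89.BD_TWO
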