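import Mathlib
import Groth.Agent.H8.Coh

/-!
# A section divisible by all powers of a non-unit at `z` vanishes at every generization of `z`

Squad piece (Krull) for helper21 (S7679).
-/

set_option autoImplicit false
set_option linter.style.haveILetI false
universe u
open CategoryTheory CategoryTheory.Limits AlgebraicGeometry TopologicalSpace Opposite

namespace Groth.Agent.H89.Hyp_Krull

/-- Krull intersection, elementwise form. -/
lemma eq_zero_of_forall_pow_smul {R M : Type*} [CommRing R] [IsLocalRing R] [IsNoetherianRing R]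
    [AddCommGroup M] [Module R M] [Module.Finite R M] (r : R) (hr : ¬ IsUnit r) (t : M)
    (h : ∀ j : ℕ, ∃ g : M, t = r ^ j • g) : t = 0 := by
  have hItop : Ideal.span {r} ≠ ⊤ := by
    intro htop
    rw [Ideal.span_singleton_eq_top] at htop
    exact hr htop
  have hbot := Ideal.iInf_pow_smul_eq_bot_of_isLocalRing (R := R) (M := M) (I := Ideal.span {r})
    hItop
  have hmem : t ∈ (⨅ i : ℕ, Ideal.span {r} ^ i • ⊤ : Submodule R M) := by
    rw [Submodule.mem_iInf]
    intro j
    obtain ⟨g, hg⟩ := h j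
    rw [hg]
    refine Submodule.smul_mem_smul ?_ Submodule.mem_top
    exact Ideal.pow_mem_pow (Ideal.mem_span_singleton_self r) j
  rw [hbot, Submodule.mem_bot] at hmem
  exact hmem

theorem germ_eq_zero_of_divisible {X : Scheme.{u}} [IsLocallyNoetherian X] (G : X.Modules)
    (hG : Coh.IsCoh G) (z : X) (W : X.Opens) (hz : z ∈ W) (a : Γ(X, W))
    (ha : z ∉ X.basicOpen a) (τ : Γ(G, W)) (h : ∀ j : ℕ, ∃ g : Γ(G, W), τ = a ^ j • g)
    (y : X) (hy : y ⤳ z) : G.presheaf.germ W y (hy.mem_open W.2 hz) τ = 0 := by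
  haveI : Module.Finite (X.presheaf.stalk z) (G.presheaf.stalk z) :=
    Groth.Agent.H8.finite_stalk_of_isCoh G hG z
  -- the germ of `a` at `z` is a non-unit
  have hau : ¬ IsUnit (X.presheaf.germ W z hz a) := by
    intro hu
    exact ha ((Scheme.mem_basicOpen _ _ _ hz).mpr hu)
  have hmem : G.presheaf.germ W z hz τ = 0 := by
    refine eq_zero_of_forall_pow_smul (R := X.presheaf.stalk z) (M := G.presheaf.stalk z)
      (X.presheaf.germ W z hz a) hau _ ?_
    intro j
    obtain ⟨g, hg⟩ := h j
    refine ⟨G.presheaf.germ W z hz g, ?_⟩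
    rw [hg]
    have h2 := Groth.Agent.H8.germ_smul G z hz (a ^ j) g
    rw [map_pow] at h2
    exact h2
  -- hence `τ` vanishes on a neighbourhood of `z`
  have h0 : G.presheaf.germ W z hz τ = G.presheaf.germ W z hz 0 := by rw [hmem, map_zero]
  obtain ⟨W', hzW', iU, _iV, hW'⟩ := TopCat.Presheaf.germ_eq G.presheaf z hz hz τ 0 h0
  rw [map_zero] at hW'
  have hyW' : y ∈ W' := hy.mem_open W'.2 hzW'
  have := TopCat.Presheaf.germ_res_apply G.presheaf iU y hyW' τ
  rw [← this, hW', map_zero]

end Groth.Agent.H89.Hyp_Krull
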