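import Mathlib
import Groth.Prelude.Def_CohB1
import Groth.Prelude.Def_Coh
import Groth.Agent.H18.Serre.Generation
import Groth.Agent.H8.CohAffine
import Groth.Agent.H8.FinType
import Groth.Agent.H22.QCohLimits

/-!
# (Q2) of helper22's squad for S9828: a quasi-coherent module of finite type on a qcqs scheme is
a quotient of a finitely presented module

Hypothesis-style: the statements (Q1) `exists_fp_through_section` and (Q3) `isFP_biprod` are
explicit hypotheses `hQ1`, `hQ3`.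
-/

set_option autoImplicit false
universe u v w
open CategoryTheory CategoryTheory.Limits AlgebraicGeometry TopologicalSpace Opposite
open AlgebraicGeometry.Scheme.Modules

namespace Groth.Agent.H89.FPExt_Q2

variable {X : Scheme.{u}}

/-- A quasi-coherent zero module is finitely presented. -/
theorem isFP_of_isZero (Z : X.Modules) [Z.IsQuasicoherent] (hZ : IsZero Z) : CohB1.IsFP Z := by
  refine Groth.Agent.H8.isFinitePresentation_of_forall_affine_finitePresentation (M := Z) ?_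
  intro U
  haveI : Subsingleton Γ(Z, (U : X.Opens)) := by
    refine ⟨fun a b => ?_⟩
    have h0 : (𝟙 Z : Z ⟶ Z) = 0 := hZ.eq_of_src _ _
    have ha : a = (0 : Z ⟶ Z).app (U : X.Opens) a :=
      congrArg (fun f : Z ⟶ Z => f.app (U : X.Opens) a) h0
    have hb : b = (0 : Z ⟶ Z).app (U : X.Opens) b :=
      congrArg (fun f : Z ⟶ Z => f.app (U : X.Opens) b) h0
    rw [ha, hb]
    rfl
  infer_instance

/-- Finitely many morphisms from finitely presented modules to `F` factor through a single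
morphism from a finitely presented module. -/
theorem exists_fp_of_list (F : X.Modules)
    (hQ3 : ∀ (A B : X.Modules), CohB1.IsFP A → CohB1.IsFP B → CohB1.IsFP (A ⊞ B))
    (G₀ : X.Modules) (h₀ : CohB1.IsFP G₀)
    (l : List (Σ G : X.Modules, G ⟶ F)) (hl : ∀ p ∈ l, CohB1.IsFP p.1) :
    ∃ (G : X.Modules) (φ : G ⟶ F), CohB1.IsFP G ∧ ∀ p ∈ l, ∃ j : p.1 ⟶ G, j ≫ φ = p.2 := by
  induction l with
  | nil => exact ⟨G₀, 0, h₀, by simp⟩
  | cons p l ih =>
    obtain ⟨G, φ, hG, hj⟩ := ih (fun q hq => hl q (List.mem_cons_of_mem _ hq))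
    refine ⟨p.1 ⊞ G, biprod.desc p.2 φ, hQ3 _ _ (hl p List.mem_cons_self) hG, ?_⟩
    intro q hq
    rcases List.mem_cons.mp hq with rfl | hq
    · exact ⟨biprod.inl, biprod.inl_desc _ _⟩
    · obtain ⟨j, hj⟩ := hj q hq
      exact ⟨j ≫ biprod.inr, by rw [Category.assoc, biprod.inr_desc, hj]⟩

/-- **(Q2), hypothesis-style.** -/
theorem exists_fp_epi_of [CompactSpace X] (F : X.Modules) [F.IsQuasicoherent]
    (hF : CohB1.IsFT F)
    (hQ1 : ∀ (V : X.Opens) (_ : IsAffineOpen V) (s : Γ(F, V)),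
      ∃ (G : X.Modules) (φ : G ⟶ F), CohB1.IsFP G ∧ s ∈ Set.range (φ.app V))
    (hQ3 : ∀ (A B : X.Modules), CohB1.IsFP A → CohB1.IsFP B → CohB1.IsFP (A ⊞ B)) :
    ∃ (G : X.Modules) (φ : G ⟶ F), CohB1.IsFP G ∧ Epi φ := by
  classical
  haveI : SheafOfModules.IsFiniteType (R := X.ringCatSheaf) F := hF
  -- a finite affine cover
  obtain ⟨t, ht⟩ := isCompact_univ.elim_finite_subcover
    (fun U : X.affineOpens => ((U : X.Opens) : Set X)) (fun U => U.1.2)
    (by
      intro x _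
      have hx : x ∈ (⨆ U : X.affineOpens, (U : X.Opens)) := by
        rw [iSup_affineOpens_eq_top X]; trivial
      obtain ⟨U, hU⟩ := Opens.mem_iSup.mp hx
      exact Set.mem_iUnion.mpr ⟨U, hU⟩)
  let U : t → X.Opens := fun i => (i.1 : X.Opens)
  have hU' : ∀ i, IsAffineOpen (U i) := fun i => i.1.2
  have hU : IsOpenCover U := by
    rw [IsOpenCover, eq_top_iff]
    intro x _
    obtain ⟨V, hV⟩ := Set.mem_iUnion.mp (ht (Set.mem_univ x))
    obtain ⟨hVt, hxV⟩ := Set.mem_iUnion.mp hV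
    exact Opens.mem_iSup.mpr ⟨⟨V, hVt⟩, hxV⟩
  -- finite generation of the sections
  have hfin : ∀ i, Module.Finite Γ(X, U i) Γ(F, U i) := fun i =>
    Groth.Agent.H8.finite_sections_of_isAffineOpen F (hU' i)
  have hS : ∀ i, ∃ S : Finset Γ(F, U i), Submodule.span Γ(X, U i) (S : Set Γ(F, U i)) = ⊤ :=
    fun i => (hfin i).fg_top
  choose S hSspan using hS
  -- the finitely many generators
  let A := Σ i : t, S i
  have hA : ∀ a : A, ∃ p : Σ G : X.Modules, G ⟶ F,
      CohB1.IsFP p.1 ∧ (a.2 : Γ(F, U a.1)) ∈ Set.range (p.2.app (U a.1)) := by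
    intro a
    obtain ⟨G, φ, hG, hs⟩ := hQ1 (U a.1) (hU' a.1) a.2
    exact ⟨⟨G, φ⟩, hG, hs⟩
  choose f hfFP hfmem using hA
  let l : List (Σ G : X.Modules, G ⟶ F) := (Finset.univ : Finset A).toList.map f
  have hl : ∀ p ∈ l, CohB1.IsFP p.1 := by
    intro p hp
    obtain ⟨a, _, rfl⟩ := List.mem_map.mp hp
    exact hfFP a
  -- the base object
  haveI : (kernel (𝟙 F)).IsQuasicoherent := Groth.Agent.H22.QCohLimits.isQuasicoherent_kernel _
  have h₀ : CohB1.IsFP (kernel (𝟙 F)) := isFP_of_isZero _ (isZero_kernel_of_mono _)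
  obtain ⟨G, φ, hG, hj⟩ := exists_fp_of_list F hQ3 _ h₀ l hl
  refine ⟨G, φ, hG, ?_⟩
  refine Groth.Agent.H18.Serre.epi_of_surjective_affine_cover φ U hU hU' (fun i x => ?_)
  have hx : x ∈ Submodule.span Γ(X, U i) (S i : Set Γ(F, U i)) := by
    rw [hSspan i]; trivial
  induction hx using Submodule.span_induction with
  | mem s hs =>
    obtain ⟨j, hjφ⟩ := hj (f ⟨i, ⟨s, hs⟩⟩)
      (List.mem_map.mpr ⟨_, Finset.mem_toList.mpr (Finset.mem_univ _), rfl⟩)
    obtain ⟨y, hy⟩ := hfmem ⟨i, ⟨s, hs⟩⟩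
    refine ⟨j.app (U i) y, ?_⟩
    have := congrArg (fun g : (f ⟨i, ⟨s, hs⟩⟩).1 ⟶ F => g.app (U i) y) hjφ
    exact this.trans hy
  | zero => exact ⟨0, map_zero _⟩
  | add a b _ _ ha hb =>
    obtain ⟨y, rfl⟩ := ha
    obtain ⟨y', rfl⟩ := hb
    exact ⟨y + y', map_add _ _ _⟩
  | smul c a _ ha =>
    obtain ⟨y, rfl⟩ := ha
    exact ⟨c • y, Scheme.Modules.Hom.app_smul _ c y⟩

end Groth.Agent.H89.FPExt_Q2
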