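import Mathlib
import Groth.Prelude.Def_EtModW
import Groth.Prelude.Def_ARSys
import Groth.Agent.H23.AdicDefs

/-!
# Sections of a sequential limit of pro-étale sheaves of modules = compatible families

Squad piece (A2) for helper23 (S14009).
-/

set_option autoImplicit false
universe u v
open CategoryTheory CategoryTheory.Limits AlgebraicGeometry Opposite
open Groth.Agent.H23.AdicDefs

namespace Groth.Agent.H89.Adic_A2

variable (Λ : Type (u + 1)) [CommRing Λ] {X : Scheme.{u}}

/-- sections over `W`, as a functor to types. -/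
noncomputable abbrev evW (W : X.ProEt) : EtModW.ModP Λ X ⥤ Type (u + 1) :=
  sheafToPresheaf _ _ ⋙ (evaluation _ _).obj (op W) ⋙ forget (ModuleCat.{u + 1} Λ)

/-- iterated transition maps of a compatible family. -/
lemma map_compat (H : ℕᵒᵖ ⥤ EtModW.ModP Λ X) (W : X.ProEt) (x : ∀ m, secM Λ H W m)
    (hx : x ∈ compat (secT Λ H W)) (n k : ℕ) :
    ((H.map (homOfLE (Nat.le_add_right n k)).op).hom.app (op W)).hom (x (n + k)) = x n := by
  induction k with
  | zero =>
    have : (homOfLE (Nat.le_add_right n 0)).op = 𝟙 (op n : ℕᵒᵖ) := Subsingleton.elim _ _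
    rw [this]
    erw [H.map_id]
    rfl
  | succ k ih =>
    have : (homOfLE (Nat.le_add_right n (k + 1))).op =
        ((homOfLE (Nat.le_succ (n + k))).op : (op (n + k + 1) : ℕᵒᵖ) ⟶ op (n + k)) ≫
          (homOfLE (Nat.le_add_right n k)).op := Subsingleton.elim _ _
    rw [this, H.map_comp]
    have h1 := hx (n + k)
    change ((H.map (homOfLE (Nat.le_add_right n k)).op).hom.app (op W)).hom
      (secT Λ H W (n + k) (x (n + k + 1))) = x n
    rw [h1, ih]

theorem secΦ_injective_range (H : ℕᵒᵖ ⥤ EtModW.ModP Λ X) (W : X.ProEt) :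
    Function.Injective (secΦ Λ H W) ∧ LinearMap.range (secΦ Λ H W) = compat (secT Λ H W) := by
  have hlim : IsLimit ((evW Λ W).mapCone (limit.cone H)) :=
    isLimitOfPreserves _ (limit.isLimit H)
  have key := (Types.isLimit_iff _).mp ⟨hlim⟩
  constructor
  · intro a b hab
    -- the section defined by `a`
    have hs : (fun j : ℕᵒᵖ => ((evW Λ W).mapCone (limit.cone H)).π.app j a) ∈
        (H ⋙ evW Λ W).sections := by
      intro j j' f
      exact ConcreteCategory.congr_hom (((evW Λ W).mapCone (limit.cone H)).w f) a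
    obtain ⟨y, -, hy⟩ := key _ hs
    have ha := hy a (fun j => rfl)
    have hb := hy b (fun j => by
      have := congrFun hab j.unop
      exact this.symm)
    rw [ha, hb]
  · ext x
    constructor
    · rintro ⟨y, rfl⟩
      intro m
      have := ConcreteCategory.congr_hom (((evW Λ W).mapCone (limit.cone H)).w
        ((homOfLE (Nat.le_succ m)).op : (op (m + 1) : ℕᵒᵖ) ⟶ op m)) y
      exact this
    · intro hx
      have hs : (fun j : ℕᵒᵖ => x j.unop) ∈ (H ⋙ evW Λ W).sections := by
        intro j j' f
        obtain ⟨m⟩ := j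
        obtain ⟨n⟩ := j'
        have hle : n ≤ m := leOfHom f.unop
        obtain ⟨k, rfl⟩ := Nat.exists_eq_add_of_le hle
        have hf : f = (homOfLE (Nat.le_add_right n k)).op := Subsingleton.elim _ _
        rw [hf]
        exact map_compat Λ H W x hx n k
      obtain ⟨y, hy, -⟩ := key _ hs
      refine ⟨y, ?_⟩
      funext m
      exact hy (op m)

end Groth.Agent.H89.Adic_A2
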