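import Mathlib
import Groth.Prelude.Def_EtModW
import Groth.Prelude.Def_ARSys
import Groth.Agent.H23.AdicDefs
import Groth.Agent.S14017

/-!
# Right exactness of `ε⁻¹` followed by sections over a weakly contractible object

Squad piece (P3a) for helper23 (S14012).
-/

set_option autoImplicit false
universe u v
open CategoryTheory CategoryTheory.Limits AlgebraicGeometry Opposite
open Groth.Agent.H23.AdicDefs

namespace Groth.Agent.H89.ML_P3a

variable (Λ : Type (u + 1)) [CommRing Λ] {X : Scheme.{u}}

instance [ProEtS.EpsCont X] : (EtModW.epsPullMod Λ X).IsLeftAdjoint :=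
  ((ProEtS.eps X).sheafAdjunctionContinuous (ModuleCat.{u + 1} Λ) X.smallEtaleTopology
    (Scheme.ProEt.topology X)).isLeftAdjoint

/-- sections of an exact sequence `K ⟶ M ⟶ N` of pro-étale sheaves with the first map factoring
epimorphically onto the kernel: exactness on sections over a weakly contractible object. -/
theorem exact_sections_of_exact (S : ShortComplex (EtModW.ModP Λ X)) (hS : S.Exact)
    (W : X.ProEt) (hW : ProEtS.IsWC W) (x : S.X₂.obj.obj (op W))
    (hx : (S.g.hom.app (op W)).hom x = 0) :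
    ∃ y : S.X₁.obj.obj (op W), (S.f.hom.app (op W)).hom y = x := by
  -- the kernel sequence
  let S' : ShortComplex (EtModW.ModP Λ X) :=
    ShortComplex.mk (kernel.ι S.g) S.g (kernel.condition _)
  have hS' : S'.Exact := ShortComplex.exact_of_f_is_kernel S' (kernelIsKernel _)
  haveI : Mono S'.f := by dsimp [S']; infer_instance
  have hS'' : (S'.map (Groth.Agent.S14017.ev Λ X W)).Exact :=
    hS'.map_of_mono_of_preservesKernel (Groth.Agent.S14017.ev Λ X W) inferInstance inferInstance
  obtain ⟨k, hk⟩ := (ShortComplex.moduleCat_exact_iff _).1 hS'' x hx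
  -- the lift to the kernel is an epimorphism
  haveI : Epi (kernel.lift S.g S.f S.zero) := (S.exact_iff_epi_kernel_lift).1 hS
  obtain ⟨y, hy⟩ := Groth.Agent.S14017.surj_of_epi Λ X (kernel.lift S.g S.f S.zero) W hW k
  refine ⟨y, ?_⟩
  have hfac : ((kernel.lift S.g S.f S.zero ≫ kernel.ι S.g).hom.app (op W)).hom y =
      (S.f.hom.app (op W)).hom y := by rw [kernel.lift_ι]
  rw [← hfac, ← hk, ← hy]
  rfl

theorem exact_sections_epsPullMod [ProEtS.EpsCont X] (T : ShortComplex (EtModW.Mod Λ X))
    (hT : T.Exact) (hg : Epi T.g) (W : X.ProEt) (hW : ProEtS.IsWC W) :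
    Function.Surjective (((EtModW.epsPullMod Λ X).map T.g).hom.app (op W)).hom ∧
    ∀ x : ((EtModW.epsPullMod Λ X).obj T.X₂).obj.obj (op W),
      (((EtModW.epsPullMod Λ X).map T.g).hom.app (op W)).hom x = 0 →
      ∃ y : ((EtModW.epsPullMod Λ X).obj T.X₁).obj.obj (op W),
        (((EtModW.epsPullMod Λ X).map T.f).hom.app (op W)).hom y = x := by
  haveI := hg
  haveI : (EtModW.epsPullMod Λ X).PreservesZeroMorphisms := inferInstance
  have hTL : (T.map (EtModW.epsPullMod Λ X)).Exact :=
    hT.map_of_epi_of_preservesCokernel (EtModW.epsPullMod Λ X) inferInstance inferInstance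
  haveI : Epi ((EtModW.epsPullMod Λ X).map T.g) := inferInstance
  refine ⟨Groth.Agent.S14017.surj_of_epi Λ X ((EtModW.epsPullMod Λ X).map T.g) W hW, ?_⟩
  intro x hx
  exact exact_sections_of_exact Λ (T.map (EtModW.epsPullMod Λ X)) hTL W hW x hx

end Groth.Agent.H89.ML_P3a
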