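import Mathlib
import Groth.Agent.H24.QFStrat.Defs

/-!
# The data `TS0`, `TS` are stable under precomposition (piece (BC) for S0170, helper24)
-/

set_option autoImplicit false
universe u
open CategoryTheory CategoryTheory.Limits AlgebraicGeometry
open Groth.Agent.H24.QFStrat Groth.Agent.H24.RadStrat

namespace Groth.Agent.H89.QFStrat_BC

/-- pasting: `pullback (k ≫ w) f` is the base change of `pullback w f` along `k`. -/
lemma isPullback_map {Y X W V : Scheme.{u}} (f : Y ⟶ X) (w : W ⟶ X) (k : V ⟶ W) :
    IsPullback (pullback.lift (pullback.fst (k ≫ w) f ≫ k) (pullback.snd (k ≫ w) f)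
        (by rw [Category.assoc, pullback.condition]) : pullback (k ≫ w) f ⟶ pullback w f)
      (pullback.fst (k ≫ w) f) (pullback.fst w f) k := by
  refine IsPullback.of_right (h₁₂ := pullback.snd w f) (h₂₂ := w) (v₁₃ := f) ?_ ?_
    (IsPullback.of_hasPullback w f).flip
  · rw [pullback.lift_snd]
    exact (IsPullback.of_hasPullback (k ≫ w) f).flip
  · rw [pullback.lift_fst]

theorem TS0_comp {Y X : Scheme.{u}} (f : Y ⟶ X) ⦃W V : Scheme.{u}⦄ (w : W ⟶ X) (k : V ⟶ W)
    (h : TS0 f w) : TS0 f (k ≫ w) := by
  obtain ⟨Z, z, σ, hσ, h1, h2, h3, h4⟩ := h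
  have hσ' : pullback.snd z k ≫ (k ≫ w) = (pullback.fst z k ≫ σ) ≫ f := by
    rw [Category.assoc, ← hσ, ← Category.assoc, ← Category.assoc, pullback.condition]
  -- the new lift is a base change of the old one
  have hpb : IsPullback (pullback.fst z k) (pullback.lift (pullback.snd z k) (pullback.fst z k ≫ σ) hσ')
      (pullback.lift z σ hσ)
      (pullback.lift (pullback.fst (k ≫ w) f ≫ k) (pullback.snd (k ≫ w) f)
        (by rw [Category.assoc, pullback.condition]) : pullback (k ≫ w) f ⟶ pullback w f) := by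
    refine IsPullback.of_bot (v₂₁ := pullback.fst (k ≫ w) f) (v₂₂ := pullback.fst w f)
      (h₃₁ := k) ?_ ?_ (isPullback_map f w k)
    · rw [pullback.lift_fst, pullback.lift_fst]
      exact IsPullback.of_hasPullback z k
    · apply pullback.hom_ext
      · rw [Category.assoc, pullback.lift_fst, Category.assoc, pullback.lift_fst,
          ← Category.assoc, pullback.lift_fst, pullback.condition]
      · rw [Category.assoc, pullback.lift_snd, Category.assoc, pullback.lift_snd,
          pullback.lift_snd]
  refine ⟨pullback z k, pullback.snd z k, pullback.fst z k ≫ σ, hσ', ?_, ?_, ?_, ?_⟩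
  · exact MorphismProperty.pullback_snd (P := @IsFinite) _ _ h1
  · exact MorphismProperty.pullback_snd (P := @Etale) _ _ h2
  · exact MorphismProperty.of_isPullback (P := @IsClosedImmersion) hpb h3
  · exact MorphismProperty.of_isPullback (P := @Surjective) hpb h4

theorem TS_comp {Y X : Scheme.{u}} (f : Y ⟶ X) ⦃W V : Scheme.{u}⦄ (w : W ⟶ X) (k : V ⟶ W)
    (h : TS f w) : TS f (k ≫ w) := by
  obtain ⟨W', g, ⟨hg1, hg2, hg3, hg4⟩, hTS0⟩ := h
  refine ⟨pullback g k, pullback.snd g k, ⟨?_, ?_, ?_, ?_⟩, ?_⟩
  · exact MorphismProperty.pullback_snd (P := @IsFinite) _ _ hg1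
  · exact MorphismProperty.pullback_snd (P := @Surjective) _ _ hg2
  · exact MorphismProperty.pullback_snd (P := @Flat) _ _ hg3
  · exact MorphismProperty.pullback_snd (P := @LocallyOfFinitePresentation) _ _ hg4
  · have := TS0_comp f (g ≫ w) (pullback.fst g k) hTS0
    have he : pullback.fst g k ≫ g ≫ w = pullback.snd g k ≫ k ≫ w := by
      rw [← Category.assoc, pullback.condition, Category.assoc]
    rw [he] at this
    exact this

end Groth.Agent.H89.QFStrat_BC
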