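import Mathlib
import Groth.Agent.S0786

/-!
# Subobjects of `i_* O_Z` come from quasi-coherent ideals of `O_Z` (piece (ID) of the coherent
dévissage squad)
-/

set_option autoImplicit false
universe u
open CategoryTheory CategoryTheory.Limits AlgebraicGeometry TopologicalSpace Opposite

namespace Groth.Agent.H89.Dev_ID

variable {X : Scheme.{u}}

lemma mono_of_app_injective {M N : X.Modules} (ψ : M ⟶ N)
    (h : ∀ O : X.Opens, Function.Injective (ψ.app O)) : Mono ψ := by
  haveI : ∀ O : (Opens X)ᵒᵖ, Mono (((Scheme.Modules.toPresheaf X).map ψ).app O) := fun O =>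
    (AddCommGrpCat.mono_iff_injective _).mpr (h O.unop)
  haveI : Mono ((Scheme.Modules.toPresheaf X).map ψ) := NatTrans.mono_of_mono_app _
  exact (Scheme.Modules.toPresheaf X).mono_of_mono_map this

/-- sections of a direct image are killed by the kernel ideal. -/
lemma smul_push_eq_zero {Z : Scheme.{u}} (i : Z ⟶ X) [QuasiCompact i] (M : Z.Modules) (U : X.affineOpens)
    (b : Γ(X, U.1)) (hb : b ∈ i.ker.ideal U)
    (t : Γ((Scheme.Modules.pushforward i).obj M, U.1)) : b • t = 0 := by
  rw [Scheme.Hom.ker_apply, RingHom.mem_ker] at hb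
  let t' : Γ(M, i ⁻¹ᵁ U.1) := t
  have h1 : b • t = ((i.app U.1).hom b • t' :) := rfl
  rw [h1, hb, zero_smul]
  rfl

theorem ID {Z : Scheme.{u}} (i : Z ⟶ X) [IsClosedImmersion i] (A : X.Modules) [A.IsQuasicoherent]
    (a : A ⟶ (Scheme.Modules.pushforward i).obj (Coh.structureModule Z)) [Mono a] :
    ∃ (I : Z.Modules) (ι : I ⟶ Coh.structureModule Z), Mono ι ∧ Coh.IsQCoh I ∧
      Nonempty ((Scheme.Modules.pushforward i).obj I ≅ A) := by
  have hk : ∀ (U : X.affineOpens) (b : Γ(X, U.1)), b ∈ i.ker.ideal U →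
      ∀ s : Γ(A, U.1), b • s = 0 := by
    intro U b hb s
    apply Groth.Agent.H8.app_injective_of_mono a U.1
    rw [map_zero, Scheme.Modules.Hom.app_smul]
    exact smul_push_eq_zero i _ U b hb _
  haveI hiso : IsIso ((Scheme.Modules.pullbackPushforwardAdjunction i).unit.app A) :=
    (Groth.Agent.H8.isIso_unit_iff i A).mpr hk
  let adj := Scheme.Modules.pullbackPushforwardAdjunction i
  let ι : (Scheme.Modules.pullback i).obj A ⟶ Coh.structureModule Z :=
    (adj.homEquiv A (Coh.structureModule Z)).symm a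
  have hι : adj.unit.app A ≫ (Scheme.Modules.pushforward i).map ι = a := by
    have := (adj.homEquiv A (Coh.structureModule Z)).apply_symm_apply a
    rw [Adjunction.homEquiv_unit] at this
    exact this
  have hmono : Mono ((Scheme.Modules.pushforward i).map ι) := by
    have h2 : (Scheme.Modules.pushforward i).map ι = inv (adj.unit.app A) ≫ a := by
      rw [IsIso.eq_inv_comp]; exact hι
    rw [h2]
    infer_instance
  refine ⟨(Scheme.Modules.pullback i).obj A, ι, ?_,
    Groth.Agent.H8.isQuasicoherent_pullback i A, ⟨(asIso (adj.unit.app A)).symm⟩⟩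
  apply mono_of_app_injective
  intro V
  obtain ⟨U, hU, hUV⟩ := i.isClosedEmbedding.isInducing.isOpen_iff.mp V.2
  obtain rfl : V = i ⁻¹ᵁ ⟨U, hU⟩ := by
    ext1; exact hUV.symm
  exact Groth.Agent.H8.app_injective_of_mono ((Scheme.Modules.pushforward i).map ι) ⟨U, hU⟩

end Groth.Agent.H89.Dev_ID
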