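import Mathlib
import Groth.Agent.H37.GeomSepClosed

/-!
# Counting connected components after extension of a separably closed field
(piece (CEXT) for S1337 / S1339)
-/

set_option autoImplicit false
universe u

namespace Groth.Agent.H89.ConnCountCEXT

open AlgebraicGeometry CategoryTheory Limits

/-- (CEXT) base change along an extension of a separably closed field does not change the
number of connected components. -/
theorem card_connectedComponents_of_isPullback_of_isSepClosed {L K : Type u} [Field L]
    [IsSepClosed L] [Field K] (j : Spec (CommRingCat.of K) ⟶ Spec (CommRingCat.of L))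
    {X Z : Scheme.{u}} (p : X ⟶ Spec (CommRingCat.of L)) (fst : Z ⟶ X)
    (snd : Z ⟶ Spec (CommRingCat.of K)) (h : IsPullback fst snd p j) :
    ENat.card (_root_.ConnectedComponents ↥Z) = ENat.card (_root_.ConnectedComponents ↥X) := by
  obtain ⟨φ, rfl⟩ := Spec.map_surjective j
  letI : Algebra L K := φ.hom.toAlgebra
  have hφ : φ = CommRingCat.ofHom (algebraMap L K) := rfl
  have hj : GeometricallyConnected (Spec.map φ) := by rw [hφ]; infer_instance
  have hjo : UniversallyOpen (Spec.map φ) := by rw [hφ]; infer_instance
  haveI h1 : GeometricallyConnected fst := MorphismProperty.of_isPullback h.flip hj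
  haveI h2 : UniversallyOpen fst := MorphismProperty.of_isPullback h.flip hjo
  exact ENat.card_congr (fst.connectedComponentsHomeomorph fst.isOpenMap).toEquiv

end Groth.Agent.H89.ConnCountCEXT
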