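import Mathlib

/-!
# Ring-theoretic core of the pinching (Milnor/Ferrand square) descent statements

`A → A'` a ring map, `A → B` a surjection with kernel `I`, such that `ker (A → A') ∩ I = 0` and the
ideal `I A'` consists of images of elements of `I` (so `A = B ×_{B ⊗ A'} A'`).
* `subsingleton_of_pinch`: an `A`-module `M` with `A' ⊗ M = 0` and `B ⊗ M = 0` is zero.
* `finite_of_pinch`: an `A`-module `M` with `A' ⊗ M` and `B ⊗ M` finite is finite.
-/

set_option autoImplicit false
universe u

open TensorProduct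

namespace Groth.Agent.H89.PinchRing

/-- Tensoring with a subsingleton on the right gives a subsingleton. -/
theorem subsingleton_tensor_right {R : Type*} [CommRing R] (M N : Type*) [AddCommGroup M]
    [Module R M] [AddCommGroup N] [Module R N] [Subsingleton N] : Subsingleton (M ⊗[R] N) := by
  refine ⟨fun x y => ?_⟩
  have hz : ∀ z : M ⊗[R] N, z = 0 := by
    intro z
    induction z using TensorProduct.induction_on with
    | zero => rfl
    | tmul m n => rw [Subsingleton.elim n 0, TensorProduct.tmul_zero]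
    | add a b ha hb => rw [ha, hb, add_zero]
  rw [hz x, hz y]

/-- In a pinching situation, if `A' ⊗ M = 0` then `I M = 0`. -/
theorem smul_eq_zero_of_pinch {A A' : Type u} [CommRing A] [CommRing A'] [Algebra A A']
    (I : Ideal A)
    (h1 : RingHom.ker (algebraMap A A') ⊓ I = ⊥)
    (h2 : ∀ a ∈ Ideal.map (algebraMap A A') I, ∃ i ∈ I, algebraMap A A' i = a)
    (M : Type u) [AddCommGroup M] [Module A M]
    [Subsingleton (A' ⊗[A] M)] (i : A) (hi : i ∈ I) (m : M) : i • m = 0 := by
  classical
  let J : Ideal A' := Ideal.map (algebraMap A A') I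
  let e₀ : I →ₗ[A] J :=
    { toFun := fun x => ⟨algebraMap A A' x.1, Ideal.mem_map_of_mem _ x.2⟩
      map_add' := fun x y => by
        apply Subtype.ext
        simp
      map_smul' := fun a x => by
        apply Subtype.ext
        simp [Algebra.smul_def] }
  have hinj : Function.Injective e₀ := by
    rw [← LinearMap.ker_eq_bot, LinearMap.ker_eq_bot']
    intro x hx
    have hx' : algebraMap A A' x.1 = 0 := congrArg Subtype.val hx
    have hmem : x.1 ∈ RingHom.ker (algebraMap A A') ⊓ I := ⟨hx', x.2⟩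
    rw [h1] at hmem
    exact Subtype.ext hmem
  have hsurj : Function.Surjective e₀ := by
    rintro ⟨a, ha⟩
    obtain ⟨i, hi, rfl⟩ := h2 a ha
    exact ⟨⟨i, hi⟩, rfl⟩
  let e : I ≃ₗ[A] J := LinearEquiv.ofBijective e₀ ⟨hinj, hsurj⟩
  haveI : Subsingleton (J ⊗[A'] (A' ⊗[A] M)) := subsingleton_tensor_right _ _
  haveI : Subsingleton (J ⊗[A] M) :=
    (TensorProduct.AlgebraTensorModule.cancelBaseChange A A' A' J M).symm.toEquiv.subsingleton
  let μ : J ⊗[A] M →ₗ[A] M :=
    TensorProduct.lift ((LinearMap.lsmul A M) ∘ₗ (Submodule.subtype I) ∘ₗ e.symm.toLinearMap)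
  have hμ : μ (e ⟨i, hi⟩ ⊗ₜ[A] m) = i • m := by
    simp [μ]
  rw [← hμ, Subsingleton.elim (e ⟨i, hi⟩ ⊗ₜ[A] m) 0, map_zero]

/-- **Pinching: zero descends.** -/
theorem subsingleton_of_pinch {A A' B : Type u} [CommRing A] [CommRing A'] [CommRing B]
    [Algebra A A'] [Algebra A B] (hB : Function.Surjective (algebraMap A B))
    (h1 : RingHom.ker (algebraMap A A') ⊓ RingHom.ker (algebraMap A B) = ⊥)
    (h2 : ∀ a ∈ Ideal.map (algebraMap A A') (RingHom.ker (algebraMap A B)),
        ∃ i ∈ RingHom.ker (algebraMap A B), algebraMap A A' i = a)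
    (M : Type u) [AddCommGroup M] [Module A M]
    [Subsingleton (A' ⊗[A] M)] [Subsingleton (B ⊗[A] M)] : Subsingleton M := by
  have hkill : ∀ i ∈ RingHom.ker (algebraMap A B), ∀ m : M, i • m = 0 :=
    fun i hi m => smul_eq_zero_of_pinch (RingHom.ker (algebraMap A B)) h1 h2 M i hi m
  have hgen : ∀ m : M, m ∈ RingHom.ker (algebraMap A B) • (⊤ : Submodule A M) := by
    intro m
    have hex : Function.Exact (Submodule.subtype (RingHom.ker (algebraMap A B)))
        (Algebra.linearMap A B) := by
      intro y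
      constructor
      · intro hy
        exact ⟨⟨y, hy⟩, rfl⟩
      · rintro ⟨x, rfl⟩
        exact x.2
    have hB' : Function.Surjective (Algebra.linearMap A B) := fun b => by
      obtain ⟨a, rfl⟩ := hB b
      exact ⟨a, rfl⟩
    have hex' := rTensor_exact M hex hB'
    have h0 : (Algebra.linearMap A B).rTensor M (1 ⊗ₜ[A] m) = 0 := Subsingleton.elim _ _
    obtain ⟨t, ht⟩ := (hex' _).mp h0
    have hm : m = TensorProduct.lid A M
        ((Submodule.subtype (RingHom.ker (algebraMap A B))).rTensor M t) := by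
      rw [ht]; simp
    rw [hm]
    clear hm ht h0
    induction t using TensorProduct.induction_on with
    | zero => simp
    | tmul i x =>
      simp only [LinearMap.rTensor_tmul, Submodule.subtype_apply, TensorProduct.lid_tmul]
      exact Submodule.smul_mem_smul i.2 Submodule.mem_top
    | add a b ha hb =>
      rw [map_add, map_add]
      exact Submodule.add_mem _ ha hb
  refine ⟨fun x y => ?_⟩
  have hz : ∀ m : M, m = 0 := by
    intro m
    refine Submodule.smul_induction_on (p := fun m => m = 0) (hgen m)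
      (fun i hi n _ => hkill i hi n) (fun a b ha hb => by rw [ha, hb, add_zero])
  rw [hz x, hz y]

/-- **Pinching: finiteness descends.** -/
theorem finite_of_pinch {A A' B : Type u} [CommRing A] [CommRing A'] [CommRing B]
    [Algebra A A'] [Algebra A B] (hB : Function.Surjective (algebraMap A B))
    (h1 : RingHom.ker (algebraMap A A') ⊓ RingHom.ker (algebraMap A B) = ⊥)
    (h2 : ∀ a ∈ Ideal.map (algebraMap A A') (RingHom.ker (algebraMap A B)),
        ∃ i ∈ RingHom.ker (algebraMap A B), algebraMap A A' i = a)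
    (M : Type u) [AddCommGroup M] [Module A M]
    [hfA' : Module.Finite A' (A' ⊗[A] M)] [hfB : Module.Finite B (B ⊗[A] M)] :
    Module.Finite A M := by
  obtain ⟨T1, hT1⟩ := Module.finite_def.mp hfA'
  obtain ⟨T2, hT2⟩ := Module.finite_def.mp hfB
  obtain ⟨N1, hN1, hsub1⟩ := TensorProduct.exists_finite_submodule_right_of_setFinite
    (T1 : Set (A' ⊗[A] M)) T1.finite_toSet
  obtain ⟨N2, hN2, hsub2⟩ := TensorProduct.exists_finite_submodule_right_of_setFinite
    (T2 : Set (B ⊗[A] M)) T2.finite_toSet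
  have hNfg : (N1 ⊔ N2).FG := (Module.Finite.iff_fg.mp hN1).sup (Module.Finite.iff_fg.mp hN2)
  have key : ∀ (C : Type u) [CommRing C] [Algebra A C] (T : Finset (C ⊗[A] M))
      (_ : Submodule.span C (T : Set (C ⊗[A] M)) = ⊤)
      (N' : Submodule A M) (_ : N' ≤ N1 ⊔ N2)
      (_ : (T : Set (C ⊗[A] M)) ⊆ LinearMap.range (N'.subtype.lTensor C)),
      Subsingleton (C ⊗[A] (M ⧸ (N1 ⊔ N2))) := by
    intro C _ _ T hT N' hN'N hsub
    have hker : LinearMap.ker (LinearMap.baseChange C (N1 ⊔ N2).mkQ) = ⊤ := by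
      rw [eq_top_iff, ← hT, Submodule.span_le]
      intro t ht
      obtain ⟨s, rfl⟩ := hsub ht
      show LinearMap.baseChange C (N1 ⊔ N2).mkQ (N'.subtype.lTensor C s) = 0
      rw [LinearMap.baseChange_eq_ltensor, ← LinearMap.comp_apply, ← LinearMap.lTensor_comp]
      have hcomp : (N1 ⊔ N2).mkQ ∘ₗ N'.subtype = 0 := by
        ext x
        simp [Submodule.Quotient.mk_eq_zero, hN'N x.2]
      rw [hcomp, LinearMap.lTensor_zero, LinearMap.zero_apply]
    have hsurj : Function.Surjective (LinearMap.baseChange C (N1 ⊔ N2).mkQ) := by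
      rw [LinearMap.baseChange_eq_ltensor]
      exact LinearMap.lTensor_surjective C (Submodule.mkQ_surjective _)
    refine ⟨fun x y => ?_⟩
    obtain ⟨x', rfl⟩ := hsurj x
    obtain ⟨y', rfl⟩ := hsurj y
    have hx : x' ∈ LinearMap.ker (LinearMap.baseChange C (N1 ⊔ N2).mkQ) := by
      rw [hker]; trivial
    have hy : y' ∈ LinearMap.ker (LinearMap.baseChange C (N1 ⊔ N2).mkQ) := by
      rw [hker]; trivial
    rw [LinearMap.mem_ker.mp hx, LinearMap.mem_ker.mp hy]
  haveI := key A' T1 hT1 N1 le_sup_left hsub1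
  haveI := key B T2 hT2 N2 le_sup_right hsub2
  haveI : Subsingleton (M ⧸ (N1 ⊔ N2)) := subsingleton_of_pinch hB h1 h2 (M ⧸ (N1 ⊔ N2))
  have hNtop : N1 ⊔ N2 = ⊤ := Submodule.Quotient.subsingleton_iff.mp inferInstance
  rw [Module.finite_def, ← hNtop]
  exact hNfg

end Groth.Agent.H89.PinchRing
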