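import Groth.Agent.H10.FlatDescent
import Groth.Agent.H2.LocalCriterion
import Groth.Agent.H89.PinchRing
import Mathlib

/-!
# Pinching squares: descent of flatness (ring-theoretic core)

`A → A'` a ring map, `A → B` a surjection with kernel `I`, `ker (A → A') ∩ I = 0` and `I A'`
consists of images of elements of `I`.  If `A' ⊗ M` is flat over `A'` and `B ⊗ M` is flat over
`B`, then `M` is flat over `A`.  (Ferrand, *Conducteur, descente et pincement*, Thm 2.2 (iv).)
Uses helper10's elementary `Tor₁` calculus and helper2's base change lemma.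
-/

set_option autoImplicit false
universe u

open TensorProduct Function
open Groth.Agent.H10.FlatDescent

namespace Groth.Agent.H89.PinchFlat

variable {A A' B : Type u} [CommRing A] [CommRing A'] [CommRing B] [Algebra A A'] [Algebra A B]

/-- For an ideal `𝔠 ≤ I` whose image in `A'` is already an ideal of `A'`,
`𝔠 ⊗ M → A ⊗ M` is injective when `A' ⊗ M` is `A'`-flat. -/
theorem rTensor_subtype_injective_of_saturated
    (I : Ideal A) (h1 : RingHom.ker (algebraMap A A') ⊓ I = ⊥)
    (M : Type u) [AddCommGroup M] [Module A M] [Module.Flat A' (A' ⊗[A] M)]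
    (𝔠 : Ideal A) (hcI : 𝔠 ≤ I)
    (hsat : ∀ y ∈ Ideal.map (algebraMap A A') 𝔠, ∃ c ∈ 𝔠, algebraMap A A' c = y) :
    Injective (LinearMap.rTensor M (Submodule.subtype 𝔠)) := by
  classical
  let L : Ideal A' := Ideal.map (algebraMap A A') 𝔠
  let e₀ : 𝔠 →ₗ[A] L :=
    { toFun := fun x => ⟨algebraMap A A' x.1, Ideal.mem_map_of_mem _ x.2⟩
      map_add' := fun x y => by
        apply Subtype.ext
        simp
      map_smul' := fun a x => by
        apply Subtype.ext
        simp [Algebra.smul_def] }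
  have hinj : Injective e₀ := by
    rw [← LinearMap.ker_eq_bot, LinearMap.ker_eq_bot']
    intro x hx
    have hx' : algebraMap A A' x.1 = 0 := congrArg Subtype.val hx
    have hmem : x.1 ∈ RingHom.ker (algebraMap A A') ⊓ I := ⟨hx', hcI x.2⟩
    rw [h1] at hmem
    exact Subtype.ext hmem
  have hsurj : Surjective e₀ := by
    rintro ⟨a, ha⟩
    obtain ⟨c, hc, rfl⟩ := hsat a ha
    exact ⟨⟨c, hc⟩, rfl⟩
  let e : 𝔠 ≃ₗ[A] L := LinearEquiv.ofBijective e₀ ⟨hinj, hsurj⟩
  have hcomp : (Algebra.linearMap A A') ∘ₗ (Submodule.subtype 𝔠) =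
      ((Submodule.subtype L).restrictScalars A) ∘ₗ e.toLinearMap := by
    ext x; rfl
  have hL : Injective (((Submodule.subtype L).restrictScalars A).rTensor M) :=
    Groth.Agent.H2.rTensor_injective_of_flat_baseChange (R := A) (A := A') M
      (Submodule.subtype L) (Submodule.subtype_injective L)
  have he : Injective (e.toLinearMap.rTensor M) := (LinearEquiv.rTensor M e).injective
  have h2' : Injective ((((Submodule.subtype L).restrictScalars A) ∘ₗ e.toLinearMap).rTensor M) := by
    rw [LinearMap.rTensor_comp, LinearMap.coe_comp]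
    exact hL.comp he
  rw [← hcomp, LinearMap.rTensor_comp, LinearMap.coe_comp] at h2'
  exact Injective.of_comp h2'

/-- An `A`-module killed by `ker (A → B)` is `Tor₁`-orthogonal to `M`, if `B` is and `B ⊗ M` is
`B`-flat. -/
theorem torZero_of_killed (hB : Surjective (algebraMap A B))
    (M : Type u) [AddCommGroup M] [Module A M] [hfl : Module.Flat B (B ⊗[A] M)]
    (hTB : TorZero (R := A) B M)
    (N : Type u) [AddCommGroup N] [Module A N]
    (hN : ∀ i ∈ RingHom.ker (algebraMap A B), ∀ n : N, i • n = 0) : TorZero (R := A) N M := by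
  letI : SMul B N := ⟨fun b n => (hB b).choose • n⟩
  have hsmul : ∀ (c : A) (x : N), (algebraMap A B c) • x = c • x := by
    intro c x
    show (hB (algebraMap A B c)).choose • x = c • x
    have hk : (hB (algebraMap A B c)).choose - c ∈ RingHom.ker (algebraMap A B) := by
      rw [RingHom.mem_ker, map_sub, (hB (algebraMap A B c)).choose_spec, sub_self]
    have := hN _ hk x
    rw [sub_smul, sub_eq_zero] at this
    exact this
  letI : Module B N := Function.Surjective.moduleLeft (algebraMap A B) hB hsmul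
  haveI : IsScalarTower A B N := IsScalarTower.of_algebraMap_smul hsmul
  exact TorZero.of_algebra B hTB hfl

section

variable (hB : Surjective (algebraMap A B))
    (h1 : RingHom.ker (algebraMap A A') ⊓ RingHom.ker (algebraMap A B) = ⊥)
    (h2 : ∀ a ∈ Ideal.map (algebraMap A A') (RingHom.ker (algebraMap A B)),
        ∃ i ∈ RingHom.ker (algebraMap A B), algebraMap A A' i = a)
    (M : Type u) [AddCommGroup M] [Module A M]
    [Module.Flat A' (A' ⊗[A] M)]

include h1 h2 in
/-- Ideals contained in `I = ker (A → B)` are `M`-flat-compatible. -/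
theorem rTensor_subtype_injective_of_le
    (hkill : ∀ (N : Type u) [AddCommGroup N] [Module A N],
      (∀ i ∈ RingHom.ker (algebraMap A B), ∀ n : N, i • n = 0) → TorZero (R := A) N M)
    (𝔟 : Ideal A) (h𝔟 : 𝔟 ≤ RingHom.ker (algebraMap A B)) :
    Injective (LinearMap.rTensor M (Submodule.subtype 𝔟)) := by
  classical
  let φ : A →+* A' := algebraMap A A'
  let L : Ideal A' := Ideal.map φ 𝔟
  let 𝔟t : Ideal A := RingHom.ker (algebraMap A B) ⊓ Ideal.comap φ L
  have hle : 𝔟 ≤ 𝔟t := le_inf h𝔟 Ideal.le_comap_map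
  have hmap : Ideal.map φ 𝔟t = L :=
    le_antisymm (Ideal.map_le_iff_le_comap.mpr inf_le_right) (Ideal.map_mono hle)
  have hsat : ∀ y ∈ Ideal.map (algebraMap A A') 𝔟t, ∃ c ∈ 𝔟t, algebraMap A A' c = y := by
    intro y hy
    have hy' : y ∈ L := by rw [← hmap]; exact hy
    have hyJ : y ∈ Ideal.map φ (RingHom.ker (algebraMap A B)) := Ideal.map_mono h𝔟 hy'
    obtain ⟨i, hi, rfl⟩ := h2 y hyJ
    exact ⟨i, ⟨hi, hy'⟩, rfl⟩
  have h𝔟t : Injective (LinearMap.rTensor M (Submodule.subtype 𝔟t)) :=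
    rTensor_subtype_injective_of_saturated (RingHom.ker (algebraMap A B)) h1 M 𝔟t inf_le_left hsat
  have hK : ∀ y ∈ L, ∀ i ∈ RingHom.ker (algebraMap A B), ∃ b ∈ 𝔟, φ b = φ i * y := by
    intro y hy
    have hy' : y ∈ Submodule.span A' (φ '' (𝔟 : Set A)) := hy
    refine Submodule.span_induction
      (p := fun y _ => ∀ i ∈ RingHom.ker (algebraMap A B), ∃ b ∈ 𝔟, φ b = φ i * y)
      ?_ ?_ ?_ ?_ hy'
    · rintro _ ⟨b₀, hb₀, rfl⟩ i _
      exact ⟨i * b₀, 𝔟.mul_mem_left i hb₀, by rw [map_mul]⟩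
    · intro i _
      exact ⟨0, 𝔟.zero_mem, by simp⟩
    · intro y₁ y₂ _ _ ih₁ ih₂ i hi
      obtain ⟨b₁, hb₁, e₁⟩ := ih₁ i hi
      obtain ⟨b₂, hb₂, e₂⟩ := ih₂ i hi
      exact ⟨b₁ + b₂, 𝔟.add_mem hb₁ hb₂, by rw [map_add, e₁, e₂, mul_add]⟩
    · intro c y' _ ih i hi
      have hic : φ i * c ∈ Ideal.map φ (RingHom.ker (algebraMap A B)) :=
        Ideal.mul_mem_right _ _ (Ideal.mem_map_of_mem φ hi)
      obtain ⟨i', hi', e'⟩ := h2 _ hic
      obtain ⟨b, hb, e⟩ := ih i' hi'
      refine ⟨b, hb, ?_⟩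
      rw [e, show φ i' = φ i * c from e', smul_eq_mul, mul_assoc]
  have hK' : ∀ i ∈ RingHom.ker (algebraMap A B), ∀ x ∈ 𝔟t, i * x ∈ 𝔟 := by
    intro i hi x hx
    obtain ⟨b, hb, e⟩ := hK (φ x) hx.2 i hi
    have hk1 : i * x - b ∈ RingHom.ker (algebraMap A A') := by
      rw [RingHom.mem_ker, map_sub, map_mul]
      exact sub_eq_zero.mpr e.symm
    have hmem : i * x - b ∈ RingHom.ker (algebraMap A A') ⊓ RingHom.ker (algebraMap A B) :=
      ⟨hk1, Ideal.sub_mem _ (Ideal.mul_mem_right _ _ hi) (h𝔟 hb)⟩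
    rw [h1] at hmem
    have hxb : i * x = b := sub_eq_zero.mp hmem
    rw [hxb]; exact hb
  let inc : 𝔟 →ₗ[A] 𝔟t := Submodule.inclusion hle
  let 𝔟' : Submodule A 𝔟t := Submodule.comap (Submodule.subtype 𝔟t) 𝔟
  have hexact : Function.Exact inc 𝔟'.mkQ := by
    intro y
    rw [Submodule.mkQ_apply, Submodule.Quotient.mk_eq_zero]
    constructor
    · intro hy
      exact ⟨⟨y.1, hy⟩, Subtype.ext rfl⟩
    · rintro ⟨x, rfl⟩
      exact x.2
  have hT : TorZero (R := A) (𝔟t ⧸ 𝔟') M := by
    apply hkill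
    intro i hi n
    obtain ⟨y, rfl⟩ := Submodule.mkQ_surjective 𝔟' n
    rw [← map_smul, Submodule.mkQ_apply, Submodule.Quotient.mk_eq_zero]
    show (i • y).1 ∈ 𝔟
    exact hK' i hi y.1 y.2
  have hinc : Injective (LinearMap.rTensor M inc) :=
    hT.rTensor_injective inc 𝔟'.mkQ (Submodule.inclusion_injective hle)
      (Submodule.mkQ_surjective _) hexact
  have hcomp : Submodule.subtype 𝔟 = (Submodule.subtype 𝔟t) ∘ₗ inc := by ext x; rfl
  rw [hcomp, LinearMap.rTensor_comp, LinearMap.coe_comp]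
  exact h𝔟t.comp hinc

include hB h1 h2 in
/-- **Pinching: flatness descends.** -/
theorem flat_of_pinch [Module.Flat B (B ⊗[A] M)] : Module.Flat A M := by
  classical
  have hIinj : Injective (LinearMap.rTensor M (Submodule.subtype (RingHom.ker (algebraMap A B)))) :=
    rTensor_subtype_injective_of_saturated (RingHom.ker (algebraMap A B)) h1 M _ le_rfl h2
  have hex : Function.Exact (Submodule.subtype (RingHom.ker (algebraMap A B)))
      (Algebra.linearMap A B) := by
    intro y
    constructor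
    · intro hy
      exact ⟨⟨y, hy⟩, rfl⟩
    · rintro ⟨x, rfl⟩
      exact x.2
  have hB' : Surjective (Algebra.linearMap A B) := fun b => by
    obtain ⟨a, rfl⟩ := hB b
    exact ⟨a, rfl⟩
  have hTB : TorZero (R := A) B M :=
    TorZero.of_rTensor_injective (TorZero.of_flat (N := A) (M := M))
      (Submodule.subtype (RingHom.ker (algebraMap A B))) (Algebra.linearMap A B) hB' hex hIinj
  have hkill : ∀ (N : Type u) [AddCommGroup N] [Module A N],
      (∀ i ∈ RingHom.ker (algebraMap A B), ∀ n : N, i • n = 0) → TorZero (R := A) N M :=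
    fun N _ _ hN => torZero_of_killed hB M hTB N hN
  rw [Module.Flat.iff_rTensor_injective']
  intro 𝔞
  have h4a : Injective (LinearMap.rTensor M
      (Submodule.subtype (𝔞 ⊓ RingHom.ker (algebraMap A B)))) :=
    rTensor_subtype_injective_of_le h1 h2 M hkill _ inf_le_right
  let ψ : A →+* B := algebraMap A B
  let 𝔞B : Ideal B := Ideal.map ψ 𝔞
  let q : 𝔞 →ₗ[A] 𝔞B :=
    { toFun := fun x => ⟨ψ x.1, Ideal.mem_map_of_mem _ x.2⟩
      map_add' := fun x y => by
        apply Subtype.ext
        simp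
      map_smul' := fun a x => by
        apply Subtype.ext
        simp [Algebra.smul_def, ψ] }
  have hq : Surjective q := by
    rintro ⟨y, hy⟩
    obtain ⟨x, hx, rfl⟩ := (Ideal.mem_map_iff_of_surjective ψ hB).mp hy
    exact ⟨⟨x, hx⟩, rfl⟩
  let inc2 : (𝔞 ⊓ RingHom.ker (algebraMap A B) : Ideal A) →ₗ[A] 𝔞 :=
    Submodule.inclusion inf_le_left
  have hex2 : Function.Exact inc2 q := by
    intro x
    constructor
    · intro hx
      have hx0 : ψ x.1 = 0 := congrArg Subtype.val hx
      exact ⟨⟨x.1, ⟨x.2, hx0⟩⟩, Subtype.ext rfl⟩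
    · rintro ⟨z, rfl⟩
      apply Subtype.ext
      exact z.2.2
  have hex2' := rTensor_exact M hex2 hq
  have h𝔞B : Injective (((Submodule.subtype 𝔞B).restrictScalars A).rTensor M) :=
    Groth.Agent.H2.rTensor_injective_of_flat_baseChange (R := A) (A := B) M
      (Submodule.subtype 𝔞B) (Submodule.subtype_injective _)
  have hsq : ((Submodule.subtype 𝔞B).restrictScalars A) ∘ₗ q =
      (Algebra.linearMap A B) ∘ₗ (Submodule.subtype 𝔞) := by
    ext x; rfl
  rw [injective_iff_map_eq_zero]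
  intro x hx
  have hα : (q.rTensor M) x = 0 := by
    apply h𝔞B
    rw [map_zero, ← LinearMap.comp_apply, ← LinearMap.rTensor_comp, hsq, LinearMap.rTensor_comp,
      LinearMap.comp_apply, hx, map_zero]
  obtain ⟨z, rfl⟩ := (hex2' x).mp hα
  have hβ : (LinearMap.rTensor M (Submodule.subtype (𝔞 ⊓ RingHom.ker (algebraMap A B)))) z = 0 := by
    have hc : Submodule.subtype (𝔞 ⊓ RingHom.ker (algebraMap A B)) =
        (Submodule.subtype 𝔞) ∘ₗ inc2 := by ext; rfl
    rw [hc, LinearMap.rTensor_comp, LinearMap.comp_apply, hx]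
  have hz : z = 0 := by
    apply h4a
    rw [hβ, map_zero]
  rw [hz, map_zero]

end

end Groth.Agent.H89.PinchFlat
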