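import Groth.Agent.H89.PinchSheaf
import Groth.Agent.H89.PinchFlat
import Groth.Agent.H8.LocFreeStalk
import Groth.Agent.H8.FlatAffine
import Mathlib

/-!
# Pinching squares: descent of flatness of sections over affine opens
-/

set_option autoImplicit false
set_option linter.style.haveILetI false
universe u
open CategoryTheory CategoryTheory.Limits AlgebraicGeometry TopologicalSpace Opposite TensorProduct

namespace Groth.Agent.H89.PinchSheafFlat

open Groth.Agent.H8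

/-- A quasi-coherent module with flat stalks has flat sections over affine opens. -/
theorem flat_sections_of_isFlat {X : Scheme.{u}} (F : X.Modules) [F.IsQuasicoherent]
    {U : X.Opens} (hU : IsAffineOpen U)
    (h : ∀ x ∈ U, Module.Flat (X.presheaf.stalk x) (F.presheaf.stalk x)) :
    Module.Flat Γ(X, U) Γ(F, U) := by
  refine Groth.Agent.H8.flat_of_forall_maximal_localized (R := Γ(X, U)) (D := Γ(X, U)) Γ(F, U) ?_
  intro P hP
  obtain ⟨y, hy⟩ : ∃ y : PrimeSpectrum Γ(X, U), y.asIdeal = P := ⟨⟨P, hP.isPrime⟩, rfl⟩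
  subst hy
  have hxU : hU.fromSpec y ∈ U := by
    rw [← SetLike.mem_coe, ← hU.range_fromSpec]
    exact ⟨y, rfl⟩
  have hprime : hU.primeIdealOf ⟨hU.fromSpec y, hxU⟩ = y := by
    apply hU.fromSpec.isOpenEmbedding.injective
    rw [hU.fromSpec_primeIdealOf]
  letI c1 : Algebra Γ(X, U) (X.presheaf.stalk (hU.fromSpec y)) :=
    X.presheaf.algebra_section_stalk ⟨hU.fromSpec y, hxU⟩
  haveI l3 := hU.isLocalization_stalk ⟨hU.fromSpec y, hxU⟩
  letI mD := moduleSectionStalk F (hU.fromSpec y) hxU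
  haveI t := isScalarTower_sectionStalk F (hU.fromSpec y) hxU
  haveI hloc := isLocalizedModule_germₗ F hU (hU.fromSpec y) hxU
  haveI hflat : Module.Flat Γ(X, U) (F.presheaf.stalk (hU.fromSpec y)) :=
    (Module.flat_iff_of_isLocalization (X.presheaf.stalk (hU.fromSpec y))
      (hU.primeIdealOf ⟨hU.fromSpec y, hxU⟩).asIdeal.primeCompl
      (F.presheaf.stalk (hU.fromSpec y))).mp (h _ hxU)
  rw [hprime] at hloc
  let e := IsLocalizedModule.linearEquiv y.asIdeal.primeCompl (germₗ F (hU.fromSpec y) hxU)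
    (LocalizedModule.mkLinearMap y.asIdeal.primeCompl Γ(F, U))
  exact Module.Flat.of_linearEquiv e.symm

section Main

variable {X Y Y' : Scheme.{u}} (f : X ⟶ Y) (u : Y' ⟶ Y) [IsAffineHom f] [IsClosedImmersion u]
  (G : Y.Modules) [G.IsQuasicoherent] {V : Y.Opens} (hV : IsAffineOpen V)
  (hM : RingHom.ker (f.app V).hom ⊓ RingHom.ker (u.app V).hom = ⊥ ∧
      ∀ a ∈ Ideal.map (f.app V).hom (RingHom.ker (u.app V).hom),
        ∃ i ∈ RingHom.ker (u.app V).hom, (f.app V).hom i = a)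

include hV hM in
theorem flat_sections_of_pinch
    (h1 : Module.Flat Γ(Y', u ⁻¹ᵁ V) Γ((Scheme.Modules.pullback u).obj G, u ⁻¹ᵁ V))
    (h2 : Module.Flat Γ(X, f ⁻¹ᵁ V) Γ((Scheme.Modules.pullback f).obj G, f ⁻¹ᵁ V)) :
    Module.Flat Γ(Y, V) Γ(G, V) := by
  letI algA' : Algebra Γ(Y, V) Γ(X, f ⁻¹ᵁ V) := (f.appLE V (f ⁻¹ᵁ V) le_rfl).hom.toAlgebra
  letI algB : Algebra Γ(Y, V) Γ(Y', u ⁻¹ᵁ V) := (u.appLE V (u ⁻¹ᵁ V) le_rfl).hom.toAlgebra
  have hfA : algebraMap Γ(Y, V) Γ(X, f ⁻¹ᵁ V) = (f.app V).hom := by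
    show (f.appLE V (f ⁻¹ᵁ V) le_rfl).hom = _
    rw [Scheme.Hom.appLE_eq_app]
  have hfB : algebraMap Γ(Y, V) Γ(Y', u ⁻¹ᵁ V) = (u.app V).hom := by
    show (u.appLE V (u ⁻¹ᵁ V) le_rfl).hom = _
    rw [Scheme.Hom.appLE_eq_app]
  have e1 := Groth.Agent.H8.sectionsPullbackEquiv f G hV (hV.preimage f) le_rfl
  have e2 := Groth.Agent.H8.sectionsPullbackEquiv u G hV (hV.preimage u) le_rfl
  haveI : Module.Flat Γ(X, f ⁻¹ᵁ V) (Γ(X, f ⁻¹ᵁ V) ⊗[Γ(Y, V)] Γ(G, V)) :=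
    Module.Flat.of_linearEquiv e1.symm
  haveI : Module.Flat Γ(Y', u ⁻¹ᵁ V) (Γ(Y', u ⁻¹ᵁ V) ⊗[Γ(Y, V)] Γ(G, V)) :=
    Module.Flat.of_linearEquiv e2.symm
  refine Groth.Agent.H89.PinchFlat.flat_of_pinch (A := Γ(Y, V)) (A' := Γ(X, f ⁻¹ᵁ V))
    (B := Γ(Y', u ⁻¹ᵁ V)) ?_ ?_ ?_ Γ(G, V)
  · rw [hfB]; exact u.app_surjective V hV
  · rw [hfA, hfB]; exact hM.1
  · rw [hfA, hfB]; exact hM.2

end Main

end Groth.Agent.H89.PinchSheafFlat
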