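import Mathlib
import Groth.Prelude.Def_ArtFun

/-!
# Fibre products along a small extension in `Art k k` (piece (ART) for S12260, helper61)
-/

set_option autoImplicit false
universe u
open CategoryTheory
open ArtFun ArtFun.Art

namespace Groth.Agent.H89.LocHilbGlue_ART

lemma range_vec1 {R : Type*} (x : R) : Set.range ![x] = {x} := by
  ext y
  constructor
  · rintro ⟨i, rfl⟩
    have : i = 0 := Subsingleton.elim _ _
    subst this
    simp
  · intro hy
    rw [Set.mem_singleton_iff] at hy
    subst hy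
    exact ⟨0, by simp⟩

/-- in a local ring, `c * x = 0` with `x ≠ 0` forces `c` into the maximal ideal. -/
lemma mem_max_of_mul_eq_zero {R : Type*} [CommRing R] [IsLocalRing R] (x : R) (hx : x ≠ 0)
    (c : Fin 1 → R) (hc : ∑ l, c l * ![x] l = 0) : ∀ l, c l ∈ IsLocalRing.maximalIdeal R := by
  intro l
  have hl : l = 0 := Subsingleton.elim _ _
  subst hl
  rw [Fin.sum_univ_one] at hc
  have hc' : c 0 * x = 0 := by simpa using hc
  by_contra hmem
  have hu : IsUnit (c 0) := by
    by_contra hnu
    exact hmem ((IsLocalRing.mem_maximalIdeal _).2 hnu)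
  exact hx ((hu.mul_right_eq_zero).mp hc')

theorem ART {k : Type u} [Field k] {B A A' A'' : Art k k} {p' : B ⟶ A'} {p'' : B ⟶ A''}
    {f' : A' ⟶ A} {f'' : A'' ⟶ A} (h : IsFibreProd p' p'' f' f'') (hf'' : IsSmallExt f'') :
    ∃ (τ : B) (t : A''), p'' τ = t ∧
      Ideal.span (Set.range ![τ]) = RingHom.ker p'.toAlgHom ∧
      Ideal.span (Set.range ![t]) = RingHom.ker f''.toAlgHom ∧
      IsSmallExt p' ∧
      (∀ c : Fin 1 → B, ∑ l, c l * ![τ] l = 0 → ∀ l, c l ∈ IsLocalRing.maximalIdeal B) ∧
      (∀ c : Fin 1 → A'', ∑ l, c l * ![t] l = 0 → ∀ l, c l ∈ IsLocalRing.maximalIdeal A'') := by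
  obtain ⟨hsurj, hne, ⟨⟨t, ht⟩⟩, hkill⟩ := hf''
  have ht' : RingHom.ker f''.toAlgHom = Ideal.span {t} := ht
  have htker : t ∈ RingHom.ker f''.toAlgHom := by
    rw [ht']; exact Ideal.mem_span_singleton_self t
  have hft : f'' t = 0 := htker
  have ht0 : t ≠ 0 := by
    intro h0
    apply hne
    rw [ht', h0]
    simp
  -- `𝔪 · t = 0`
  have hmt : ∀ m ∈ IsLocalRing.maximalIdeal A'', m * t = 0 := by
    intro m hm
    have : m * t ∈ IsLocalRing.maximalIdeal A'' * RingHom.ker f''.toAlgHom :=
      Ideal.mul_mem_mul hm htker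
    rw [hkill] at this
    exact this
  -- the element `τ`
  obtain ⟨τ, hτ1, hτ2⟩ := h.surj 0 t (by
    rw [hft]
    exact map_zero f'.toAlgHom)
  have hτ0 : τ ≠ 0 := by
    intro h0
    apply ht0
    rw [← hτ2, h0]
    exact map_zero p''.toAlgHom
  -- `𝔪_B · τ = 0`
  have hmτ : ∀ m ∈ IsLocalRing.maximalIdeal B, m * τ = 0 := by
    intro m hm
    apply h.inj
    · change p'.toAlgHom (m * τ) = p'.toAlgHom 0
      rw [map_mul, map_zero]
      change p'.toAlgHom m * p' τ = 0
      rw [hτ1, mul_zero]
    · change p''.toAlgHom (m * τ) = p''.toAlgHom 0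
      rw [map_mul, map_zero]
      change p'' m * p'' τ = 0
      rw [hτ2]
      apply hmt
      rw [mem_maximalIdeal_iff, res_app]
      exact (mem_maximalIdeal_iff B m).1 hm
  -- kernel of `p'`
  have hker : RingHom.ker p'.toAlgHom = Ideal.span {τ} := by
    apply le_antisymm
    · intro b hb
      have hb0 : p' b = 0 := hb
      have h1 : f'' (p'' b) = 0 := by
        rw [← h.w_apply, hb0]
        exact map_zero f'.toAlgHom
      have h2 : p'' b ∈ Ideal.span {t} := by
        rw [← ht']; exact h1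
      obtain ⟨c, hc⟩ := Ideal.mem_span_singleton'.1 h2
      -- replace `c` by a scalar
      set x : k := A''.res c with hx
      have hcm : c - algebraMap k A'' x ∈ IsLocalRing.maximalIdeal A'' := by
        rw [mem_maximalIdeal_iff, map_sub, AlgHom.commutes]
        simp [hx]
      have hct : c * t = algebraMap k A'' x * t := by
        have := hmt _ hcm
        rw [sub_mul, sub_eq_zero] at this
        exact this
      have hb' : b = algebraMap k B x * τ := by
        apply h.inj
        · change p' b = p'.toAlgHom (algebraMap k B x * τ)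
          rw [map_mul, hb0]
          change 0 = p'.toAlgHom (algebraMap k B x) * p' τ
          rw [hτ1, mul_zero]
        · change p'' b = p''.toAlgHom (algebraMap k B x * τ)
          rw [map_mul, AlgHom.commutes]
          change p'' b = algebraMap k A'' x * p'' τ
          rw [hτ2, ← hct, hc]
      rw [hb']
      exact Ideal.mul_mem_left _ _ (Ideal.mem_span_singleton_self τ)
    · rw [Ideal.span_singleton_le_iff_mem]
      exact hτ1
  refine ⟨τ, t, hτ2, ?_, ?_, ⟨?_, ?_, ⟨⟨τ, hker⟩⟩, ?_⟩, ?_, ?_⟩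
  · rw [range_vec1, hker]
  · rw [range_vec1, ht']
  · -- surjectivity of `p'`
    intro a'
    obtain ⟨a'', ha''⟩ := hsurj (f' a')
    obtain ⟨b, hb1, -⟩ := h.surj a' a'' ha''.symm
    exact ⟨b, hb1⟩
  · intro hbot
    apply hτ0
    have : τ ∈ RingHom.ker p'.toAlgHom := by
      rw [hker]; exact Ideal.mem_span_singleton_self τ
    rw [hbot] at this
    exact this
  · rw [eq_bot_iff, Ideal.mul_le]
    intro m hm x hx
    rw [hker] at hx
    obtain ⟨c, rfl⟩ := Ideal.mem_span_singleton'.1 hx
    rw [Ideal.mem_bot, mul_comm c τ, ← mul_assoc, hmτ m hm, zero_mul]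
  · exact mem_max_of_mul_eq_zero τ hτ0
  · exact mem_max_of_mul_eq_zero t ht0

end Groth.Agent.H89.LocHilbGlue_ART
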