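import Mathlib
import Groth.Prelude.Def_Omega3
import Groth.Agent.H78.UT3

/-!
# Universal first order thickenings restricted to affine opens (piece (UA) for S9783)
-/

set_option autoImplicit false
universe u

namespace Groth.Agent.H89.UTRingUA

open AlgebraicGeometry CategoryTheory Limits

/-- Cancelling a monomorphism on the base: the converse of `UT2.postcomp_openImmersion`. -/
theorem of_comp_mono {Z Z' X X₁ : Scheme.{u}} {a : Z ⟶ X} {i : Z ⟶ Z'} {b : Z' ⟶ X}
    (m : X ⟶ X₁) [Mono m] (hu : OmegaSh.IsUnivThickening (a ≫ m) i (b ≫ m)) :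
    OmegaSh.IsUnivThickening a i b := by
  obtain ⟨hi, hic, huniv⟩ := hu
  refine ⟨hi, by rw [← cancel_mono m, Category.assoc, hic], ?_⟩
  intro T T' j bb aa hj hjb
  have hjb' : j ≫ (bb ≫ m) = aa ≫ (a ≫ m) := by
    rw [← Category.assoc, hjb, Category.assoc]
  obtain ⟨a', ⟨ha1, ha2⟩, hauniq⟩ := huniv T T' j (bb ≫ m) aa hj hjb'
  refine ⟨a', ⟨ha1, by rw [← cancel_mono m, Category.assoc, ha2]⟩, ?_⟩
  rintro a'' ⟨h1, h2⟩
  exact hauniq a'' ⟨h1, by rw [← Category.assoc, h2]⟩

/-- (UA) the scheme-level universal thickening restricted to affine opens. -/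
theorem isUnivThickening_spec_of_affineOpens {Z Z' X : Scheme.{u}} {h : Z ⟶ X} {i : Z ⟶ Z'}
    {h' : Z' ⟶ X} (hu : OmegaSh.IsUnivThickening h i h')
    {V : X.Opens} (hV : IsAffineOpen V) {W' : Z'.Opens} (hW' : IsAffineOpen W')
    (e : W' ≤ h' ⁻¹ᵁ V) :
    OmegaSh.IsUnivThickening (Spec.map (h'.appLE V W' e ≫ i.app W')) (Spec.map (i.app W'))
      (Spec.map (h'.appLE V W' e)) := by
  haveI : IsClosedImmersion i := hu.1.1.1
  have hW : IsAffineOpen (i ⁻¹ᵁ W') := hW'.preimage i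
  have hcomm : hW.fromSpec ≫ i = Spec.map (i.app W') ≫ hW'.fromSpec := by
    rw [Scheme.Hom.app_eq_appLE]
    exact (IsAffineOpen.SpecMap_appLE_fromSpec i hW' hW le_rfl).symm
  have hsq : IsPullback (Spec.map (i.app W')) hW.fromSpec hW'.fromSpec i :=
    IsOpenImmersion.isPullback _ _ _ _ hcomm (by
      rw [IsAffineOpen.opensRange_fromSpec, IsAffineOpen.opensRange_fromSpec])
  have h1 := Groth.Agent.H78.UT2.restrict_openImmersion hu hW.fromSpec hW'.fromSpec
    (Spec.map (i.app W')) hsq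
  have e1 : hW'.fromSpec ≫ h' = Spec.map (h'.appLE V W' e) ≫ hV.fromSpec :=
    (IsAffineOpen.SpecMap_appLE_fromSpec h' hV hW' e).symm
  have e2 : hW.fromSpec ≫ h = Spec.map (h'.appLE V W' e ≫ i.app W') ≫ hV.fromSpec := by
    rw [← hu.2.1, ← Category.assoc, hcomm, Category.assoc, e1, Spec.map_comp, Category.assoc]
  rw [e1, e2] at h1
  exact of_comp_mono hV.fromSpec h1

end Groth.Agent.H89.UTRingUA
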