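import Mathlib
import Groth.Prelude.Def_Omega3
import Groth.Agent.H78.UT3

/-!
# Universal first order thickenings: from `Spec` to rings (piece (UB) for S9783)
-/

set_option autoImplicit false
universe u

namespace Groth.Agent.H89.UTRingUB

open AlgebraicGeometry CategoryTheory Limits

/-- Naturality of `ΓSpecIso`, elementwise. -/
theorem ΓSpecIso_nat {R S : CommRingCat.{u}} (φ : R ⟶ S) (z : Γ(Spec R, ⊤)) :
    (Scheme.ΓSpecIso S).hom ((Spec.map φ).appTop z) = φ ((Scheme.ΓSpecIso R).hom z) := by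
  have := Scheme.ΓSpecIso_naturality φ
  exact congrArg (fun f => f.hom z) this

/-- A ring map inducing a closed immersion on spectra is surjective. -/
theorem surjective_of_isClosedImmersion {R S : CommRingCat.{u}} (φ : R ⟶ S)
    [IsClosedImmersion (Spec.map φ)] : Function.Surjective φ := by
  intro c
  obtain ⟨z, hz⟩ :=
    (IsClosedImmersion.isAffine_surjective_of_isAffine (f := Spec.map φ)).2
      ((Scheme.ΓSpecIso S).inv c)
  refine ⟨(Scheme.ΓSpecIso R).hom z, ?_⟩
  rw [← ΓSpecIso_nat, hz]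
  exact congrArg (fun f => f.hom c) (Scheme.ΓSpecIso S).inv_hom_id

/-- The kernel of `φ` has square zero if the kernel of `Spec.map φ` has. -/
theorem ker_sq_of_ker_specMap_sq {R S : CommRingCat.{u}} (φ : R ⟶ S)
    (hker : (Spec.map φ).ker * (Spec.map φ).ker = ⊥) : RingHom.ker φ.hom ^ 2 = ⊥ := by
  have h0 := congrArg (fun K => K.ideal ⟨⊤, isAffineOpen_top (Spec R)⟩) hker
  simp only [Scheme.IdealSheafData.ideal_mul, Pi.mul_apply,
    Groth.Agent.H93.IdealComap.ideal_top_ker, Scheme.IdealSheafData.ideal_bot,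
    Pi.bot_apply] at h0
  rw [pow_two, eq_bot_iff]
  refine Ideal.mul_le.mpr fun x hx y hy => ?_
  have hmem : ∀ z : R, z ∈ RingHom.ker φ.hom →
      (Scheme.ΓSpecIso R).inv z ∈ RingHom.ker (Spec.map φ).appTop.hom := by
    intro z hz
    rw [RingHom.mem_ker] at hz ⊢
    have inj : Function.Injective (Scheme.ΓSpecIso S).hom :=
      (ConcreteCategory.bijective_of_isIso (Scheme.ΓSpecIso S).hom).1
    apply inj
    rw [map_zero]
    refine (ΓSpecIso_nat φ _).trans ?_
    have : (Scheme.ΓSpecIso R).hom ((Scheme.ΓSpecIso R).inv z) = z :=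
      congrArg (fun f => f.hom z) (Scheme.ΓSpecIso R).inv_hom_id
    rw [this]
    exact hz
  have hxy : (Scheme.ΓSpecIso R).inv x * (Scheme.ΓSpecIso R).inv y ∈
      RingHom.ker (Spec.map φ).appTop.hom * RingHom.ker (Spec.map φ).appTop.hom :=
    Ideal.mul_mem_mul (hmem x hx) (hmem y hy)
  rw [h0, Ideal.mem_bot, ← map_mul] at hxy
  have inj : Function.Injective (Scheme.ΓSpecIso R).inv :=
    (ConcreteCategory.bijective_of_isIso (Scheme.ΓSpecIso R).inv).1
  exact Ideal.mem_bot.mpr (inj (hxy.trans (map_zero _).symm))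

/-- (UB) `Spec`-level universal thickening implies ring-level universal thickening. -/
theorem isUnivThickeningRing_of_spec (A C C' : Type u) [CommRing A] [CommRing C] [CommRing C']
    [Algebra A C] [Algebra A C'] (π : C' →ₐ[A] C)
    (hu : OmegaSh.IsUnivThickening (Spec.map (CommRingCat.ofHom (algebraMap A C)))
      (Spec.map (CommRingCat.ofHom π.toRingHom)) (Spec.map (CommRingCat.ofHom (algebraMap A C')))) :
    OmegaSh.IsUnivThickeningRing A C C' π := by
  obtain ⟨hi, -, huniv⟩ := hu
  haveI : IsClosedImmersion (Spec.map (CommRingCat.ofHom π.toRingHom)) := hi.1.1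
  refine ⟨surjective_of_isClosedImmersion (CommRingCat.ofHom π.toRingHom),
    ker_sq_of_ker_specMap_sq (CommRingCat.ofHom π.toRingHom) hi.2, ?_⟩
  intro B _ _ I hI a
  -- the test thickening
  let ρ : CommRingCat.of B ⟶ CommRingCat.of (B ⧸ I) := CommRingCat.ofHom (Ideal.Quotient.mk I)
  have hρker : RingHom.ker ρ.hom ^ 2 = ⊥ := by
    have : RingHom.ker ρ.hom = I := Ideal.mk_ker
    rw [this]; exact hI
  haveI : IsClosedImmersion (Spec.map ρ) :=
    IsClosedImmersion.spec_of_surjective _ Ideal.Quotient.mk_surjective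
  have hj : MoreMor.IsFirstOrderThickening (Spec.map ρ) :=
    Groth.Agent.H78.UT2.firstOrder_of_closedImmersion _
      (Groth.Agent.H78.UT2.ker_specMap_sq ρ hρker)
  have hjb : Spec.map ρ ≫ Spec.map (CommRingCat.ofHom (algebraMap A B)) =
      Spec.map (CommRingCat.ofHom a.toRingHom) ≫
        Spec.map (CommRingCat.ofHom (algebraMap A C)) := by
    rw [← Spec.map_comp, ← Spec.map_comp]
    congr 1
    ext r
    exact (a.commutes r).symm
  obtain ⟨a', ⟨ha1, ha2⟩, hauniq⟩ := huniv _ _ (Spec.map ρ)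
    (Spec.map (CommRingCat.ofHom (algebraMap A B))) (Spec.map (CommRingCat.ofHom a.toRingHom))
    hj hjb
  obtain ⟨γ, rfl⟩ := Spec.map_surjective a'
  rw [← Spec.map_comp, ← Spec.map_comp, Spec.map_inj] at ha1
  rw [← Spec.map_comp, Spec.map_inj] at ha2
  have h1' : ∀ s' : C', Ideal.Quotient.mk I (γ s') = a (π s') := fun s' =>
    congrArg (fun f => f.hom s') ha1
  have h2' : ∀ r : A, γ (algebraMap A C' r) = algebraMap A B r := fun r =>
    congrArg (fun f => f.hom r) ha2
  let γA : C' →ₐ[A] B :=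
    { toRingHom := γ.hom
      commutes' := h2' }
  refine ⟨γA, ?_, ?_⟩
  · ext s'
    exact h1' s'
  · intro a'' ha''
    have h3 : ∀ s' : C', Ideal.Quotient.mk I (a'' s') = a (π s') := fun s' =>
      congrArg (fun f => f s') ha''
    have := hauniq (Spec.map (CommRingCat.ofHom a''.toRingHom)) ⟨?_, ?_⟩
    · rw [Spec.map_inj] at this
      ext s'
      exact congrArg (fun f => f.hom s') this
    · rw [← Spec.map_comp, ← Spec.map_comp]
      congr 1
      ext s'
      exact h3 s'
    · rw [← Spec.map_comp]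
      congr 1
      ext r
      exact a''.commutes r

end Groth.Agent.H89.UTRingUB
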