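import Mathlib
import Groth.Prelude.Def_SGA1
import Groth.Agent.H69.QuotBasis

/-!
# Quotient of an affine scheme by a finite group (piece (AQ) for S2907, helper79)
-/

set_option autoImplicit false
universe u
open CategoryTheory CategoryTheory.Limits AlgebraicGeometry

namespace Groth.Agent.H89.QuotGlue_AQ

variable {V : Scheme.{u}} {G : Type u} [Group G]

/-- the subring of invariant global sections. -/
def invSubring (ρ : G →* Aut V) : Subring Γ(V, ⊤) where
  carrier := {t | ∀ g : G, (ρ g).hom.appTop.hom t = t}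
  mul_mem' ha hb g := by rw [map_mul, ha g, hb g]
  one_mem' g := map_one _
  add_mem' ha hb g := by rw [map_add, ha g, hb g]
  zero_mem' g := map_zero _
  neg_mem' ha g := by rw [map_neg, ha g]

/-- the quotient map `V ⟶ Spec Γ(V)^G`. -/
noncomputable def quotMap (ρ : G →* Aut V) : V ⟶ Spec (CommRingCat.of (invSubring ρ)) :=
  V.toSpecΓ ≫ Spec.map (CommRingCat.ofHom (invSubring ρ).subtype)

lemma quotMap_appTop (ρ : G →* Aut V) :
    (quotMap ρ).appTop = (Scheme.ΓSpecIso (CommRingCat.of (invSubring ρ))).hom ≫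
      CommRingCat.ofHom (invSubring ρ).subtype := by
  rw [quotMap, Scheme.Hom.comp_appTop, Scheme.toSpecΓ_appTop]
  exact Scheme.ΓSpecIso_naturality (CommRingCat.ofHom (invSubring ρ).subtype)

theorem exists_isQuot_of_isAffine {V : Scheme.{u}} [IsAffine V] {G : Type u} [Group G] [Finite G]
    (ρ : G →* Aut V) : ∃ (Y : Scheme.{u}) (q : V ⟶ Y), IsAffine Y ∧ SGA1.IsQuot ρ q := by
  refine ⟨Spec (CommRingCat.of (invSubring ρ)), quotMap ρ, inferInstance, ?_⟩
  have hbij : Function.Bijective (Scheme.ΓSpecIso (CommRingCat.of (invSubring ρ))).hom.hom :=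
    ConcreteCategory.bijective_of_isIso (Scheme.ΓSpecIso (CommRingCat.of (invSubring ρ))).hom
  have happ : ∀ x, (quotMap ρ).appTop.hom x =
      (invSubring ρ).subtype ((Scheme.ΓSpecIso (CommRingCat.of (invSubring ρ))).hom.hom x) := by
    intro x
    rw [quotMap_appTop]
    rfl
  apply Groth.Agent.H69.QuotBasis.isQuot_of_isAffine
  · intro g
    rw [quotMap, ← Category.assoc, Scheme.toSpecΓ_naturality, Category.assoc, ← Spec.map_comp]
    congr 2
    ext b
    exact b.2 g
  · intro x y hxy
    rw [happ, happ] at hxy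
    exact hbij.1 (Subtype.val_injective hxy)
  · intro t ht
    obtain ⟨x, hx⟩ := hbij.2 (⟨t, ht⟩ : invSubring ρ)
    refine ⟨x, ?_⟩
    rw [happ, hx]
    rfl

end Groth.Agent.H89.QuotGlue_AQ
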