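import Mathlib
import Groth.Agent.H15.FPA.Defs2

/-!
# The idempotent system `x_k (T_i - x_i)` is unramified away from `V(t_l)` (piece (D2) for S9298)
-/

set_option autoImplicit false
universe u

open MvPolynomial
open Groth.Agent.H15.FPA

namespace Groth.Agent.H89.ALG_D2

theorem unramAt_aux {A : Type u} [CommRing A] {r : ℕ} (T : Fin r → A) (l : Fin r) (s : A) (e : ℕ)
    (hs : s ^ e = T l ^ 3) : UnramAt (idemSys T) s := by
  classical
  refine ⟨e, fun p => Pi.single (finProdFinEquiv (l, p)) (C (T l) ^ 2) +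
      Pi.single (finProdFinEquiv (p, l)) (-(C (T l) ^ 2)) +
      Pi.single (finProdFinEquiv (l, l)) (C (T p) * (C (T l) - 2 * X l)), ?_⟩
  intro p k
  have key : (∑ j, (Pi.single (finProdFinEquiv (l, p)) (C (T l) ^ 2) +
      Pi.single (finProdFinEquiv (p, l)) (-(C (T l) ^ 2)) +
      Pi.single (finProdFinEquiv (l, l)) (C (T p) * (C (T l) - 2 * X l)) :
        Fin (r * r) → MvPolynomial (Fin r) A) j *
        pderiv k (idemSys T j)) - C (s ^ e) * (if p = k then 1 else 0) =
      (if k = l then -4 * C (T p) else 0) * idemSys T (finProdFinEquiv (l, l)) := by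
    simp only [Pi.add_apply, add_mul, Finset.sum_add_distrib, Pi.single_apply, ite_mul, zero_mul,
      Finset.sum_ite_eq', Finset.mem_univ, if_true, idemSys_apply]
    rw [hs]
    simp only [Derivation.leibniz, map_sub, pderiv_C, pderiv_X, Pi.single_apply, smul_eq_mul,
      C_pow]
    have e1 : (l = k) = (k = l) := propext eq_comm
    have e2 : (k = p) = (p = k) := propext eq_comm
    have e3 : (l = p) = (p = l) := propext eq_comm
    simp only [e1]
    by_cases h1 : k = l <;> by_cases h2 : p = k <;> by_cases h3 : p = l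
    · simp [h1, h2, h3]; ring
    · exact absurd (h2.trans h1) h3
    · exact absurd (h3.trans h1.symm) h2
    · simp [h1, h2, h3]; ring
    · exact absurd (h2.symm.trans h3) h1
    · simp [h1, h2, h3]; ring
    · have h1' : ¬ l = k := fun h => h1 h.symm
      simp [h1, h1', h2, h3]
    · have h1' : ¬ l = k := fun h => h1 h.symm
      simp [h1, h1', h2, h3]
  rw [key]
  exact Ideal.mul_mem_left _ _ (Ideal.subset_span ⟨_, rfl⟩)

/-- (D2) -/
theorem unramAt_idemSys {A : Type u} [CommRing A] {r : ℕ} (t : Fin r → A) (M : Fin r → ℕ)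
    (l : Fin r) : UnramAt (idemSys (fun i => t i ^ M i)) (t l) :=
  unramAt_aux _ l (t l) (3 * M l) (by simp only [pow_mul'])

end Groth.Agent.H89.ALG_D2
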