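import Mathlib

/-!
# Affine-open toolkit for `S7660` (finding an affine open containing finitely many points)

Prime avoidance and related statements for an affine open `U` of a scheme `X`, phrased with
points of `X` and basic opens `X.basicOpen g`, `g : Γ(X, U)`.
-/

open AlgebraicGeometry CategoryTheory TopologicalSpace Opposite

universe u

namespace Groth.Agent.H89.AffNbhd

section Ring

/-- prime avoidance, in the form: an ideal contained in none of finitely many primes has an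
element lying in none of them. -/
lemma exists_mem_notMem_of_primes {R : Type*} [CommRing R] {ι : Type*} (I : Ideal R)
    (S : Finset ι) (P : ι → Ideal R) (hP : ∀ i ∈ S, (P i).IsPrime) (h : ∀ i ∈ S, ¬ I ≤ P i) :
    ∃ g ∈ I, ∀ i ∈ S, g ∉ P i := by
  by_contra hcon
  push Not at hcon
  obtain ⟨i₀, hi₀, -⟩ := hcon 0 I.zero_mem
  have hsub : (I : Set R) ⊆ ⋃ i ∈ (↑S : Set ι), (P i : Set R) := by
    intro g hg
    obtain ⟨i, hi, hgi⟩ := hcon g hg
    exact Set.mem_biUnion (Finset.mem_coe.mpr hi) hgi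
  obtain ⟨i, hi, hle⟩ := (Ideal.subset_union_prime i₀ i₀ (fun i hi _ _ => hP i hi)).mp hsub
  exact h i hi hle

end Ring

variable {X : Scheme.{u}}

lemma fromSpec_mem_basicOpen {U : X.Opens} (hU : IsAffineOpen U) (r : Γ(X, U))
    (p : PrimeSpectrum Γ(X, U)) : hU.fromSpec p ∈ X.basicOpen r ↔ r ∉ p.asIdeal := by
  have h := hU.fromSpec_preimage_basicOpen r
  have h2 : hU.fromSpec p ∈ X.basicOpen r ↔ p ∈ (hU.fromSpec ⁻¹ᵁ X.basicOpen r) := Iff.rfl
  rw [h2, h]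
  exact PrimeSpectrum.mem_basicOpen r p

lemma mem_primeIdealOf_iff {U : X.Opens} (hU : IsAffineOpen U) (r : Γ(X, U)) (x : X)
    (hx : x ∈ U) : r ∈ (hU.primeIdealOf ⟨x, hx⟩).asIdeal ↔ x ∉ X.basicOpen r := by
  have h := fromSpec_mem_basicOpen hU r (hU.primeIdealOf ⟨x, hx⟩)
  rw [hU.fromSpec_primeIdealOf] at h
  constructor
  · intro hr hxr
    exact (h.mp hxr) hr
  · intro hxr
    by_contra hr
    exact hxr (h.mpr hr)

/-- a point of the affine open `U` from an ideal disjoint from a submonoid. -/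
lemma exists_point_of_disjoint {U : X.Opens} (hU : IsAffineOpen U) (I : Ideal Γ(X, U))
    (M : Submonoid Γ(X, U)) (h : Disjoint (I : Set Γ(X, U)) (M : Set Γ(X, U))) :
    ∃ y : X, y ∈ U ∧ (∀ r ∈ I, y ∉ X.basicOpen r) ∧ (∀ m ∈ M, y ∈ X.basicOpen m) := by
  obtain ⟨P, hP, hIP, hPM⟩ := Ideal.exists_le_prime_disjoint I M h
  let p : PrimeSpectrum Γ(X, U) := ⟨P, hP⟩
  refine ⟨hU.fromSpec p, ?_, ?_, ?_⟩
  · have : hU.fromSpec p ∈ Set.range hU.fromSpec := ⟨p, rfl⟩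
    rw [hU.range_fromSpec] at this
    exact this
  · intro r hr
    rw [fromSpec_mem_basicOpen hU r p, not_not]
    exact hIP hr
  · intro m hm
    rw [fromSpec_mem_basicOpen hU m p]
    exact fun hmP => Set.disjoint_left.mp hPM hmP hm

/-- a section of an affine open with vanishing germ at `y` is killed by a function not
vanishing at `y`. -/
lemma exists_mul_eq_zero_of_germ_eq_zero {U : X.Opens} (hU : IsAffineOpen U) (δ : Γ(X, U))
    (y : X) (hy : y ∈ U) (h : X.presheaf.germ U y hy δ = 0) :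
    ∃ e : Γ(X, U), y ∈ X.basicOpen e ∧ e * δ = 0 := by
  have h0 : X.presheaf.germ U y hy δ = X.presheaf.germ U y hy 0 := by rw [h, map_zero]
  obtain ⟨W, hyW, iU, iV, heq⟩ := TopCat.Presheaf.germ_eq X.presheaf y hy hy δ 0 h0
  obtain ⟨e₀, heW, hye⟩ := hU.exists_basicOpen_le (V := W) ⟨y, hyW⟩ hy
  have H : X.presheaf.map (homOfLE (X.basicOpen_le e₀)).op δ = 0 := by
    have h1 : (homOfLE (X.basicOpen_le e₀)).op = iU.op ≫ (homOfLE heW).op :=
      Quiver.Hom.unop_inj (Subsingleton.elim _ _)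
    rw [h1, Functor.map_comp, CommRingCat.comp_apply, heq, map_zero, map_zero]
  obtain ⟨n, hn⟩ := exists_pow_mul_eq_zero_of_res_basicOpen_eq_zero_of_isAffineOpen X hU δ e₀ H
  refine ⟨e₀ ^ n, ?_, hn⟩
  rw [X.mem_basicOpen _ y hy, map_pow]
  exact ((X.mem_basicOpen _ y hy).mp hye).pow n

/-- prime avoidance on an affine open: finitely many points of `U ∩ N` lie in a basic open of
`U` contained in `N`. -/
lemma exists_basicOpen_mem_le {U : X.Opens} (hU : IsAffineOpen U) (F : Finset X) (N : X.Opens)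
    (hFU : ∀ x ∈ F, x ∈ U) (hFN : ∀ x ∈ F, x ∈ N) :
    ∃ g : Γ(X, U), (∀ x ∈ F, x ∈ X.basicOpen g) ∧ X.basicOpen g ≤ N := by
  classical
  let J : Ideal Γ(X, U) := PrimeSpectrum.vanishingIdeal {p | hU.fromSpec p ∉ N}
  have hJmem : ∀ e : Γ(X, U), X.basicOpen e ≤ N → e ∈ J := by
    intro e he
    refine (PrimeSpectrum.mem_vanishingIdeal _ _).mpr ?_
    intro q hq
    by_contra hne
    exact hq (he ((fromSpec_mem_basicOpen hU e q).mpr hne))
  let P : {x // x ∈ F} → Ideal Γ(X, U) :=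
    fun x => (hU.primeIdealOf ⟨x.1, hFU x.1 x.2⟩).asIdeal
  have hJ : ∀ x ∈ F.attach, ¬ J ≤ P x := by
    intro x _ hle
    obtain ⟨e, heN, hxe⟩ := hU.exists_basicOpen_le (V := N) ⟨x.1, hFN x.1 x.2⟩ (hFU x.1 x.2)
    have h1 : e ∈ P x := hle (hJmem e heN)
    exact ((mem_primeIdealOf_iff hU e x.1 (hFU x.1 x.2)).mp h1) hxe
  obtain ⟨g, hgJ, hg⟩ := exists_mem_notMem_of_primes J F.attach P
    (fun x _ => (hU.primeIdealOf ⟨x.1, hFU x.1 x.2⟩).isPrime) hJ
  refine ⟨g, ?_, ?_⟩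
  · intro x hx
    have h1 := hg ⟨x, hx⟩ (Finset.mem_attach _ _)
    by_contra hxg
    exact h1 ((mem_primeIdealOf_iff hU g x (hFU x hx)).mpr hxg)
  · intro y hy
    have hyU : y ∈ U := X.basicOpen_le g hy
    by_contra hyN
    have h1 : g ∈ (hU.primeIdealOf ⟨y, hyU⟩).asIdeal := by
      apply (PrimeSpectrum.mem_vanishingIdeal _ _).mp hgJ
      show hU.fromSpec (hU.primeIdealOf ⟨y, hyU⟩) ∉ N
      rw [hU.fromSpec_primeIdealOf]
      exact hyN
    exact ((mem_primeIdealOf_iff hU g y hyU).mp h1) hy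

/-- a point of `U` lying in every basic open of `U` that contains the finite set `F` is a
generization of a point of `F`. -/
lemma exists_specializes_of_forall_basicOpen {U : X.Opens} (hU : IsAffineOpen U) (F : Finset X)
    (hFU : ∀ x ∈ F, x ∈ U) (y : X) (hy : y ∈ U)
    (h : ∀ g : Γ(X, U), (∀ x ∈ F, x ∈ X.basicOpen g) → y ∈ X.basicOpen g) :
    ∃ x ∈ F, y ⤳ x := by
  classical
  by_contra hcon
  push Not at hcon
  let P : {x // x ∈ F} → Ideal Γ(X, U) :=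
    fun x => (hU.primeIdealOf ⟨x.1, hFU x.1 x.2⟩).asIdeal
  have hJ : ∀ x ∈ F.attach, ¬ (hU.primeIdealOf ⟨y, hy⟩).asIdeal ≤ P x := by
    intro x _ hle
    apply hcon x.1 x.2
    have h1 : hU.primeIdealOf ⟨y, hy⟩ ⤳ hU.primeIdealOf ⟨x.1, hFU x.1 x.2⟩ :=
      (PrimeSpectrum.le_iff_specializes _ _).mp hle
    have h2 := h1.map hU.fromSpec.continuous
    rw [hU.fromSpec_primeIdealOf, hU.fromSpec_primeIdealOf] at h2
    exact h2
  obtain ⟨g, hgy, hg⟩ := exists_mem_notMem_of_primes _ F.attach P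
    (fun x _ => (hU.primeIdealOf ⟨x.1, hFU x.1 x.2⟩).isPrime) hJ
  have h3 : y ∈ X.basicOpen g := by
    apply h
    intro x hx
    by_contra hxg
    exact hg ⟨x, hx⟩ (Finset.mem_attach _ _) ((mem_primeIdealOf_iff hU g x (hFU x hx)).mpr hxg)
  exact ((mem_primeIdealOf_iff hU g y hy).mp hgy) h3

/-- the submonoid of functions on `U` vanishing at no point of `F`. -/
def goodSubmonoid (U : X.Opens) (F : Finset X) (hFU : ∀ x ∈ F, x ∈ U) : Submonoid Γ(X, U) where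
  carrier := {g | ∀ x ∈ F, x ∈ X.basicOpen g}
  one_mem' := fun x hx => by rw [X.basicOpen_one]; exact hFU x hx
  mul_mem' := by
    intro g g' hg hg' x hx
    rw [X.basicOpen_mul]
    exact ⟨hg x hx, hg' x hx⟩

lemma mem_goodSubmonoid {U : X.Opens} {F : Finset X} {hFU : ∀ x ∈ F, x ∈ U} {g : Γ(X, U)} :
    g ∈ goodSubmonoid U F hFU ↔ ∀ x ∈ F, x ∈ X.basicOpen g := Iff.rfl

/-- shrinking an affine open `U` around `F` so that the non-vanishing locus of `a` falls into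
`V`, provided this holds on the generizations of `F`. -/
lemma exists_basicOpen_inf_le {U : X.Opens} (hU : IsAffineOpen U) (F : Finset X)
    (hFU : ∀ x ∈ F, x ∈ U) (a : Γ(X, U)) (V : X.Opens)
    (h : ∀ y, y ∈ U → y ∈ X.basicOpen a → (∃ x ∈ F, y ⤳ x) → y ∈ V) :
    ∃ g : Γ(X, U), (∀ x ∈ F, x ∈ X.basicOpen g) ∧ X.basicOpen g ⊓ X.basicOpen a ≤ V := by
  let J : Ideal Γ(X, U) := PrimeSpectrum.vanishingIdeal {p | hU.fromSpec p ∉ V}
  let M : Submonoid Γ(X, U) := goodSubmonoid U F hFU ⊔ Submonoid.powers a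
  by_cases hd : Disjoint (J : Set Γ(X, U)) (M : Set Γ(X, U))
  · exfalso
    obtain ⟨y, hyU, hyJ, hyM⟩ := exists_point_of_disjoint hU J M hd
    have hya : y ∈ X.basicOpen a :=
      hyM a (Submonoid.mem_sup_right (Submonoid.mem_powers a))
    have hsp : ∃ x ∈ F, y ⤳ x := exists_specializes_of_forall_basicOpen hU F hFU y hyU
      (fun g hg => hyM g (Submonoid.mem_sup_left hg))
    have hyV : y ∈ V := h y hyU hya hsp
    obtain ⟨e, heV, hye⟩ := hU.exists_basicOpen_le (V := V) ⟨y, hyV⟩ hyU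
    have heJ : e ∈ J := by
      refine (PrimeSpectrum.mem_vanishingIdeal _ _).mpr ?_
      intro q hq
      by_contra hne
      exact hq (heV ((fromSpec_mem_basicOpen hU e q).mpr hne))
    exact hyJ e heJ hye
  · obtain ⟨m, hmJ, hmM⟩ := Set.not_disjoint_iff.mp hd
    obtain ⟨g, hg, b, hb, rfl⟩ := Submonoid.mem_sup.mp hmM
    obtain ⟨n, rfl⟩ := (Submonoid.mem_powers_iff _ _).mp hb
    refine ⟨g, hg, ?_⟩
    intro z hz
    have hzg : z ∈ X.basicOpen g := hz.1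
    have hza : z ∈ X.basicOpen a := hz.2
    have hzU : z ∈ U := X.basicOpen_le g hzg
    have hzm : z ∈ X.basicOpen (g * a ^ n) := by
      rw [X.mem_basicOpen _ z hzU, map_mul, map_pow]
      exact ((X.mem_basicOpen _ z hzU).mp hzg).mul (((X.mem_basicOpen _ z hzU).mp hza).pow n)
    by_contra hzV
    have h1 : g * a ^ n ∈ (hU.primeIdealOf ⟨z, hzU⟩).asIdeal := by
      apply (PrimeSpectrum.mem_vanishingIdeal _ _).mp hmJ
      show hU.fromSpec (hU.primeIdealOf ⟨z, hzU⟩) ∉ V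
      rw [hU.fromSpec_primeIdealOf]
      exact hzV
    exact ((mem_primeIdealOf_iff hU _ z hzU).mp h1) hzm

/-- gluing two sections whose germs agree on the overlap. -/
lemma exists_glue (O₁ O₂ : X.Opens) (a₁ : Γ(X, O₁)) (a₂ : Γ(X, O₂))
    (h : ∀ (y : X) (h₁ : y ∈ O₁) (h₂ : y ∈ O₂),
      X.presheaf.germ O₁ y h₁ a₁ = X.presheaf.germ O₂ y h₂ a₂) :
    ∃ s : Γ(X, O₁ ⊔ O₂),
      (∀ (y : X) (h₁ : y ∈ O₁),
        X.presheaf.germ (O₁ ⊔ O₂) y ((le_sup_left : O₁ ≤ O₁ ⊔ O₂) h₁) s =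
          X.presheaf.germ O₁ y h₁ a₁) ∧
      (∀ (y : X) (h₂ : y ∈ O₂),
        X.presheaf.germ (O₁ ⊔ O₂) y ((le_sup_right : O₂ ≤ O₁ ⊔ O₂) h₂) s =
          X.presheaf.germ O₂ y h₂ a₂) := by
  have hres : X.presheaf.map (homOfLE (inf_le_left : O₁ ⊓ O₂ ≤ O₁)).op a₁ =
      X.presheaf.map (homOfLE (inf_le_right : O₁ ⊓ O₂ ≤ O₂)).op a₂ := by
    apply TopCat.Presheaf.section_ext X.sheaf
    intro y hy
    change X.presheaf.germ _ y hy _ = X.presheaf.germ _ y hy _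
    rw [TopCat.Presheaf.germ_res_apply, TopCat.Presheaf.germ_res_apply]
    exact h y hy.1 hy.2
  obtain ⟨s, hs₁, hs₂⟩ : ∃ s : Γ(X, O₁ ⊔ O₂),
      X.presheaf.map (homOfLE (le_sup_left : O₁ ≤ O₁ ⊔ O₂)).op s = a₁ ∧
      X.presheaf.map (homOfLE (le_sup_right : O₂ ≤ O₁ ⊔ O₂)).op s = a₂ :=
    ⟨(X.sheaf.objSupIsoProdEqLocus O₁ O₂).inv ⟨(a₁, a₂), hres⟩,
      X.sheaf.objSupIsoProdEqLocus_inv_fst O₁ O₂ ⟨(a₁, a₂), hres⟩,
      X.sheaf.objSupIsoProdEqLocus_inv_snd O₁ O₂ ⟨(a₁, a₂), hres⟩⟩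
  refine ⟨s, fun y h₁ => ?_, fun y h₂ => ?_⟩
  · exact (TopCat.Presheaf.germ_res_apply X.presheaf (homOfLE le_sup_left) y h₁ s).symm.trans
      (congrArg (fun z => X.presheaf.germ O₁ y h₁ z) hs₁)
  · exact (TopCat.Presheaf.germ_res_apply X.presheaf (homOfLE le_sup_right) y h₂ s).symm.trans
      (congrArg (fun z => X.presheaf.germ O₂ y h₂ z) hs₂)

end Groth.Agent.H89.AffNbhd
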