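import Mathlib
import Groth.Agent.H89.AffNbhd1

/-!
# Stalk-level lemmas for `S7660`

`f : T ⟶ X` a morphism of schemes which is an isomorphism on the stalk at some points `t`.
We study `f` on the generizations of such points.
-/

open AlgebraicGeometry CategoryTheory TopologicalSpace Opposite

universe u

namespace Groth.Agent.H89.AffNbhd

section Topology

/-- Generic points of irreducible components are the points without proper generalisations.
(Same statement as `Groth.Agent.S7658.mem_irreducibleComponents_iff`, by helper49.) -/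
theorem mem_irreducibleComponents_iff {X : Type u} [TopologicalSpace X] [T0Space X]
    [QuasiSober X] (ξ : X) :
    closure ({ξ} : Set X) ∈ irreducibleComponents X ↔ ∀ ξ' : X, ξ' ⤳ ξ → ξ' = ξ := by
  constructor
  · intro h ξ' hξ'
    have h1 : closure ({ξ} : Set X) ⊆ closure ({ξ'} : Set X) :=
      closure_minimal (Set.singleton_subset_iff.mpr (specializes_iff_mem_closure.mp hξ'))
        isClosed_closure
    have h2 : IsIrreducible (closure ({ξ'} : Set X)) := isIrreducible_singleton.closure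
    have h3 : closure ({ξ'} : Set X) ⊆ closure ({ξ} : Set X) := h.2 h2 h1
    have h4 : ξ ⤳ ξ' := specializes_iff_mem_closure.mpr (h3 (subset_closure rfl))
    exact (hξ'.antisymm h4).eq
  · intro h
    obtain ⟨Z, hZ, hsub, hmax⟩ := exists_preirreducible (closure ({ξ} : Set X))
      isIrreducible_singleton.closure.isPreirreducible
    have hZne : Z.Nonempty := ⟨ξ, hsub (subset_closure rfl)⟩
    have hZcl : IsClosed Z := by
      have : closure Z = Z := hmax _ hZ.closure subset_closure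
      rw [← this]
      exact isClosed_closure
    obtain ⟨ξ', hξ'⟩ := QuasiSober.sober ⟨hZne, hZ⟩ hZcl
    have h1 : ξ' ⤳ ξ := by
      rw [specializes_iff_mem_closure, hξ'.def]
      exact hsub (subset_closure rfl)
    have h2 : ξ' = ξ := h ξ' h1
    rw [← h2, hξ'.def]
    refine ⟨⟨hZne, hZ⟩, fun u hu hZu => ?_⟩
    exact (hmax u hu.isPreirreducible hZu).le

/-- Every point has a generalisation which is the generic point of an irreducible component.
(Same statement as `Groth.Agent.S7658.exists_generic_specializes`, by helper49.) -/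
theorem exists_generic_specializes {X : Type u} [TopologicalSpace X] [T0Space X] [QuasiSober X]
    (x : X) : ∃ ξ : X, ξ ⤳ x ∧ ∀ ξ' : X, ξ' ⤳ ξ → ξ' = ξ := by
  obtain ⟨Z, hZ, hsub, hmax⟩ := exists_preirreducible (closure ({x} : Set X))
    isIrreducible_singleton.closure.isPreirreducible
  have hZne : Z.Nonempty := ⟨x, hsub (subset_closure rfl)⟩
  have hZcl : IsClosed Z := by
    have : closure Z = Z := hmax _ hZ.closure subset_closure
    rw [← this]
    exact isClosed_closure
  obtain ⟨ξ, hξ⟩ := QuasiSober.sober ⟨hZne, hZ⟩ hZcl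
  refine ⟨ξ, ?_, ?_⟩
  · rw [specializes_iff_mem_closure, hξ.def]
    exact hsub (subset_closure rfl)
  · intro ξ' hξ'
    have h1 : Z ⊆ closure ({ξ'} : Set X) := by
      rw [← hξ.def]
      exact closure_minimal (Set.singleton_subset_iff.mpr (specializes_iff_mem_closure.mp hξ'))
        isClosed_closure
    have h2 : closure ({ξ'} : Set X) = Z :=
      hmax _ isIrreducible_singleton.closure.isPreirreducible h1
    have h3 : ξ ⤳ ξ' := by
      rw [specializes_iff_mem_closure, hξ.def, ← h2]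
      exact subset_closure rfl
    exact (hξ'.antisymm h3).eq

end Topology

variable {T X : Scheme.{u}}

/-- `a` (a section of `𝒪_X` over `N`) represents `β` (a section of `𝒪_T` over `D`) at `t`:
`f^♯ a` and `β` have the same germ at `t`. -/
def Rep (f : T ⟶ X) {N : X.Opens} (a : Γ(X, N)) {D : T.Opens} (β : Γ(T, D)) (t : T) : Prop :=
  ∃ (h₁ : t ∈ f ⁻¹ᵁ N) (h₂ : t ∈ D),
    T.presheaf.germ (f ⁻¹ᵁ N) t h₁ (f.app N a) = T.presheaf.germ D t h₂ β

section Rep

variable {f : T ⟶ X} {N : X.Opens} {a : Γ(X, N)} {D : T.Opens} {β : Γ(T, D)} {t : T}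

lemma Rep.specializes {t' : T} (h : Rep f a β t) (ht : t' ⤳ t) : Rep f a β t' := by
  obtain ⟨h₁, h₂, he⟩ := h
  obtain ⟨W, hW, i₁, i₂, heq⟩ := TopCat.Presheaf.germ_eq T.presheaf t h₁ h₂ _ _ he
  have ht'W : t' ∈ W := ht.mem_open W.2 hW
  exact ⟨i₁.le ht'W, i₂.le ht'W, TopCat.Presheaf.germ_ext T.presheaf W ht'W i₁ i₂ heq⟩

lemma Rep.mem_basicOpen_iff (h : Rep f a β t) : f t ∈ X.basicOpen a ↔ t ∈ T.basicOpen β := by
  obtain ⟨h₁, h₂, he⟩ := h
  have e1 : f t ∈ X.basicOpen a ↔ t ∈ T.basicOpen (f.app N a) := by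
    rw [← Scheme.preimage_basicOpen]
    rfl
  rw [e1, T.mem_basicOpen _ t h₁, T.mem_basicOpen _ t h₂, he]

lemma Rep.sub {a₂ : Γ(X, N)} {β₂ : Γ(T, D)} (h₁ : Rep f a β t) (h₂ : Rep f a₂ β₂ t) :
    Rep f (a - a₂) (β - β₂) t := by
  obtain ⟨p₁, q₁, e₁⟩ := h₁
  obtain ⟨p₂, q₂, e₂⟩ := h₂
  exact ⟨p₁, q₁, by rw [map_sub, map_sub, map_sub, e₁, e₂]⟩

lemma Rep.one_sub (h : Rep f a β t) : Rep f (1 - a) (1 - β) t := by
  obtain ⟨p, q, e⟩ := h
  exact ⟨p, q, by rw [map_sub, map_sub, map_sub, map_one, map_one, map_one, e]⟩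

end Rep

lemma rep_res_iff (f : T ⟶ X) {N N' : X.Opens} (hle : N' ≤ N) (a : Γ(X, N)) {D : T.Opens}
    (β : Γ(T, D)) (t : T) (ht : f t ∈ N') :
    Rep f (X.presheaf.map (homOfLE hle).op a) β t ↔ Rep f a β t := by
  have key : ∀ (h₁ : t ∈ f ⁻¹ᵁ N') (h₁' : t ∈ f ⁻¹ᵁ N),
      T.presheaf.germ (f ⁻¹ᵁ N') t h₁ (f.app N' (X.presheaf.map (homOfLE hle).op a)) =
        T.presheaf.germ (f ⁻¹ᵁ N) t h₁' (f.app N a) := by
    intro h₁ h₁'
    have hnat := f.naturality (homOfLE hle).op
    have h2 : f.app N' (X.presheaf.map (homOfLE hle).op a) =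
        T.presheaf.map ((Opens.map f.base).map (homOfLE hle)).op (f.app N a) := by
      have h3 := ConcreteCategory.congr_hom hnat a
      rw [CommRingCat.comp_apply, CommRingCat.comp_apply] at h3
      exact h3
    rw [h2, TopCat.Presheaf.germ_res_apply]
  constructor
  · rintro ⟨h₁, h₂, he⟩
    exact ⟨hle ht, h₂, (key h₁ (hle ht)).symm.trans he⟩
  · rintro ⟨h₁, h₂, he⟩
    exact ⟨ht, h₂, (key ht h₁).trans he⟩

/-- at a point where `f` is an isomorphism on stalks, every function on `T` is represented. -/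
lemma exists_rep_of_isIso (f : T ⟶ X) (t : T) [IsIso (f.stalkMap t)] {D : T.Opens}
    (β : Γ(T, D)) (ht : t ∈ D) : ∃ (N : X.Opens) (a : Γ(X, N)), Rep f a β t := by
  obtain ⟨o, ho⟩ :=
    (ConcreteCategory.bijective_of_isIso (f.stalkMap t)).2 (T.presheaf.germ D t ht β)
  obtain ⟨N, hN, a, ha⟩ := TopCat.Presheaf.exists_germ_eq X.presheaf o
  refine ⟨N, a, hN, ht, ?_⟩
  rw [← Scheme.Hom.germ_stalkMap_apply, ha, ho]

section Generization

variable (f : T ⟶ X) (t : T)

lemma map_fromSpecStalk_apply (q : Spec (T.presheaf.stalk t)) :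
    f ((T.fromSpecStalk t) q) = (X.fromSpecStalk (f t)) ((Spec.map (f.stalkMap t)) q) := by
  rw [← Scheme.Hom.comp_apply, ← Scheme.Hom.comp_apply,
    Scheme.SpecMap_stalkMap_fromSpecStalk f (x := t)]

variable [IsIso (f.stalkMap t)]

lemma inv_SpecMap_apply (q : Spec (T.presheaf.stalk t)) :
    (inv (Spec.map (f.stalkMap t))) ((Spec.map (f.stalkMap t)) q) = q := by
  rw [← Scheme.Hom.comp_apply, IsIso.hom_inv_id]
  rfl

lemma SpecMap_inv_apply (p : Spec (X.presheaf.stalk (f t))) :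
    (Spec.map (f.stalkMap t)) ((inv (Spec.map (f.stalkMap t))) p) = p := by
  rw [← Scheme.Hom.comp_apply, IsIso.inv_hom_id]
  rfl

/-- generizations of the image lift to generizations. -/
lemma exists_lift_generization (t' : T) (ht' : t' ⤳ t) (ξ : X) (hξ : ξ ⤳ f t') :
    ∃ η : T, η ⤳ t' ∧ f η = ξ := by
  obtain ⟨q', hq'⟩ : t' ∈ Set.range (T.fromSpecStalk t) := by
    rw [Scheme.range_fromSpecStalk]
    exact ht'
  have hξt : ξ ⤳ f t := hξ.trans (ht'.map f.continuous)
  obtain ⟨p, hp⟩ : ξ ∈ Set.range (X.fromSpecStalk (f t)) := by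
    rw [Scheme.range_fromSpecStalk]
    exact hξt
  let q : Spec (T.presheaf.stalk t) := (inv (Spec.map (f.stalkMap t))) p
  have hgq : (Spec.map (f.stalkMap t)) q = p := SpecMap_inv_apply f t p
  refine ⟨(T.fromSpecStalk t) q, ?_, ?_⟩
  · rw [← hq']
    apply Specializes.map _ (T.fromSpecStalk t).continuous
    have h1 : (X.fromSpecStalk (f t)) ((Spec.map (f.stalkMap t)) q) ⤳
        (X.fromSpecStalk (f t)) ((Spec.map (f.stalkMap t)) q') := by
      rw [hgq, hp, ← map_fromSpecStalk_apply f t q', hq']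
      exact hξ
    have h2 : (Spec.map (f.stalkMap t)) q ⤳ (Spec.map (f.stalkMap t)) q' :=
      ((X.fromSpecStalk (f t)).isEmbedding.isInducing.specializes_iff).mp h1
    have h3 := h2.map (inv (Spec.map (f.stalkMap t))).continuous
    rw [inv_SpecMap_apply, inv_SpecMap_apply] at h3
    exact h3
  · rw [map_fromSpecStalk_apply, hgq, hp]

/-- `f` is injective on the generizations of `t`. -/
lemma eq_of_map_eq_of_specializes (η₁ η₂ : T) (h₁ : η₁ ⤳ t) (h₂ : η₂ ⤳ t)
    (he : f η₁ = f η₂) : η₁ = η₂ := by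
  obtain ⟨q₁, rfl⟩ : η₁ ∈ Set.range (T.fromSpecStalk t) := by
    rw [Scheme.range_fromSpecStalk]
    exact h₁
  obtain ⟨q₂, rfl⟩ : η₂ ∈ Set.range (T.fromSpecStalk t) := by
    rw [Scheme.range_fromSpecStalk]
    exact h₂
  rw [map_fromSpecStalk_apply, map_fromSpecStalk_apply] at he
  have h3 := (X.fromSpecStalk (f t)).isEmbedding.injective he
  have h4 : q₁ = q₂ := by
    rw [← inv_SpecMap_apply f t q₁, ← inv_SpecMap_apply f t q₂, h3]
  rw [h4]

/-- a generization of `t` whose image has no proper generization has none either. -/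
lemma forall_generization_eq (η : T) (hη : η ⤳ t) (h : ∀ ξ' : X, ξ' ⤳ f η → ξ' = f η) :
    ∀ η' : T, η' ⤳ η → η' = η := by
  intro η' hη'
  exact eq_of_map_eq_of_specializes f t η' η (hη'.trans hη) hη (h _ (hη'.map f.continuous))

/-- the stalk maps at generizations of `t` are injective. -/
lemma stalkMap_injective_of_specializes (t' : T) (ht' : t' ⤳ t) :
    Function.Injective (f.stalkMap t') := by
  obtain ⟨_, ⟨V, hV, rfl⟩, hftV, -⟩ := X.isBasis_affineOpens.exists_subset_of_mem_open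
    (Set.mem_univ (f t)) isOpen_univ
  have hsp : f t' ⤳ f t := ht'.map f.continuous
  have hft'V : f t' ∈ V := hsp.mem_open V.2 hftV
  refine IsAffineOpen.stalkMap_injective f hV t' hft'V ?_
  intro d hd
  rw [Scheme.Hom.germ_stalkMap_apply] at hd
  obtain ⟨_, ⟨D, hD, rfl⟩, htD, hDV⟩ := T.isBasis_affineOpens.exists_subset_of_mem_open
    (show t ∈ ((f ⁻¹ᵁ V : T.Opens) : Set T) from hftV) (f ⁻¹ᵁ V).2
  have ht'D : t' ∈ D := ht'.mem_open D.2 htD
  replace hDV : D ≤ f ⁻¹ᵁ V := hDV
  have hβ₀germ : T.presheaf.germ D t' ht'D (T.presheaf.map (homOfLE hDV).op (f.app V d)) = 0 := by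
    rw [TopCat.Presheaf.germ_res_apply]
    exact hd
  obtain ⟨u, hu, huβ⟩ := exists_mul_eq_zero_of_germ_eq_zero hD _ t' ht'D hβ₀germ
  obtain ⟨o, ho⟩ :=
    (ConcreteCategory.bijective_of_isIso (f.stalkMap t)).2 (T.presheaf.germ D t htD u)
  have h1 : o * X.presheaf.germ V (f t) hftV d = 0 := by
    apply (ConcreteCategory.bijective_of_isIso (f.stalkMap t)).1
    rw [map_mul, ho, map_zero, Scheme.Hom.germ_stalkMap_apply,
      ← TopCat.Presheaf.germ_res_apply T.presheaf (homOfLE hDV) t htD, ← map_mul, huβ, map_zero]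
  have h2 := congrArg (fun z => X.presheaf.stalkSpecializes hsp z) h1
  simp only [map_mul, map_zero] at h2
  have h3 : X.presheaf.stalkSpecializes hsp (X.presheaf.germ V (f t) hftV d) =
      X.presheaf.germ V (f t') hft'V d := by
    rw [← CommRingCat.comp_apply, TopCat.Presheaf.germ_stalkSpecializes]
  rw [h3] at h2
  have hunit : IsUnit (X.presheaf.stalkSpecializes hsp o) := by
    have e1 : f.stalkMap t' (X.presheaf.stalkSpecializes hsp o) =
        T.presheaf.stalkSpecializes ht' (f.stalkMap t o) :=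
      Scheme.Hom.stalkSpecializes_stalkMap_apply f t' t ht' o
    have e2 : T.presheaf.stalkSpecializes ht' (T.presheaf.germ D t htD u) =
        T.presheaf.germ D t' ht'D u := by
      rw [← CommRingCat.comp_apply, TopCat.Presheaf.germ_stalkSpecializes]
    have h4 : IsUnit (f.stalkMap t' (X.presheaf.stalkSpecializes hsp o)) := by
      rw [e1, ho, e2]
      exact (T.mem_basicOpen u t' ht'D).mp hu
    exact isUnit_of_map_unit (f.stalkMap t').hom _ h4
  exact (hunit.mul_right_eq_zero).mp h2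

/-- two sections representing the same function at a generization `t'` of `t` have the same
germ at `f t'`. -/
lemma germ_eq_of_rep (t' : T) (ht' : t' ⤳ t) {N₁ N₂ : X.Opens} (a₁ : Γ(X, N₁))
    (a₂ : Γ(X, N₂)) {D : T.Opens} (β : Γ(T, D)) (h₁ : Rep f a₁ β t') (h₂ : Rep f a₂ β t')
    (m₁ : f t' ∈ N₁) (m₂ : f t' ∈ N₂) :
    X.presheaf.germ N₁ (f t') m₁ a₁ = X.presheaf.germ N₂ (f t') m₂ a₂ := by
  apply stalkMap_injective_of_specializes f t t' ht'
  obtain ⟨p₁, q₁, e₁⟩ := h₁
  obtain ⟨p₂, q₂, e₂⟩ := h₂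
  rw [Scheme.Hom.germ_stalkMap_apply, Scheme.Hom.germ_stalkMap_apply, e₁, e₂]

end Generization

section Injective

variable (f : T ⟶ X)
  (hinj : ∀ η η' : T, closure ({η} : Set T) ∈ irreducibleComponents T →
    closure ({η'} : Set T) ∈ irreducibleComponents T → f η = f η' → η = η')

include hinj in
lemma mem_basicOpen_of_map_eq (t₁ t₂ : T) [IsIso (f.stalkMap t₁)] [IsIso (f.stalkMap t₂)]
    (t' t'' : T) (h' : t' ⤳ t₁) (h'' : t'' ⤳ t₂) (he : f t' = f t'') (x : Γ(T, ⊤))
    (hx : t'' ∈ T.basicOpen x) : t' ∈ T.basicOpen x := by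
  by_contra hx'
  obtain ⟨N', a', hr'⟩ := exists_rep_of_isIso f t₁ x (show t₁ ∈ (⊤ : T.Opens) from trivial)
  obtain ⟨N'', a'', hr''⟩ := exists_rep_of_isIso f t₂ x (show t₂ ∈ (⊤ : T.Opens) from trivial)
  have hr't' : Rep f a' x t' := hr'.specializes h'
  have hr''t'' : Rep f a'' x t'' := hr''.specializes h''
  have hyN' : f t' ∈ N' := hr't'.fst
  have hyN'' : f t' ∈ N'' := by
    rw [he]
    exact hr''t''.fst
  have hb'' : f t' ∈ X.basicOpen a'' := by
    rw [he]
    exact hr''t''.mem_basicOpen_iff.mpr hx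
  have hb' : f t' ∉ X.basicOpen a' := fun h => hx' (hr't'.mem_basicOpen_iff.mp h)
  let d : Γ(X, N' ⊓ N'') := X.presheaf.map (homOfLE (inf_le_right : N' ⊓ N'' ≤ N'')).op a'' -
    X.presheaf.map (homOfLE (inf_le_left : N' ⊓ N'' ≤ N')).op a'
  have hyN : f t' ∈ N' ⊓ N'' := ⟨hyN', hyN''⟩
  have hyd : f t' ∈ X.basicOpen d := by
    rw [X.mem_basicOpen _ _ hyN, map_sub, TopCat.Presheaf.germ_res_apply,
      TopCat.Presheaf.germ_res_apply]
    have u'' : IsUnit (X.presheaf.germ N'' (f t') hyN'' a'') :=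
      (X.mem_basicOpen a'' (f t') hyN'').mp hb''
    have nu' : ¬ IsUnit (X.presheaf.germ N' (f t') hyN' a') :=
      fun h => hb' ((X.mem_basicOpen a' (f t') hyN').mpr h)
    have hsum : IsUnit ((X.presheaf.germ N'' (f t') hyN'' a'' -
        X.presheaf.germ N' (f t') hyN' a') + X.presheaf.germ N' (f t') hyN' a') := by
      rw [sub_add_cancel]
      exact u''
    rcases IsLocalRing.isUnit_or_isUnit_of_isUnit_add hsum with h | h
    · exact h
    · exact absurd h nu'
  obtain ⟨ξ, hξy, hξgen⟩ := exists_generic_specializes (f t')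
  have hξd : ξ ∈ X.basicOpen d := hξy.mem_open (X.basicOpen d).2 hyd
  obtain ⟨η', hη', fη'⟩ := exists_lift_generization f t₁ t' h' ξ hξy
  obtain ⟨η'', hη'', fη''⟩ := exists_lift_generization f t₂ t'' h'' ξ (he ▸ hξy)
  have gen' : ∀ e : T, e ⤳ η' → e = η' :=
    forall_generization_eq f t₁ η' (hη'.trans h') (fun ξ' hξ' => by
      rw [fη'] at hξ' ⊢
      exact hξgen ξ' hξ')
  have gen'' : ∀ e : T, e ⤳ η'' → e = η'' :=
    forall_generization_eq f t₂ η'' (hη''.trans h'') (fun ξ' hξ' => by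
      rw [fη''] at hξ' ⊢
      exact hξgen ξ' hξ')
  have heq : η' = η'' := hinj η' η'' ((mem_irreducibleComponents_iff η').mpr gen')
    ((mem_irreducibleComponents_iff η'').mpr gen'') (fη'.trans fη''.symm)
  have r1 : Rep f a' x η' := hr't'.specializes hη'
  have r2 : Rep f a'' x η' := by
    rw [heq]
    exact hr''t''.specializes hη''
  have hηN : f η' ∈ N' ⊓ N'' := by
    rw [fη']
    exact X.basicOpen_le d hξd
  have r1' := (rep_res_iff f (inf_le_left : N' ⊓ N'' ≤ N') a' x η' hηN).mpr r1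
  have r2' := (rep_res_iff f (inf_le_right : N' ⊓ N'' ≤ N'') a'' x η' hηN).mpr r2
  have r3 : Rep f d (x - x) η' := r2'.sub r1'
  have h5 : η' ∈ T.basicOpen (x - x) := r3.mem_basicOpen_iff.mp (by rw [fη']; exact hξd)
  rw [sub_self, Scheme.basicOpen_zero] at h5
  exact h5

include hinj in
/-- `f` is injective on the set of generizations of points at which it is an isomorphism on
stalks. -/
lemma eq_of_map_eq [IsAffine T] (t₁ t₂ : T) [IsIso (f.stalkMap t₁)] [IsIso (f.stalkMap t₂)]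
    (t' t'' : T) (h' : t' ⤳ t₁) (h'' : t'' ⤳ t₂) (he : f t' = f t'') : t' = t'' := by
  have key : ∀ x : Γ(T, ⊤), (t' ∈ T.basicOpen x ↔ t'' ∈ T.basicOpen x) := fun x =>
    ⟨mem_basicOpen_of_map_eq f hinj t₂ t₁ t'' t' h'' h' he.symm x,
      mem_basicOpen_of_map_eq f hinj t₁ t₂ t' t'' h' h'' he x⟩
  have hb : TopologicalSpace.IsTopologicalBasis
      (((↑) : T.Opens → Set T) '' Set.range (T.basicOpen : Γ(T, ⊤) → T.Opens)) :=
    isBasis_basicOpen T
  have hins : Inseparable t' t'' := by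
    rw [hb.inseparable_iff]
    rintro _ ⟨_, ⟨x, rfl⟩, rfl⟩
    exact key x
  exact hins.eq

end Injective

end Groth.Agent.H89.AffNbhd
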