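import Mathlib
import Groth.Agent.H89.AffNbhd2

/-!
# Local agreement of sections and the two-chart affineness criterion for `S7660`
-/

open AlgebraicGeometry CategoryTheory TopologicalSpace Opposite

universe u

namespace Groth.Agent.H89.AffNbhd

section Ring

lemma isUnit_add_of_isUnit_of_not {R : Type*} [CommRing R] [IsLocalRing R] {a b : R}
    (ha : IsUnit a) (hb : ¬ IsUnit b) : IsUnit (a + b) := by
  have hs : IsUnit ((a + b) + (-b)) := by
    rw [add_neg_cancel_right]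
    exact ha
  rcases IsLocalRing.isUnit_or_isUnit_of_isUnit_add hs with h | h
  · exact h
  · have h' := h.neg
    rw [neg_neg] at h'
    exact absurd h' hb

end Ring

variable {X : Scheme.{u}}

lemma mem_sup_iff (O₁ O₂ : X.Opens) (y : X) : y ∈ O₁ ⊔ O₂ ↔ y ∈ O₁ ∨ y ∈ O₂ := by
  rw [← SetLike.mem_coe, Opens.coe_sup, Set.mem_union, SetLike.mem_coe, SetLike.mem_coe]

/-- gluing with restriction equalities. -/
lemma exists_glue_res (O₁ O₂ : X.Opens) (a₁ : Γ(X, O₁)) (a₂ : Γ(X, O₂))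
    (h : ∀ (y : X) (h₁ : y ∈ O₁) (h₂ : y ∈ O₂),
      X.presheaf.germ O₁ y h₁ a₁ = X.presheaf.germ O₂ y h₂ a₂) :
    ∃ s : Γ(X, O₁ ⊔ O₂),
      X.presheaf.map (homOfLE (le_sup_left : O₁ ≤ O₁ ⊔ O₂)).op s = a₁ ∧
      X.presheaf.map (homOfLE (le_sup_right : O₂ ≤ O₁ ⊔ O₂)).op s = a₂ := by
  obtain ⟨s, hs₁, hs₂⟩ := exists_glue O₁ O₂ a₁ a₂ h
  refine ⟨s, ?_, ?_⟩
  · apply TopCat.Presheaf.section_ext X.sheaf
    intro y hy
    change X.presheaf.germ _ y hy _ = X.presheaf.germ _ y hy _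
    rw [TopCat.Presheaf.germ_res_apply]
    exact hs₁ y hy
  · apply TopCat.Presheaf.section_ext X.sheaf
    intro y hy
    change X.presheaf.germ _ y hy _ = X.presheaf.germ _ y hy _
    rw [TopCat.Presheaf.germ_res_apply]
    exact hs₂ y hy

section LocalAgreement

lemma exists_germ_eq_on_basicOpen_aux {U V : X.Opens} (hU : IsAffineOpen U)
    (hV : IsAffineOpen V) (F₁ F₂ : Finset X) (hF₁ : ∀ x ∈ F₁, x ∈ U) (hF₂ : ∀ x ∈ F₂, x ∈ V)
    (a₁ : Γ(X, U)) (a₂ : Γ(X, V))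
    (h : ∀ (y : X) (hyU : y ∈ U) (hyV : y ∈ V), (∃ x ∈ F₁, y ⤳ x) → (∃ x ∈ F₂, y ⤳ x) →
      X.presheaf.germ U y hyU a₁ = X.presheaf.germ V y hyV a₂)
    (D : X.Opens) (hD : IsAffineOpen D) (hDU : D ≤ U) (hDV : D ≤ V) :
    ∃ (g₁ : Γ(X, U)) (g₂ : Γ(X, V)), (∀ x ∈ F₁, x ∈ X.basicOpen g₁) ∧
      (∀ x ∈ F₂, x ∈ X.basicOpen g₂) ∧
      ∀ (y : X) (hyD : y ∈ D), y ∈ X.basicOpen g₁ → y ∈ X.basicOpen g₂ →
        X.presheaf.germ U y (hDU hyD) a₁ = X.presheaf.germ V y (hDV hyD) a₂ := by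
  let ρ₁ : Γ(X, U) →+* Γ(X, D) := (X.presheaf.map (homOfLE hDU).op).hom
  let ρ₂ : Γ(X, V) →+* Γ(X, D) := (X.presheaf.map (homOfLE hDV).op).hom
  have hρ₁germ : ∀ (y : X) (hyD : y ∈ D) (r : Γ(X, U)),
      X.presheaf.germ D y hyD (ρ₁ r) = X.presheaf.germ U y (hDU hyD) r := fun y hyD r =>
    TopCat.Presheaf.germ_res_apply X.presheaf (homOfLE hDU) y hyD r
  have hρ₂germ : ∀ (y : X) (hyD : y ∈ D) (r : Γ(X, V)),
      X.presheaf.germ D y hyD (ρ₂ r) = X.presheaf.germ V y (hDV hyD) r := fun y hyD r =>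
    TopCat.Presheaf.germ_res_apply X.presheaf (homOfLE hDV) y hyD r
  have hρ₁bo : ∀ r : Γ(X, U), X.basicOpen (ρ₁ r) = D ⊓ X.basicOpen r := fun r =>
    X.basicOpen_res r (homOfLE hDU).op
  have hρ₂bo : ∀ r : Γ(X, V), X.basicOpen (ρ₂ r) = D ⊓ X.basicOpen r := fun r =>
    X.basicOpen_res r (homOfLE hDV).op
  obtain ⟨δ, hδdef⟩ : ∃ δ : Γ(X, D), δ = ρ₁ a₁ - ρ₂ a₂ := ⟨_, rfl⟩
  have hδgerm : ∀ (y : X) (hyD : y ∈ D), X.presheaf.germ D y hyD δ =
      X.presheaf.germ U y (hDU hyD) a₁ - X.presheaf.germ V y (hDV hyD) a₂ := by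
    intro y hyD
    rw [hδdef, map_sub, hρ₁germ, hρ₂germ]
  let I : Ideal Γ(X, D) :=
    { carrier := {e | e * δ = 0}
      add_mem' := by
        intro a b ha hb
        simp only [Set.mem_ofPred_eq] at ha hb ⊢
        rw [add_mul, ha, hb, add_zero]
      zero_mem' := by simp
      smul_mem' := by
        intro c e he
        simp only [Set.mem_ofPred_eq, smul_eq_mul] at he ⊢
        rw [mul_assoc, he, mul_zero] }
  let M : Submonoid Γ(X, D) :=
    (goodSubmonoid U F₁ hF₁).map (ρ₁ : Γ(X, U) →* Γ(X, D)) ⊔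
      (goodSubmonoid V F₂ hF₂).map (ρ₂ : Γ(X, V) →* Γ(X, D))
  by_cases hd : Disjoint (I : Set Γ(X, D)) (M : Set Γ(X, D))
  · exfalso
    obtain ⟨y, hyD, hyI, hyM⟩ := exists_point_of_disjoint hD I M hd
    have hy₁ : ∀ g : Γ(X, U), (∀ x ∈ F₁, x ∈ X.basicOpen g) → y ∈ X.basicOpen g := by
      intro g hg
      have h1 : y ∈ X.basicOpen (ρ₁ g) :=
        hyM _ (Submonoid.mem_sup_left (Submonoid.mem_map_of_mem _ hg))
      rw [hρ₁bo] at h1
      exact h1.2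
    have hy₂ : ∀ g : Γ(X, V), (∀ x ∈ F₂, x ∈ X.basicOpen g) → y ∈ X.basicOpen g := by
      intro g hg
      have h1 : y ∈ X.basicOpen (ρ₂ g) :=
        hyM _ (Submonoid.mem_sup_right (Submonoid.mem_map_of_mem _ hg))
      rw [hρ₂bo] at h1
      exact h1.2
    have hs₁ := exists_specializes_of_forall_basicOpen hU F₁ hF₁ y (hDU hyD) hy₁
    have hs₂ := exists_specializes_of_forall_basicOpen hV F₂ hF₂ y (hDV hyD) hy₂
    have hgerm := h y (hDU hyD) (hDV hyD) hs₁ hs₂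
    have hδ : X.presheaf.germ D y hyD δ = 0 := by
      rw [hδgerm, hgerm, sub_self]
    obtain ⟨e, hye, heδ⟩ := exists_mul_eq_zero_of_germ_eq_zero hD δ y hyD hδ
    exact hyI e heδ hye
  · obtain ⟨m, hmI, hmM⟩ := Set.not_disjoint_iff.mp hd
    obtain ⟨m₁, hm₁, m₂, hm₂, hm⟩ := Submonoid.mem_sup.mp hmM
    obtain ⟨g₁, hg₁, e₁⟩ := Submonoid.mem_map.mp hm₁
    obtain ⟨g₂, hg₂, e₂⟩ := Submonoid.mem_map.mp hm₂
    have e₁' : ρ₁ g₁ = m₁ := e₁
    have e₂' : ρ₂ g₂ = m₂ := e₂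
    refine ⟨g₁, g₂, hg₁, hg₂, ?_⟩
    intro y hyD hy₁ hy₂
    have hmδ : (ρ₁ g₁ * ρ₂ g₂) * δ = 0 := by
      rw [e₁', e₂', hm]
      exact hmI
    have h1 := congrArg (fun z => X.presheaf.germ D y hyD z) hmδ
    simp only [map_mul, map_zero] at h1
    rw [hρ₁germ, hρ₂germ, hδgerm] at h1
    have u₁ : IsUnit (X.presheaf.germ U y (hDU hyD) g₁) :=
      (X.mem_basicOpen g₁ y (hDU hyD)).mp hy₁
    have u₂ : IsUnit (X.presheaf.germ V y (hDV hyD) g₂) :=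
      (X.mem_basicOpen g₂ y (hDV hyD)).mp hy₂
    have h2 := ((u₁.mul u₂).mul_right_eq_zero).mp h1
    exact sub_eq_zero.mp h2

/-- two sections on affine opens `U`, `V` of a quasi-separated scheme whose germs agree at the
common generizations of `F₁ ⊆ U` and `F₂ ⊆ V` agree on `U_{g₁} ∩ V_{g₂}` for suitable functions
`g₁`, `g₂` not vanishing on `F₁`, `F₂`. -/
lemma exists_germ_eq_on_basicOpen [QuasiSeparatedSpace X] {U V : X.Opens} (hU : IsAffineOpen U)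
    (hV : IsAffineOpen V) (F₁ F₂ : Finset X) (hF₁ : ∀ x ∈ F₁, x ∈ U) (hF₂ : ∀ x ∈ F₂, x ∈ V)
    (a₁ : Γ(X, U)) (a₂ : Γ(X, V))
    (h : ∀ (y : X) (hyU : y ∈ U) (hyV : y ∈ V), (∃ x ∈ F₁, y ⤳ x) → (∃ x ∈ F₂, y ⤳ x) →
      X.presheaf.germ U y hyU a₁ = X.presheaf.germ V y hyV a₂) :
    ∃ (g₁ : Γ(X, U)) (g₂ : Γ(X, V)), (∀ x ∈ F₁, x ∈ X.basicOpen g₁) ∧
      (∀ x ∈ F₂, x ∈ X.basicOpen g₂) ∧
      ∀ (y : X) (hyU : y ∈ U) (hyV : y ∈ V), y ∈ X.basicOpen g₁ → y ∈ X.basicOpen g₂ →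
        X.presheaf.germ U y hyU a₁ = X.presheaf.germ V y hyV a₂ := by
  classical
  have hc : IsCompact ((U : Set X) ∩ (V : Set X)) :=
    QuasiSeparatedSpace.inter_isCompact U.1 V.1 U.2 hU.isCompact V.2 hV.isCompact
  obtain ⟨S, hSfin, hS⟩ := (isCompact_and_isOpen_iff_finite_and_eq_biUnion_affineOpens
    (X := X)).mp ⟨hc, U.2.inter V.2⟩
  have hloc : ∀ i : X.affineOpens, ∃ (g₁ : Γ(X, U)) (g₂ : Γ(X, V)),
      (∀ x ∈ F₁, x ∈ X.basicOpen g₁) ∧ (∀ x ∈ F₂, x ∈ X.basicOpen g₂) ∧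
      (i.1 ≤ U ⊓ V → ∀ (y : X) (hyU : y ∈ U) (hyV : y ∈ V), y ∈ i.1 → y ∈ X.basicOpen g₁ →
        y ∈ X.basicOpen g₂ → X.presheaf.germ U y hyU a₁ = X.presheaf.germ V y hyV a₂) := by
    intro i
    by_cases hi : i.1 ≤ U ⊓ V
    · obtain ⟨g₁, g₂, h1, h2, h3⟩ := exists_germ_eq_on_basicOpen_aux hU hV F₁ F₂ hF₁ hF₂ a₁ a₂ h
        i.1 i.2 (hi.trans inf_le_left) (hi.trans inf_le_right)
      exact ⟨g₁, g₂, h1, h2, fun _ y hyU hyV hyi hy1 hy2 => h3 y hyi hy1 hy2⟩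
    · exact ⟨1, 1, fun x hx => by rw [X.basicOpen_one]; exact hF₁ x hx,
        fun x hx => by rw [X.basicOpen_one]; exact hF₂ x hx, fun hle => absurd hle hi⟩
  choose G₁ G₂ hG₁ hG₂ hG using hloc
  refine ⟨∏ i ∈ hSfin.toFinset, G₁ i, ∏ i ∈ hSfin.toFinset, G₂ i, ?_, ?_, ?_⟩
  · intro x hx
    rw [X.mem_basicOpen _ x (hF₁ x hx), map_prod]
    exact Finset.prod_induction _ IsUnit (fun a b ha hb => ha.mul hb) isUnit_one
      (fun i _ => (X.mem_basicOpen _ x (hF₁ x hx)).mp (hG₁ i x hx))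
  · intro x hx
    rw [X.mem_basicOpen _ x (hF₂ x hx), map_prod]
    exact Finset.prod_induction _ IsUnit (fun a b ha hb => ha.mul hb) isUnit_one
      (fun i _ => (X.mem_basicOpen _ x (hF₂ x hx)).mp (hG₂ i x hx))
  · intro y hyU hyV hy₁ hy₂
    have hyUV : y ∈ (U : Set X) ∩ (V : Set X) := ⟨hyU, hyV⟩
    rw [hS] at hyUV
    obtain ⟨i, hiS, hyi⟩ := Set.mem_iUnion₂.mp hyUV
    have hile : i.1 ≤ U ⊓ V := by
      intro z hz
      have : z ∈ (U : Set X) ∩ (V : Set X) := by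
        rw [hS]
        exact Set.mem_iUnion₂.mpr ⟨i, hiS, hz⟩
      exact this
    have hy₁' : y ∈ X.basicOpen (G₁ i) := by
      rw [X.mem_basicOpen _ y hyU] at hy₁ ⊢
      rw [map_prod] at hy₁
      exact isUnit_of_dvd_unit
        (Finset.dvd_prod_of_mem (fun i => X.presheaf.germ U y hyU (G₁ i))
          (hSfin.mem_toFinset.mpr hiS)) hy₁
    have hy₂' : y ∈ X.basicOpen (G₂ i) := by
      rw [X.mem_basicOpen _ y hyV] at hy₂ ⊢
      rw [map_prod] at hy₂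
      exact isUnit_of_dvd_unit
        (Finset.dvd_prod_of_mem (fun i => X.presheaf.germ V y hyV (G₂ i))
          (hSfin.mem_toFinset.mpr hiS)) hy₂
    exact hG i hile y hyU hyV hyi hy₁' hy₂'

end LocalAgreement

section TwoCharts

/-- the two-chart affineness criterion: if `h` is a function on `U_{sU} ∪ V_{sV}` (with `U`,
`V` affine) such that `h ≠ 0` forces the point into `V` and `h ≠ 1` forces it into `U`, then
any finite set of points of `U_{sU} ∩ {h ≠ 1}` and `V_{sV} ∩ {h ≠ 0}` lies in an affine open. -/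
lemma exists_isAffineOpen_of_two_charts [QuasiSeparatedSpace X] {U V : X.Opens}
    (hU : IsAffineOpen U) (hV : IsAffineOpen V) (sU : Γ(X, U)) (sV : Γ(X, V))
    (h : Γ(X, X.basicOpen sU ⊔ X.basicOpen sV))
    (h1 : X.basicOpen sU ⊓ X.basicOpen h ≤ V) (h2 : X.basicOpen sV ⊓ X.basicOpen (1 - h) ≤ U)
    (F₁ F₂ : Finset X) (hF₁ : ∀ x ∈ F₁, x ∈ X.basicOpen sU ∧ x ∈ X.basicOpen (1 - h))
    (hF₂ : ∀ x ∈ F₂, x ∈ X.basicOpen sV ∧ x ∈ X.basicOpen h) :
    ∃ W : X.Opens, IsAffineOpen W ∧ (∀ x ∈ F₁, x ∈ W) ∧ (∀ x ∈ F₂, x ∈ W) := by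
  classical
  obtain ⟨W₀, hW₀⟩ : ∃ W₀ : X.Opens, W₀ = X.basicOpen sU ⊔ X.basicOpen sV := ⟨_, rfl⟩
  subst hW₀
  have hc : IsCompact ((X.basicOpen sU ⊔ X.basicOpen sV : X.Opens) : Set X) := by
    rw [Opens.coe_sup]
    exact (hU.basicOpen sU).isCompact.union (hV.basicOpen sV).isCompact
  have hqs : IsQuasiSeparated ((X.basicOpen sU ⊔ X.basicOpen sV : X.Opens) : Set X) :=
    IsQuasiSeparated.of_quasiSeparatedSpace _
  -- the `V`-side function
  have hle_h : X.basicOpen h ≤ V := by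
    intro y hy
    rcases (mem_sup_iff _ _ y).mp (X.basicOpen_le h hy) with hyU | hyV
    · exact h1 ⟨hyU, hy⟩
    · exact X.basicOpen_le sV hyV
  have hle_h' : X.basicOpen (1 - h) ≤ U := by
    intro y hy
    rcases (mem_sup_iff _ _ y).mp (X.basicOpen_le (1 - h) hy) with hyU | hyV
    · exact X.basicOpen_le sU hyU
    · exact h2 ⟨hyV, hy⟩
  obtain ⟨n, y, hy⟩ := exists_eq_pow_mul_of_isCompact_of_isQuasiSeparated X _ hc hqs h
    (X.presheaf.map (homOfLE hle_h).op sV)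
  have hy' : X.presheaf.map (homOfLE (X.basicOpen_le h)).op y =
      (X.presheaf.map (homOfLE (X.basicOpen_le h)).op h) ^ n *
        X.presheaf.map (homOfLE hle_h).op sV := hy
  obtain ⟨n₂, y₂, hy₂⟩ := exists_eq_pow_mul_of_isCompact_of_isQuasiSeparated X _ hc hqs (1 - h)
    (X.presheaf.map (homOfLE hle_h').op sU)
  have hy₂' : X.presheaf.map (homOfLE (X.basicOpen_le (1 - h))).op y₂ =
      (X.presheaf.map (homOfLE (X.basicOpen_le (1 - h))).op (1 - h)) ^ n₂ *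
        X.presheaf.map (homOfLE hle_h').op sU := hy₂
  have hunit : IsUnit (X.presheaf.map (homOfLE (X.basicOpen_le h)).op h) :=
    X.toRingedSpace.isUnit_res_basicOpen h
  have hunit₂ : IsUnit (X.presheaf.map (homOfLE (X.basicOpen_le (1 - h))).op (1 - h)) :=
    X.toRingedSpace.isUnit_res_basicOpen (1 - h)
  have hbo : X.basicOpen (h * y) = X.basicOpen h ⊓ X.basicOpen sV := by
    rw [X.basicOpen_mul]
    have e1 : X.basicOpen h ⊓ X.basicOpen y =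
        X.basicOpen (X.presheaf.map (homOfLE (X.basicOpen_le h)).op y) :=
      (X.basicOpen_res y _).symm
    rw [e1, hy', X.basicOpen_mul, X.basicOpen_of_isUnit (hunit.pow n), X.basicOpen_res,
      ← inf_assoc, inf_idem]
  have hbo₂ : X.basicOpen ((1 - h) * y₂) = X.basicOpen (1 - h) ⊓ X.basicOpen sU := by
    rw [X.basicOpen_mul]
    have e1 : X.basicOpen (1 - h) ⊓ X.basicOpen y₂ =
        X.basicOpen (X.presheaf.map (homOfLE (X.basicOpen_le (1 - h))).op y₂) :=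
      (X.basicOpen_res y₂ _).symm
    rw [e1, hy₂', X.basicOpen_mul, X.basicOpen_of_isUnit (hunit₂.pow n₂), X.basicOpen_res,
      ← inf_assoc, inf_idem]
  have haff : IsAffineOpen (X.basicOpen (h * y)) := by
    rw [hbo, inf_comm, ← X.basicOpen_res h
      (homOfLE (le_sup_right : X.basicOpen sV ≤ X.basicOpen sU ⊔ X.basicOpen sV)).op]
    exact (hV.basicOpen sV).basicOpen _
  have haff₂ : IsAffineOpen (X.basicOpen ((1 - h) * y₂)) := by
    rw [hbo₂, inf_comm, ← X.basicOpen_res (1 - h)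
      (homOfLE (le_sup_left : X.basicOpen sU ≤ X.basicOpen sU ⊔ X.basicOpen sV)).op]
    exact (hU.basicOpen sU).basicOpen _
  -- prime avoidance in `Γ(X, W₀)`
  let P : X → Ideal Γ(X, X.basicOpen sU ⊔ X.basicOpen sV) := fun x =>
    if hx : x ∈ X.basicOpen sU ⊔ X.basicOpen sV then
      Ideal.comap (X.presheaf.germ (X.basicOpen sU ⊔ X.basicOpen sV) x hx).hom
        (IsLocalRing.maximalIdeal (X.presheaf.stalk x))
    else ⊤
  have hPmem : ∀ (x : X) (hx : x ∈ X.basicOpen sU ⊔ X.basicOpen sV)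
      (r : Γ(X, X.basicOpen sU ⊔ X.basicOpen sV)), r ∈ P x ↔ x ∉ X.basicOpen r := by
    intro x hx r
    show r ∈ (if hx : x ∈ X.basicOpen sU ⊔ X.basicOpen sV then
      Ideal.comap (X.presheaf.germ (X.basicOpen sU ⊔ X.basicOpen sV) x hx).hom
        (IsLocalRing.maximalIdeal (X.presheaf.stalk x)) else ⊤) ↔ _
    rw [dif_pos hx, Ideal.mem_comap, IsLocalRing.mem_maximalIdeal, mem_nonunits_iff,
      X.mem_basicOpen r x hx]
  have hPprime : ∀ (x : X) (hx : x ∈ X.basicOpen sU ⊔ X.basicOpen sV), (P x).IsPrime := by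
    intro x hx
    show (if hx : x ∈ X.basicOpen sU ⊔ X.basicOpen sV then
      Ideal.comap (X.presheaf.germ (X.basicOpen sU ⊔ X.basicOpen sV) x hx).hom
        (IsLocalRing.maximalIdeal (X.presheaf.stalk x)) else ⊤).IsPrime
    rw [dif_pos hx]
    infer_instance
  have hF₁W : ∀ x ∈ F₁, x ∈ X.basicOpen sU ⊔ X.basicOpen sV := fun x hx =>
    (mem_sup_iff _ _ x).mpr (Or.inl (hF₁ x hx).1)
  have hF₂W : ∀ x ∈ F₂, x ∈ X.basicOpen sU ⊔ X.basicOpen sV := fun x hx =>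
    (mem_sup_iff _ _ x).mpr (Or.inr (hF₂ x hx).1)
  have hFW : ∀ x ∈ F₁ ∪ F₂, x ∈ X.basicOpen sU ⊔ X.basicOpen sV := by
    intro x hx
    rcases Finset.mem_union.mp hx with hx | hx
    · exact hF₁W x hx
    · exact hF₂W x hx
  obtain ⟨r, hrI, hr⟩ := exists_mem_notMem_of_primes
    (Ideal.span {h * y, (1 - h) * y₂}) (F₁ ∪ F₂) P (fun x hx => hPprime x (hFW x hx)) (by
      intro x hx hle
      rcases Finset.mem_union.mp hx with hx₁ | hx₂
      · have hmem : (1 - h) * y₂ ∈ P x :=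
          hle (Ideal.subset_span (Set.mem_insert_of_mem _ (Set.mem_singleton _)))
        apply (hPmem x (hF₁W x hx₁) _).mp hmem
        rw [hbo₂]
        exact ⟨(hF₁ x hx₁).2, (hF₁ x hx₁).1⟩
      · have hmem : h * y ∈ P x := hle (Ideal.subset_span (Set.mem_insert _ _))
        apply (hPmem x (hF₂W x hx₂) _).mp hmem
        rw [hbo]
        exact ⟨(hF₂ x hx₂).2, (hF₂ x hx₂).1⟩)
  obtain ⟨c, d, hcd⟩ := Ideal.mem_span_pair.mp hrI
  have hrmem : ∀ x ∈ F₁ ∪ F₂, x ∈ X.basicOpen r := by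
    intro x hx
    by_contra hxr
    exact hr x hx ((hPmem x (hFW x hx) r).mpr hxr)
  refine ⟨X.basicOpen r, ?_, fun x hx => hrmem x (Finset.mem_union_left _ hx),
    fun x hx => hrmem x (Finset.mem_union_right _ hx)⟩
  let ρ : Γ(X, X.basicOpen sU ⊔ X.basicOpen sV) →+* Γ(X, X.basicOpen r) :=
    (X.presheaf.map (homOfLE (X.basicOpen_le r)).op).hom
  have hρunit : IsUnit (ρ r) := X.toRingedSpace.isUnit_res_basicOpen r
  have hρbo : ∀ z : Γ(X, X.basicOpen sU ⊔ X.basicOpen sV),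
      X.basicOpen (ρ z) = X.basicOpen r ⊓ X.basicOpen z := fun z => X.basicOpen_res z _
  refine isAffineOpen_of_isAffineOpen_basicOpen (X.basicOpen r)
    {ρ (h * y), ρ ((1 - h) * y₂)} ?_ ?_
  · refine Ideal.eq_top_of_isUnit_mem _ ?_ hρunit
    refine Ideal.mem_span_pair.mpr ⟨ρ c, ρ d, ?_⟩
    rw [← map_mul, ← map_mul, ← map_add, hcd]
  · intro i hi
    rcases hi with rfl | hi
    · rw [hρbo, inf_comm, ← X.basicOpen_res r (homOfLE (X.basicOpen_le (h * y))).op]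
      exact haff.basicOpen _
    · rw [Set.mem_singleton_iff.mp hi, hρbo, inf_comm,
        ← X.basicOpen_res r (homOfLE (X.basicOpen_le ((1 - h) * y₂))).op]
      exact haff₂.basicOpen _

end TwoCharts

end Groth.Agent.H89.AffNbhd
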