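import Mathlib
import Groth.Agent.H89.AffNbhd3

/-!
# An affine open containing the images of finitely many points (`S7660`)

`f : T ⟶ X`, `T` affine, `X` quasi-separated, `f` injective on generic points of irreducible
components, `s` a finite set of points of `T` at which `f` is an isomorphism on stalks. Then
`f(s)` lies in an affine open of `X`.
-/

open AlgebraicGeometry CategoryTheory TopologicalSpace Opposite

universe u

namespace Groth.Agent.H89.AffNbhd

variable {T X : Scheme.{u}} (f : T ⟶ X)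

/-- every function defined near `s` on `T` is represented by a function defined near `f(s)`. -/
def CanRep (s : Finset T) : Prop :=
  ∀ (D : T.Opens) (β : Γ(T, D)), (∀ t ∈ s, t ∈ D) →
    ∃ (N : X.Opens) (a : Γ(X, N)), ∀ t ∈ s, Rep f a β t

section Cut

open Classical in
/-- a function `b` near `s = s₁ ∪ {tm}` with `b = 0` on `s₁`, `b = 1` at `tm`, whose
non-vanishing locus lies in `OV` and such that the non-vanishing locus of `1 - b` lies in `OU`. -/
lemma exists_cut_function [IsAffine T] (s₁ : Finset T) (tm : T)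
    (hanti : ∀ t ∈ insert tm s₁, ∀ t' ∈ insert tm s₁, t ⤳ t' → t = t') (htm : tm ∉ s₁)
    (OU OV : T.Opens) (hOU : ∀ t ∈ s₁, t ∈ OU) (hOV : tm ∈ OV) :
    ∃ (D : T.Opens) (b : Γ(T, D)), (∀ t ∈ insert tm s₁, t ∈ D) ∧ T.basicOpen b ≤ OV ∧
      T.basicOpen (1 - b) ≤ OU ∧ (∀ t ∈ s₁, t ∉ T.basicOpen b) ∧ tm ∉ T.basicOpen (1 - b) ∧
      tm ∈ T.basicOpen b ∧ (∀ t ∈ s₁, t ∈ T.basicOpen (1 - b)) := by
  classical
  have hT := isAffineOpen_top T
  have hC₁ : IsClosed (⋃ t ∈ s₁, closure ({t} : Set T)) :=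
    isClosed_biUnion_finset (fun t _ => isClosed_closure)
  have htmC₁ : tm ∉ ⋃ t ∈ s₁, closure ({t} : Set T) := by
    intro hmem
    obtain ⟨t, ht, htm'⟩ := Set.mem_iUnion₂.mp hmem
    have hsp : t ⤳ tm := specializes_iff_mem_closure.mpr htm'
    have := hanti t (Finset.mem_insert_of_mem ht) tm (Finset.mem_insert_self _ _) hsp
    exact htm (this ▸ ht)
  obtain ⟨β₂, hβ₂F, hβ₂N⟩ := exists_basicOpen_mem_le hT {tm}
    (OV ⊓ ⟨(⋃ t ∈ s₁, closure ({t} : Set T))ᶜ, hC₁.isOpen_compl⟩) (fun x _ => trivial)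
    (fun x hx => by
      rw [Finset.mem_singleton.mp hx]
      exact ⟨hOV, htmC₁⟩)
  have hβ₂tm : tm ∈ T.basicOpen β₂ := hβ₂F tm (Finset.mem_singleton_self _)
  have hβ₂s : ∀ t ∈ s₁, t ∉ T.basicOpen β₂ := by
    intro t ht hmem
    exact (hβ₂N hmem).2 (Set.mem_iUnion₂.mpr ⟨t, ht, subset_closure rfl⟩)
  have htC₂ : ∀ t ∈ s₁, t ∉ closure ({tm} : Set T) := by
    intro t ht hmem
    have hsp : tm ⤳ t := specializes_iff_mem_closure.mpr hmem
    have := hanti tm (Finset.mem_insert_self _ _) t (Finset.mem_insert_of_mem ht) hsp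
    exact htm (this ▸ ht)
  obtain ⟨β₁, hβ₁F, hβ₁N⟩ := exists_basicOpen_mem_le hT s₁
    (OU ⊓ ⟨(closure ({tm} : Set T))ᶜ, isClosed_closure.isOpen_compl⟩) (fun x _ => trivial)
    (fun x hx => ⟨hOU x hx, htC₂ x hx⟩)
  have hβ₁tm : tm ∉ T.basicOpen β₁ := fun hmem => (hβ₁N hmem).2 (subset_closure rfl)
  -- membership in `D(β₁ + β₂)`
  have hσ₁ : ∀ t : T, t ∈ T.basicOpen β₁ → t ∉ T.basicOpen β₂ → t ∈ T.basicOpen (β₁ + β₂) := by
    intro t h1 h2
    rw [Scheme.mem_basicOpen_top] at h1 h2 ⊢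
    rw [map_add]
    exact isUnit_add_of_isUnit_of_not h1 h2
  have hσ₂ : ∀ t : T, t ∉ T.basicOpen β₁ → t ∈ T.basicOpen β₂ → t ∈ T.basicOpen (β₁ + β₂) := by
    intro t h1 h2
    rw [Scheme.mem_basicOpen_top] at h1 h2 ⊢
    rw [map_add, add_comm]
    exact isUnit_add_of_isUnit_of_not h2 h1
  have hu : IsUnit (T.presheaf.map (homOfLE (T.basicOpen_le (β₁ + β₂))).op (β₁ + β₂)) :=
    T.toRingedSpace.isUnit_res_basicOpen (β₁ + β₂)
  obtain ⟨ρ, hρdef⟩ : ∃ ρ : Γ(T, ⊤) →+* Γ(T, T.basicOpen (β₁ + β₂)),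
      ρ = (T.presheaf.map (homOfLE (T.basicOpen_le (β₁ + β₂))).op).hom := ⟨_, rfl⟩
  have hρbo : ∀ z : Γ(T, ⊤), T.basicOpen (ρ z) = T.basicOpen (β₁ + β₂) ⊓ T.basicOpen z := by
    intro z
    rw [hρdef]
    exact T.basicOpen_res z _
  have hu' : IsUnit (ρ (β₁ + β₂)) := by
    rw [hρdef]
    exact hu
  obtain ⟨w, hw⟩ := hu'.exists_right_inv
  have hwunit : IsUnit w :=
    ⟨⟨w, ρ (β₁ + β₂), by rw [mul_comm]; exact hw, hw⟩, rfl⟩
  have h1b : 1 - ρ β₂ * w = ρ β₁ * w := by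
    rw [map_add, add_mul] at hw
    rw [← hw]
    ring
  have hbo_b : T.basicOpen (ρ β₂ * w) = T.basicOpen (β₁ + β₂) ⊓ T.basicOpen β₂ := by
    rw [T.basicOpen_mul, T.basicOpen_of_isUnit hwunit, hρbo]
    exact inf_eq_left.mpr inf_le_left
  have hbo_b' : T.basicOpen (1 - ρ β₂ * w) = T.basicOpen (β₁ + β₂) ⊓ T.basicOpen β₁ := by
    rw [h1b, T.basicOpen_mul, T.basicOpen_of_isUnit hwunit, hρbo]
    exact inf_eq_left.mpr inf_le_left
  refine ⟨T.basicOpen (β₁ + β₂), ρ β₂ * w, ?_, ?_, ?_, ?_, ?_, ?_, ?_⟩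
  · intro t ht
    rcases Finset.mem_insert.mp ht with rfl | ht₁
    · exact hσ₂ t hβ₁tm hβ₂tm
    · exact hσ₁ t (hβ₁F t ht₁) (hβ₂s t ht₁)
  · rw [hbo_b]
    exact inf_le_right.trans (hβ₂N.trans inf_le_left)
  · rw [hbo_b']
    exact inf_le_right.trans (hβ₁N.trans inf_le_left)
  · intro t ht hmem
    rw [hbo_b] at hmem
    exact hβ₂s t ht hmem.2
  · intro hmem
    rw [hbo_b'] at hmem
    exact hβ₁tm hmem.2
  · rw [hbo_b]
    exact ⟨hσ₂ tm hβ₁tm hβ₂tm, hβ₂tm⟩
  · intro t ht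
    rw [hbo_b']
    exact ⟨hσ₁ t (hβ₁F t ht) (hβ₂s t ht), hβ₁F t ht⟩

end Cut

section Induction

variable
  (hinj : ∀ η η' : T, closure ({η} : Set T) ∈ irreducibleComponents T →
    closure ({η'} : Set T) ∈ irreducibleComponents T → f η = f η' → η = η')

open Classical in
include hinj in
/-- representing a function near `s₁ ∪ {tm}` on the union of two shrunken affine charts. -/
lemma exists_rep_insert [IsAffine T] [QuasiSeparatedSpace X] (s₁ : Finset T) (tm : T)
    (hiso : ∀ t ∈ insert tm s₁, IsIso (f.stalkMap t)) (hc : CanRep f s₁)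
    {U V : X.Opens} (hU : IsAffineOpen U) (hV : IsAffineOpen V) (hsU : ∀ t ∈ s₁, f t ∈ U)
    (htV : f tm ∈ V) (D : T.Opens) (β : Γ(T, D)) (hD : ∀ t ∈ insert tm s₁, t ∈ D) :
    ∃ (sU : Γ(X, U)) (sV : Γ(X, V)), (∀ t ∈ s₁, f t ∈ X.basicOpen sU) ∧
      f tm ∈ X.basicOpen sV ∧
      ∃ h : Γ(X, X.basicOpen sU ⊔ X.basicOpen sV), ∀ t ∈ insert tm s₁, Rep f h β t := by
  classical
  haveI : IsIso (f.stalkMap tm) := hiso tm (Finset.mem_insert_self _ _)
  -- step 1: a representative near `f(s₁)` on a basic open of `U`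
  obtain ⟨N₁, a₁', hrep₁⟩ := hc D β (fun t ht => hD t (Finset.mem_insert_of_mem ht))
  obtain ⟨e₁, he₁F, he₁N⟩ := exists_basicOpen_mem_le hU (s₁.image f) N₁
    (fun x hx => by
      obtain ⟨t, ht, rfl⟩ := Finset.mem_image.mp hx
      exact hsU t ht)
    (fun x hx => by
      obtain ⟨t, ht, rfl⟩ := Finset.mem_image.mp hx
      exact (hrep₁ t ht).fst)
  have hU1 : IsAffineOpen (X.basicOpen e₁) := hU.basicOpen e₁
  have hmem₁ : ∀ t ∈ s₁, f t ∈ X.basicOpen e₁ :=
    fun t ht => he₁F (f t) (Finset.mem_image_of_mem f ht)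
  have hrep_a₁ : ∀ t ∈ s₁, Rep f (X.presheaf.map (homOfLE he₁N).op a₁') β t := fun t ht =>
    (rep_res_iff f he₁N a₁' β t (hmem₁ t ht)).mpr (hrep₁ t ht)
  -- step 2: a representative near `f tm` on a basic open of `V`
  obtain ⟨Nm, am', hrepm⟩ := exists_rep_of_isIso f tm β (hD tm (Finset.mem_insert_self _ _))
  obtain ⟨e₂, he₂F, he₂N⟩ := exists_basicOpen_mem_le hV {f tm} Nm
    (fun x hx => by
      rw [Finset.mem_singleton.mp hx]
      exact htV)
    (fun x hx => by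
      rw [Finset.mem_singleton.mp hx]
      exact hrepm.fst)
  have hV1 : IsAffineOpen (X.basicOpen e₂) := hV.basicOpen e₂
  have hmem₂ : f tm ∈ X.basicOpen e₂ := he₂F (f tm) (Finset.mem_singleton_self _)
  have hrep_a₂ : Rep f (X.presheaf.map (homOfLE he₂N).op am') β tm :=
    (rep_res_iff f he₂N am' β tm hmem₂).mpr hrepm
  -- step 3: make them agree on the overlap
  obtain ⟨g₁, g₂, hg₁, hg₂, hgerm⟩ := exists_germ_eq_on_basicOpen hU1 hV1 (s₁.image f) {f tm}
    (fun x hx => by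
      obtain ⟨t, ht, rfl⟩ := Finset.mem_image.mp hx
      exact hmem₁ t ht)
    (fun x hx => by
      rw [Finset.mem_singleton.mp hx]
      exact hmem₂)
    (X.presheaf.map (homOfLE he₁N).op a₁') (X.presheaf.map (homOfLE he₂N).op am') (by
      rintro y hyU hyV ⟨x₁, hx₁, hyx₁⟩ ⟨x₂, hx₂, hyx₂⟩
      obtain ⟨t₁, ht₁, rfl⟩ := Finset.mem_image.mp hx₁
      rw [Finset.mem_singleton.mp hx₂] at hyx₂
      haveI : IsIso (f.stalkMap t₁) := hiso t₁ (Finset.mem_insert_of_mem ht₁)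
      obtain ⟨t', ht', rfl⟩ := exists_lift_generization f t₁ t₁ specializes_rfl y hyx₁
      obtain ⟨t'', ht'', he⟩ := exists_lift_generization f tm tm specializes_rfl (f t') hyx₂
      have hteq : t'' = t' := eq_of_map_eq f hinj tm t₁ t'' t' ht'' ht' he
      rw [hteq] at ht''
      exact germ_eq_of_rep f t₁ t' ht' _ _ β ((hrep_a₁ t₁ ht₁).specializes ht')
        (hrep_a₂.specializes ht'') hyU hyV)
  -- step 4: the shrunken charts as basic opens of `U`, `V`
  obtain ⟨sU, hsU'⟩ := hU.basicOpen_basicOpen_is_basicOpen e₁ g₁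
  obtain ⟨sV, hsV'⟩ := hV.basicOpen_basicOpen_is_basicOpen e₂ g₂
  have hle₁ : X.basicOpen sU ≤ X.basicOpen e₁ := hsU' ▸ X.basicOpen_le g₁
  have hle₂ : X.basicOpen sV ≤ X.basicOpen e₂ := hsV' ▸ X.basicOpen_le g₂
  have hmemU : ∀ t ∈ s₁, f t ∈ X.basicOpen sU := by
    intro t ht
    rw [hsU']
    exact hg₁ (f t) (Finset.mem_image_of_mem f ht)
  have hmemV : f tm ∈ X.basicOpen sV := by
    rw [hsV']
    exact hg₂ (f tm) (Finset.mem_singleton_self _)
  -- step 5: glue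
  obtain ⟨h, hh₁, hh₂⟩ := exists_glue_res (X.basicOpen sU) (X.basicOpen sV)
    (X.presheaf.map (homOfLE hle₁).op (X.presheaf.map (homOfLE he₁N).op a₁'))
    (X.presheaf.map (homOfLE hle₂).op (X.presheaf.map (homOfLE he₂N).op am')) (by
      intro y h₁ h₂
      have e1 := TopCat.Presheaf.germ_res_apply X.presheaf (homOfLE hle₁) y h₁
        (X.presheaf.map (homOfLE he₁N).op a₁')
      have e2 := TopCat.Presheaf.germ_res_apply X.presheaf (homOfLE hle₂) y h₂
        (X.presheaf.map (homOfLE he₂N).op am')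
      exact e1.trans ((hgerm y (hle₁ h₁) (hle₂ h₂) (hsU' ▸ h₁) (hsV' ▸ h₂)).trans e2.symm))
  refine ⟨sU, sV, hmemU, hmemV, h, ?_⟩
  intro t ht
  rcases Finset.mem_insert.mp ht with rfl | ht₁
  · have hm : f t ∈ X.basicOpen sV := hmemV
    refine (rep_res_iff f (le_sup_right : X.basicOpen sV ≤ X.basicOpen sU ⊔ X.basicOpen sV)
      h β t hm).mp ?_
    rw [hh₂]
    exact (rep_res_iff f hle₂ _ β t hm).mpr hrep_a₂
  · have hm : f t ∈ X.basicOpen sU := hmemU t ht₁
    refine (rep_res_iff f (le_sup_left : X.basicOpen sU ≤ X.basicOpen sU ⊔ X.basicOpen sV)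
      h β t hm).mp ?_
    rw [hh₁]
    exact (rep_res_iff f hle₁ _ β t hm).mpr (hrep_a₁ t ht₁)

include hinj in
theorem exists_affine_and_canRep [IsAffine T] [QuasiSeparatedSpace X] (s : Finset T) :
    (∀ t ∈ s, IsIso (f.stalkMap t)) → (∀ t ∈ s, ∀ t' ∈ s, t ⤳ t' → t = t') →
    (∃ U : X.Opens, IsAffineOpen U ∧ ∀ t ∈ s, f t ∈ U) ∧ CanRep f s := by
  classical
  induction s using Finset.induction_on with
  | empty =>
    intro _ _
    refine ⟨⟨⊥, isAffineOpen_bot X, by simp⟩, ?_⟩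
    intro D β _
    exact ⟨⊥, 0, by simp⟩
  | insert tm s₁ htm ih =>
    intro hiso hanti
    obtain ⟨⟨U, hU, hsU⟩, hc⟩ := ih (fun t ht => hiso t (Finset.mem_insert_of_mem ht))
      (fun t ht t' ht' => hanti t (Finset.mem_insert_of_mem ht) t' (Finset.mem_insert_of_mem ht'))
    obtain ⟨_, ⟨V, hV, rfl⟩, htV, -⟩ := X.isBasis_affineOpens.exists_subset_of_mem_open
      (Set.mem_univ (f tm)) isOpen_univ
    replace htV : f tm ∈ V := htV
    have hcan : CanRep f (insert tm s₁) := by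
      intro D β hD
      obtain ⟨sU, sV, -, -, h, hh⟩ :=
        exists_rep_insert f hinj s₁ tm hiso hc hU hV hsU htV D β hD
      exact ⟨_, h, hh⟩
    refine ⟨?_, hcan⟩
    haveI : IsIso (f.stalkMap tm) := hiso tm (Finset.mem_insert_self _ _)
    -- the cutting function
    obtain ⟨D, b, hDs, hbV, hbU, hb0, hb1, hb1', hb0'⟩ :=
      exists_cut_function s₁ tm hanti htm (f ⁻¹ᵁ U) (f ⁻¹ᵁ V) hsU htV
    obtain ⟨sU, sV, hmemU, hmemV, h, hh⟩ :=
      exists_rep_insert f hinj s₁ tm hiso hc hU hV hsU htV D b hDs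
    have hU2 : IsAffineOpen (X.basicOpen sU) := hU.basicOpen sU
    have hV2 : IsAffineOpen (X.basicOpen sV) := hV.basicOpen sV
    -- shrink the `U`-chart
    obtain ⟨g, hgF, hgV⟩ := exists_basicOpen_inf_le hU2 (s₁.image f)
      (fun x hx => by
        obtain ⟨t, ht, rfl⟩ := Finset.mem_image.mp hx
        exact hmemU t ht)
      (X.presheaf.map (homOfLE (le_sup_left : X.basicOpen sU ≤
        X.basicOpen sU ⊔ X.basicOpen sV)).op h) V (by
        rintro y hyU hya ⟨x, hx, hyx⟩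
        obtain ⟨t, ht, rfl⟩ := Finset.mem_image.mp hx
        haveI : IsIso (f.stalkMap t) := hiso t (Finset.mem_insert_of_mem ht)
        obtain ⟨t', ht', rfl⟩ := exists_lift_generization f t t specializes_rfl y hyx
        have r1 : Rep f h b t' := (hh t (Finset.mem_insert_of_mem ht)).specializes ht'
        have r2 := (rep_res_iff f (le_sup_left : X.basicOpen sU ≤
          X.basicOpen sU ⊔ X.basicOpen sV) h b t' hyU).mpr r1
        exact hbV (r2.mem_basicOpen_iff.mp hya))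
    obtain ⟨sU', hsU'⟩ := hU.basicOpen_basicOpen_is_basicOpen sU g
    -- shrink the `V`-chart
    obtain ⟨g', hg'F, hg'U⟩ := exists_basicOpen_inf_le hV2 {f tm}
      (fun x hx => by
        rw [Finset.mem_singleton.mp hx]
        exact hmemV)
      (X.presheaf.map (homOfLE (le_sup_right : X.basicOpen sV ≤
        X.basicOpen sU ⊔ X.basicOpen sV)).op (1 - h)) U (by
        rintro y hyV hya ⟨x, hx, hyx⟩
        rw [Finset.mem_singleton.mp hx] at hyx
        obtain ⟨t', ht', rfl⟩ := exists_lift_generization f tm tm specializes_rfl y hyx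
        have r1 : Rep f (1 - h) (1 - b) t' :=
          ((hh tm (Finset.mem_insert_self _ _)).specializes ht').one_sub
        have r2 := (rep_res_iff f (le_sup_right : X.basicOpen sV ≤
          X.basicOpen sU ⊔ X.basicOpen sV) (1 - h) (1 - b) t' hyV).mpr r1
        exact hbU (r2.mem_basicOpen_iff.mp hya))
    obtain ⟨sV', hsV'⟩ := hV.basicOpen_basicOpen_is_basicOpen sV g'
    -- the restricted function
    have hleU : X.basicOpen sU' ≤ X.basicOpen sU := hsU' ▸ X.basicOpen_le g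
    have hleV : X.basicOpen sV' ≤ X.basicOpen sV := hsV' ▸ X.basicOpen_le g'
    have hWle : X.basicOpen sU' ⊔ X.basicOpen sV' ≤ X.basicOpen sU ⊔ X.basicOpen sV :=
      sup_le_sup hleU hleV
    obtain ⟨h₃, hh₃⟩ : ∃ h₃ : Γ(X, X.basicOpen sU' ⊔ X.basicOpen sV'),
        h₃ = X.presheaf.map (homOfLE hWle).op h := ⟨_, rfl⟩
    have hbo₃ : X.basicOpen h₃ = (X.basicOpen sU' ⊔ X.basicOpen sV') ⊓ X.basicOpen h := by
      rw [hh₃]
      exact X.basicOpen_res h _
    have hbo₃' : X.basicOpen (1 - h₃) =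
        (X.basicOpen sU' ⊔ X.basicOpen sV') ⊓ X.basicOpen (1 - h) := by
      have : 1 - h₃ = X.presheaf.map (homOfLE hWle).op (1 - h) := by
        rw [hh₃, map_sub, map_one]
      rw [this]
      exact X.basicOpen_res (1 - h) _
    have hrep₃ : ∀ t ∈ insert tm s₁, f t ∈ X.basicOpen sU' ⊔ X.basicOpen sV' →
        Rep f h₃ b t := by
      intro t ht hm
      rw [hh₃]
      exact (rep_res_iff f hWle h b t hm).mpr (hh t ht)
    have hmemU' : ∀ t ∈ s₁, f t ∈ X.basicOpen sU' := by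
      intro t ht
      rw [hsU']
      exact hgF (f t) (Finset.mem_image_of_mem f ht)
    have hmemV' : f tm ∈ X.basicOpen sV' := by
      rw [hsV']
      exact hg'F (f tm) (Finset.mem_singleton_self _)
    obtain ⟨W, hW, hW₁, hW₂⟩ := exists_isAffineOpen_of_two_charts hU hV sU' sV' h₃
      (by
        intro y hy
        have hy1 : y ∈ X.basicOpen sU' := hy.1
        have hy2 : y ∈ X.basicOpen h₃ := hy.2
        rw [hbo₃] at hy2
        apply hgV
        refine ⟨hsU' ▸ hy1, ?_⟩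
        rw [X.basicOpen_res]
        exact ⟨hleU hy1, hy2.2⟩)
      (by
        intro y hy
        have hy1 : y ∈ X.basicOpen sV' := hy.1
        have hy2 : y ∈ X.basicOpen (1 - h₃) := hy.2
        rw [hbo₃'] at hy2
        apply hg'U
        refine ⟨hsV' ▸ hy1, ?_⟩
        rw [X.basicOpen_res]
        exact ⟨hleV hy1, hy2.2⟩)
      (s₁.image f) {f tm}
      (by
        intro x hx
        obtain ⟨t, ht, rfl⟩ := Finset.mem_image.mp hx
        refine ⟨hmemU' t ht, ?_⟩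
        have hm : f t ∈ X.basicOpen sU' ⊔ X.basicOpen sV' :=
          (mem_sup_iff _ _ _).mpr (Or.inl (hmemU' t ht))
        exact (hrep₃ t (Finset.mem_insert_of_mem ht) hm).one_sub.mem_basicOpen_iff.mpr
          (hb0' t ht))
      (by
        intro x hx
        rw [Finset.mem_singleton.mp hx]
        refine ⟨hmemV', ?_⟩
        have hm : f tm ∈ X.basicOpen sU' ⊔ X.basicOpen sV' :=
          (mem_sup_iff _ _ _).mpr (Or.inr hmemV')
        exact (hrep₃ tm (Finset.mem_insert_self _ _) hm).mem_basicOpen_iff.mpr hb1')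
    refine ⟨W, hW, ?_⟩
    intro t ht
    rcases Finset.mem_insert.mp ht with rfl | ht₁
    · exact hW₂ _ (Finset.mem_singleton_self _)
    · exact hW₁ _ (Finset.mem_image_of_mem f ht₁)

include hinj in
/-- **Main theorem.** -/
theorem exists_affineOpen [IsAffine T] [QuasiSeparatedSpace X] (s : Finset T)
    (hs : ∀ t ∈ s, IsIso (f.stalkMap t)) :
    ∃ U : X.Opens, IsAffineOpen U ∧ ∀ t ∈ s, f t ∈ U := by
  classical
  have hanti : ∀ t ∈ s.filter (fun t => ∀ t' ∈ s, t ⤳ t' → t' = t),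
      ∀ t' ∈ s.filter (fun t => ∀ t' ∈ s, t ⤳ t' → t' = t), t ⤳ t' → t = t' := by
    intro t ht t' ht' hsp
    exact ((Finset.mem_filter.mp ht).2 t' (Finset.mem_filter.mp ht').1 hsp).symm
  obtain ⟨⟨U, hU, hUs⟩, -⟩ := exists_affine_and_canRep f hinj
    (s.filter (fun t => ∀ t' ∈ s, t ⤳ t' → t' = t))
    (fun t ht => hs t (Finset.mem_filter.mp ht).1) hanti
  refine ⟨U, hU, fun t ht => ?_⟩
  letI : Preorder T :=
    { le := fun a b => a ⤳ b
      lt := fun a b => a ⤳ b ∧ ¬ b ⤳ a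
      le_refl := fun a => specializes_rfl
      le_trans := fun a b c h1 h2 => h1.trans h2
      lt_iff_le_not_ge := fun _ _ => Iff.rfl }
  obtain ⟨t', htt', hmax⟩ := s.exists_le_maximal ht
  have htt'' : t ⤳ t' := htt'
  have ht's' : t' ∈ s.filter (fun t => ∀ t' ∈ s, t ⤳ t' → t' = t) := by
    refine Finset.mem_filter.mpr ⟨hmax.1, fun t'' ht'' hsp => ?_⟩
    have h2 : t'' ⤳ t' := hmax.2 ht'' hsp
    exact (h2.antisymm hsp).eq
  exact (htt''.map f.continuous).mem_open U.2 (hUs t' ht's')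

end Induction

end Groth.Agent.H89.AffNbhd
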