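import Mathlib
import Groth.Prelude.Def_Wider
import Groth.Agent.H55.CE.Defs

/-!
# (C3) of helper55's squad for S17775: functoriality of the cokernel of `N → N_b` in `N`
-/

set_option autoImplicit false
universe u
open Groth.Agent.H55.CE

namespace Groth.Agent.H89.CE_C3

/-- (C3) functoriality of the cokernel of `N → N_b` in `N`. -/
theorem C3 (R : Type u) [CommRing R] (b : R) (N N' : Type u) [AddCommGroup N] [Module R N]
    [AddCommGroup N'] [Module R N'] (e : N ≃ₗ[R] N') :
    Nonempty (locCoker b N ≃ₗ[R] locCoker b N') := by
  let S := Submonoid.powers b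
  let f := LocalizedModule.mkLinearMap S N
  let g := LocalizedModule.mkLinearMap S N'
  let F : LocalizedModule S N →ₗ[R] LocalizedModule S N' :=
    IsLocalizedModule.map S f g e.toLinearMap
  let G : LocalizedModule S N' →ₗ[R] LocalizedModule S N :=
    IsLocalizedModule.map S g f e.symm.toLinearMap
  have hFG : F ∘ₗ G = LinearMap.id := by
    have h1 := IsLocalizedModule.map_comp' S g f g e.symm.toLinearMap e.toLinearMap
    have h2 : e.toLinearMap ∘ₗ e.symm.toLinearMap = LinearMap.id := by
      ext x; simp
    rw [h2, IsLocalizedModule.map_id] at h1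
    exact h1.symm
  have hGF : G ∘ₗ F = LinearMap.id := by
    have h1 := IsLocalizedModule.map_comp' S f g f e.toLinearMap e.symm.toLinearMap
    have h2 : e.symm.toLinearMap ∘ₗ e.toLinearMap = LinearMap.id := by
      ext x; simp
    rw [h2, IsLocalizedModule.map_id] at h1
    exact h1.symm
  let E : LocalizedModule S N ≃ₗ[R] LocalizedModule S N' := LinearEquiv.ofLinear F G hFG hGF
  have h : (LinearMap.range f).map (E : LocalizedModule S N →ₗ[R] LocalizedModule S N') =
      LinearMap.range g := by
    rw [← LinearMap.range_comp]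
    have h3 : (E : LocalizedModule S N →ₗ[R] LocalizedModule S N') ∘ₗ f = g ∘ₗ e.toLinearMap :=
      IsLocalizedModule.map_comp S f g e.toLinearMap
    rw [h3, LinearMap.range_comp_of_range_eq_top _ (LinearEquiv.range e)]
  exact ⟨Submodule.Quotient.equiv (LinearMap.range f) (LinearMap.range g) E h⟩

end Groth.Agent.H89.CE_C3
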