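import Mathlib
import Groth.Prelude.Def_EtModW

/-!
# Constructibility of étale sheaves of modules is invariant under isomorphism

Squad piece (ISO) for helper38 (S13614 / S6689).
-/

set_option autoImplicit false
universe u
open CategoryTheory CategoryTheory.Limits AlgebraicGeometry Opposite

namespace Groth.Agent.H89.CM_ISO

theorem isFTLocConst_of_iso (Λ : Type (u + 1)) [CommRing Λ] {X : Scheme.{u}}
    {F F' : EtModW.Mod Λ X} (e : F ≅ F') (h : EtModW.IsFTLocConst Λ F) :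
    EtModW.IsFTLocConst Λ F' := by
  obtain ⟨ι, U, hU, hloc⟩ := h
  refine ⟨ι, U, hU, fun i => ?_⟩
  obtain ⟨M, i1, i2, i3, ⟨φ⟩⟩ := hloc i
  refine ⟨M, i1, i2, i3, ⟨?_ ≪≫ φ⟩⟩
  exact ((X.smallEtaleTopology.overPullback (ModuleCat.{u + 1} Λ) (U i)).mapIso e).symm

theorem isConstructible_of_iso (Λ : Type (u + 1)) [CommRing Λ] {X : Scheme.{u}}
    {E E' : EtModW.Mod Λ X} (e : E ≅ E') (h : EtModW.IsConstructible Λ E) :
    EtModW.IsConstructible Λ E' := by
  intro U hU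
  obtain ⟨n, T, g, h1, h2, h3, h4, h5⟩ := h U hU
  refine ⟨n, T, g, h1, h2, h3, h4, fun i => ?_⟩
  exact isFTLocConst_of_iso Λ ((EtModW.pull Λ (g i)).mapIso e) (h5 i)

end Groth.Agent.H89.CM_ISO
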