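import Mathlib
import Groth.Prelude.Def_RelSpec2
import Groth.Agent.H89.QCohAlgGen

/-!
# Reflecting comparison isomorphisms along a functor reflecting isomorphisms
-/

set_option autoImplicit false

open CategoryTheory CategoryTheory.Limits

namespace Groth.Agent.H89.DirImgColim

universe u

section General

universe v₁ v₂ v₃ u₁ u₂ u₃ w w'

variable {A : Type u₁} [Category.{v₁} A] {B : Type u₂} [Category.{v₂} B] {C : Type u₃}
  [Category.{v₃} C] (G : A ⥤ B) (R : B ⥤ C) [R.ReflectsIsomorphisms]

theorem isIso_sigmaComparison_of_comp {ι : Type w} (F : ι → A) [HasCoproduct F]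
    [HasCoproduct fun i => G.obj (F i)] [HasCoproduct fun i => R.obj (G.obj (F i))]
    [HasCoproduct fun i => (G ⋙ R).obj (F i)]
    [IsIso (sigmaComparison R fun i => G.obj (F i))]
    (h : IsIso (sigmaComparison (G ⋙ R) F)) : IsIso (sigmaComparison G F) := by
  have e : sigmaComparison (G ⋙ R) F =
      sigmaComparison R (fun i => G.obj (F i)) ≫ R.map (sigmaComparison G F) := by
    apply Sigma.hom_ext
    intro i
    have h1 : Sigma.ι (fun i => R.obj (G.obj (F i))) i ≫
        sigmaComparison R (fun i => G.obj (F i)) = R.map (Sigma.ι (fun i => G.obj (F i)) i) :=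
      ι_comp_sigmaComparison R _ i
    have h2 : Sigma.ι (fun i => G.obj (F i)) i ≫ sigmaComparison G F = G.map (Sigma.ι F i) :=
      ι_comp_sigmaComparison G F i
    have h3 : Sigma.ι (fun i => (G ⋙ R).obj (F i)) i ≫ sigmaComparison (G ⋙ R) F =
        (G ⋙ R).map (Sigma.ι F i) := ι_comp_sigmaComparison (G ⋙ R) F i
    rw [h3]
    show _ = Sigma.ι (fun i => R.obj (G.obj (F i))) i ≫ _ ≫ _
    rw [← Category.assoc, h1, ← R.map_comp, h2]
    rfl
  haveI : IsIso (sigmaComparison R (fun i => G.obj (F i)) ≫ R.map (sigmaComparison G F)) := by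
    rw [← e]; exact h
  haveI : IsIso (R.map (sigmaComparison G F)) :=
    IsIso.of_isIso_comp_left (sigmaComparison R (fun i => G.obj (F i))) _
  exact isIso_of_reflects_iso _ R

theorem isIso_post_of_comp {J : Type w} [Category.{w'} J] (D : J ⥤ A) [HasColimit D]
    [HasColimit (D ⋙ G)] [HasColimit ((D ⋙ G) ⋙ R)] [IsIso (colimit.post (D ⋙ G) R)]
    (h : haveI : HasColimit (D ⋙ G ⋙ R) := ‹HasColimit ((D ⋙ G) ⋙ R)›
      IsIso (colimit.post D (G ⋙ R))) : IsIso (colimit.post D G) := by
  haveI : HasColimit (D ⋙ G ⋙ R) := ‹HasColimit ((D ⋙ G) ⋙ R)›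
  have e := colimit.post_post D G R
  haveI : IsIso (colimit.post (D ⋙ G) R ≫ R.map (colimit.post D G)) := by
    rw [e]; exact h
  haveI : IsIso (R.map (colimit.post D G)) :=
    IsIso.of_isIso_comp_left (colimit.post (D ⋙ G) R) _
  exact isIso_of_reflects_iso _ R

end General

section Site

variable {C : Type u} [SmallCategory C] {J : GrothendieckTopology C} {R S : Sheaf J RingCat.{u}}
  (α : R ⟶ S)

instance reflectsIsomorphisms_restrictScalars :
    (SheafOfModules.restrictScalars.{u} α).ReflectsIsomorphisms :=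
  reflectsIsomorphisms_of_reflectsMonomorphisms_of_reflectsEpimorphisms _

end Site

end Groth.Agent.H89.DirImgColim
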