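import Mathlib
import Groth.Prelude.Def_RelSpec2
import Groth.Agent.H89.DirImgColim
import Groth.Agent.H31.RpushCoprod

/-!
# The direct image `f_*` as a module over `f_* O_X` commutes with direct sums and filtered colimits
-/

set_option backward.isDefEq.respectTransparency false
set_option linter.style.haveILetI false
set_option autoImplicit false
universe u
open CategoryTheory CategoryTheory.Limits AlgebraicGeometry
attribute [local instance] HasDerivedCategory.standard

namespace Groth.Agent.H89.DirImgColim

section Sch

open Groth.Agent.H33

variable {X S : Scheme.{u}} (f : X ⟶ S) [QuasiCompact f] [QuasiSeparated f]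

theorem pushAb_preservesFiltered (J : Type u) [SmallCategory J] [IsFiltered J] :
    PreservesColimitsOfShape J (Coh.pushAb f) := by
  have h2 : PreservesFiniteLimits (Coh.pushAb f) := by
    have := Groth.Agent.H42.CohTopLib.preservesLimits_push f.base
    exact inferInstanceAs (PreservesFiniteLimits (CohTop.push f.base))
  have := Groth.Agent.S0800.result f 0 J
  exact preservesColimitsOfShape_of_natIso ((Coh.pushAb f).rightDerivedZeroIsoSelf)

theorem pushforward_preservesFiltered (J : Type u) [SmallCategory J] [IsFiltered J] :
    PreservesColimitsOfShape J (Scheme.Modules.pushforward f) := by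
  let E : X.Modules ⥤ Sheaf (Opens.grothendieckTopology X) AddCommGrpCat.{u} :=
    SheafOfModules.toSheaf.{u} X.ringCatSheaf
  let E' : S.Modules ⥤ Sheaf (Opens.grothendieckTopology S) AddCommGrpCat.{u} :=
    SheafOfModules.toSheaf.{u} S.ringCatSheaf
  let e : Scheme.Modules.pushforward f ⋙ E' ≅ E ⋙ Coh.pushAb f :=
    NatIso.ofComponents (fun M => Iso.refl _) (by
      intro M N g
      rfl)
  have := pushAb_preservesFiltered f J
  have h1 : PreservesColimitsOfShape J E :=
    Groth.Agent.H45.toSheaf_preservesColimitsOfShape X.ringCatSheaf J
  have h2 : PreservesColimitsOfShape J E' :=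
    Groth.Agent.H45.toSheaf_preservesColimitsOfShape S.ringCatSheaf J
  have h3 : PreservesColimitsOfShape J (Scheme.Modules.pushforward f ⋙ E') :=
    preservesColimitsOfShape_of_natIso e.symm
  have h4 : E'.ReflectsIsomorphisms :=
    inferInstanceAs (SheafOfModules.toSheaf.{u} S.ringCatSheaf).ReflectsIsomorphisms
  have h5 : ReflectsColimitsOfShape J E' :=
    reflectsColimitsOfShape_of_reflectsIsomorphisms
  exact preservesColimitsOfShape_of_reflects_of_preserves (Scheme.Modules.pushforward f) E'

end Sch

end Groth.Agent.H89.DirImgColim
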