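import Mathlib
import Groth.Agent.H89.QCohAlgFP

/-!
# Finite generation of sections over a terminal object (complements to `QCohAlgFP`)
-/

set_option autoImplicit false

open CategoryTheory CategoryTheory.Limits Opposite

namespace Groth.Agent.H89.QCohAlgFP

universe u

variable {C : Type u} [SmallCategory C] {J : GrothendieckTopology C} {S : Sheaf J RingCat.{u}}
  {T : C} (hT : IsTerminal T)
  [HasWeakSheafify J AddCommGrpCat.{u}] [J.WEqualsLocallyBijective AddCommGrpCat.{u}]

/-- sections over any object of a finite free sheaf of modules form a finite module. -/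
lemma finite_free (n : Type u) [Finite n] (V : Cᵒᵖ) :
    Module.Finite (S.obj.obj V) ((SheafOfModules.free (R := S) n).val.obj V) := by
  classical
  haveI := Fintype.ofFinite n
  haveI : (SheafOfModules.evaluation S V).Additive := by
    unfold SheafOfModules.evaluation; infer_instance
  let p : n → (SheafOfModules.free (R := S) n ⟶ SheafOfModules.unit S) := fun j =>
    Cofan.IsColimit.desc (SheafOfModules.isColimitFreeCofan n)
      (fun i => if i = j then 𝟙 _ else 0)
  have hp : ∀ i j, SheafOfModules.ιFree i ≫ p j = if i = j then 𝟙 _ else 0 := fun i j => by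
    rw [← SheafOfModules.freeCofan_inj]
    exact Cofan.IsColimit.fac (SheafOfModules.isColimitFreeCofan n) _ i
  have hsum : ∑ j, p j ≫ SheafOfModules.ιFree (R := S) j = 𝟙 _ := by
    apply Cofan.IsColimit.hom_ext (SheafOfModules.isColimitFreeCofan n)
    intro i
    show SheafOfModules.ιFree i ≫ (∑ j, p j ≫ SheafOfModules.ιFree (R := S) j) =
      SheafOfModules.ιFree i ≫ 𝟙 (SheafOfModules.free n)
    rw [Preadditive.comp_sum]
    simp only [← Category.assoc, hp]
    rw [Finset.sum_eq_single i (fun j _ hj => by rw [if_neg (Ne.symm hj), zero_comp])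
      (fun h => absurd (Finset.mem_univ i) h)]
    rw [if_pos rfl, Category.id_comp, Category.comp_id]
  have hz : ∀ z : (SheafOfModules.free (R := S) n).val.obj V,
      z = ∑ j, ((SheafOfModules.ιFree (R := S) j).val.app V).hom (((p j).val.app V).hom z) := by
    intro z
    have h1 : ((SheafOfModules.evaluation S V).map
        (∑ j, p j ≫ SheafOfModules.ιFree (R := S) j)).hom z =
        ((SheafOfModules.evaluation S V).map (𝟙 (SheafOfModules.free (R := S) n))).hom z := by
      rw [hsum]
    rw [Functor.map_sum, ModuleCat.hom_sum, LinearMap.sum_apply] at h1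
    exact h1.symm
  let Q : (n → (SheafOfModules.unit S).val.obj V) →ₗ[S.obj.obj V]
      (SheafOfModules.free (R := S) n).val.obj V :=
    ∑ j, ((SheafOfModules.ιFree (R := S) j).val.app V).hom ∘ₗ LinearMap.proj j
  have hQ : Function.Surjective Q := by
    intro z
    refine ⟨fun j => ((p j).val.app V).hom z, ?_⟩
    rw [hz z]
    simp only [Q, LinearMap.sum_apply, LinearMap.comp_apply, LinearMap.proj_apply]
    exact (hz _).symm ▸ rfl
  haveI : Module.Finite (S.obj.obj V) ((SheafOfModules.unit S).val.obj V) :=
    (inferInstance : Module.Finite (S.obj.obj V) (S.obj.obj V))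
  exact Module.Finite.of_surjective Q hQ

/-- If finitely many global sections generate `N` and the associated map is surjective on
sections over `V`, then `N(V)` is a finite module. -/
lemma finite_of_generatingSections_of_surjective (N : SheafOfModules.{u} S)
    (σ : N.GeneratingSections) [σ.IsFiniteType] (V : Cᵒᵖ)
    (hs : Function.Surjective (σ.π.val.app V).hom) :
    Module.Finite (S.obj.obj V) (N.val.obj V) := by
  haveI := finite_free (S := S) σ.I V
  exact Module.Finite.of_surjective (σ.π.val.app V).hom hs

include hT in
/-- If `N(T)` is a finite module (`T` terminal), there are finitely many global sections of `N`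
such that the associated map from a free module is surjective on sections over `T`. -/
lemma exists_free_surjective_of_finite (N : SheafOfModules.{u} S)
    [hN : Module.Finite (S.obj.obj (op T)) (N.val.obj (op T))] :
    ∃ (s : Type u) (_ : Finite s) (κ : s → N.sections),
      Function.Surjective ((N.freeHomEquiv.symm κ).val.app (op T)).hom := by
  obtain ⟨s, hs⟩ := hN.fg_top
  choose κ hκ using fun y : (s : Set (N.val.obj (op T))) => evT_surjective hT N y.1
  refine ⟨(s : Set (N.val.obj (op T))), Finite.of_fintype _, κ, ?_⟩
  rw [← LinearMap.range_eq_top, eq_top_iff, ← hs, Submodule.span_le]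
  intro y hy
  refine ⟨evT T _ (SheafOfModules.freeSection (R := S)
    (⟨y, hy⟩ : (s : Set (N.val.obj (op T))))), ?_⟩
  have h1 := SheafOfModules.sectionsMap_freeHomEquiv_symm_freeSection κ ⟨y, hy⟩
  have h2 := congrArg (evT T N) h1
  rw [evT_sectionsMap, hκ] at h2
  exact h2

end Groth.Agent.H89.QCohAlgFP
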