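import Mathlib
import Groth.Agent.H89.QCohAlgMain
import Groth.Agent.H89.QCohAlgFPMain
import Groth.Agent.H89.QCohAlgFP2
import Groth.Agent.H21.EpiPush
import Groth.Agent.H8.CohAffine
import Groth.Agent.H8.FinType

/-!
# Finite generation over a quasi-coherent algebra via sections over affine opens
-/

set_option autoImplicit false

open CategoryTheory CategoryTheory.Limits AlgebraicGeometry TopologicalSpace Opposite

namespace Groth.Agent.H89.QCohAlg

universe u

variable {X : Scheme.{u}} {B : Sheaf (Opens.grothendieckTopology X) CommRingCat.{u}}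
  {φ : X.sheaf ⟶ B}

/-- the terminal object of `Over U` used by `overEquiv`. -/
noncomputable abbrev Tt (U : X.Opens) : Over U := (Opens.overEquivalence U).inverse.obj ⊤

/-- `Tt U` is terminal. -/
noncomputable def isTerminalTt (U : X.Opens) : IsTerminal (Tt U) :=
  IsTerminal.isTerminalObj (Opens.overEquivalence U).inverse ⊤ isTerminalTop

instance (U : X.Opens) : (Φ B φ U).Faithful := by unfold Φ; infer_instance

theorem epi_iff_surjective (U : X.Opens) (hU : IsAffineOpen U)
    {N' N : SheafOfModules.{u} ((RB B).over U)} (h' : QC B φ U N') (h : QC B φ U N)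
    (π : N' ⟶ N) : Epi π ↔ Function.Surjective (π.val.app (op (Tt U))).hom := by
  haveI : IsAffine (U : Scheme.{u}) := hU
  haveI : ((Φ B φ U).obj N').IsQuasicoherent := h'
  haveI : ((Φ B φ U).obj N).IsQuasicoherent := h
  constructor
  · intro hπ
    haveI : Epi ((Φ B φ U).map π) := inferInstance
    exact Groth.Agent.H21.EpiPush.app_surjective_of_epi ((Φ B φ U).map π) (isAffineOpen_top _)
  · intro hs
    haveI : Epi ((Φ B φ U).map π) :=
      Groth.Agent.H18.Serre.epi_of_surjective_affine_cover _ (fun _ : Unit => ⊤)
        (IsOpenCover.mk (by simp)) (fun _ => isAffineOpen_top _) (fun _ => hs)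
    exact (Φ B φ U).epi_of_epi_map this

/-- finitely many generating sections give a finite module of sections over the affine `U`. -/
theorem finite_of_generatingSections (hB : ((SheafOfModules.restrictScalars.{u} (αB B φ)).obj
    (SheafOfModules.unit (RB B))).IsQuasicoherent) (U : X.Opens) (hU : IsAffineOpen U)
    (N : SheafOfModules.{u} ((RB B).over U)) (hN : QC B φ U N) (σ : N.GeneratingSections)
    [σ.IsFiniteType] :
    Module.Finite (((RB B).over U).obj.obj (op (Tt U))) (N.val.obj (op (Tt U))) :=
  Groth.Agent.H89.QCohAlgFP.finite_of_generatingSections_of_surjective N σ (op (Tt U))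
    ((epi_iff_surjective U hU (qc_free hB U σ.I) hN σ.π).mp inferInstance)

/-- a finite module of sections over the affine `U` gives finitely many generating sections. -/
theorem exists_generatingSections_of_finite (hB : ((SheafOfModules.restrictScalars.{u}
    (αB B φ)).obj (SheafOfModules.unit (RB B))).IsQuasicoherent) (U : X.Opens)
    (hU : IsAffineOpen U) (N : SheafOfModules.{u} ((RB B).over U)) (hN : QC B φ U N)
    (hfin : Module.Finite (((RB B).over U).obj.obj (op (Tt U))) (N.val.obj (op (Tt U)))) :
    ∃ σ : N.GeneratingSections, σ.IsFiniteType := by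
  obtain ⟨s, hs, κ, hκ⟩ :=
    Groth.Agent.H89.QCohAlgFP.exists_free_surjective_of_finite (isTerminalTt U) N
  haveI : Epi (N.freeHomEquiv.symm κ) :=
    (epi_iff_surjective U hU (qc_free hB U s) hN _).mpr hκ
  exact ⟨{ I := s, s := κ, epi := ‹_› }, ⟨hs⟩⟩

end Groth.Agent.H89.QCohAlg
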