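import Mathlib
import Groth.Prelude.Def_RelSpec2
import Groth.Agent.H89.DirImgFT
import Groth.Agent.H8.QCohPush
import Groth.Agent.H8.StructureCoh

/-!
# Finite type over the direct image algebra of an affine morphism
-/

set_option autoImplicit false

open CategoryTheory CategoryTheory.Limits AlgebraicGeometry TopologicalSpace Opposite

namespace Groth.Agent.H89.DirImg

open Groth.Agent.H89.QCohAlg

universe u

variable {X S : Scheme.{u}} (f : X ⟶ S) [IsAffineHom f]

/-- `f_* O_X` as a sheaf of commutative rings. -/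
noncomputable abbrev BB : Sheaf (Opens.grothendieckTopology S) CommRingCat.{u} :=
  ⟨(RelSpec.QCAlg.directImage f).presheaf, (RelSpec.QCAlg.directImage f).isSheaf⟩

/-- the structure map. -/
noncomputable abbrev φφ : S.sheaf ⟶ BB f := ⟨(RelSpec.QCAlg.directImage f).str⟩

example : AMod.ringSheaf (RelSpec.QCAlg.directImage f) = RB (BB f) := rfl
example : AMod.strHom (RelSpec.QCAlg.directImage f) = αB (BB f) (φφ f) := rfl

/-- the direct image of the unit is the unit. -/
noncomputable def dirImgUnitIso :
    (AMod.dirImg f).obj (SheafOfModules.unit X.ringCatSheaf) ≅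
      SheafOfModules.unit (RB (BB f)) :=
  (SheafOfModules.fullyFaithfulForget _).preimageIso
    (PresheafOfModules.isoMk (fun V => Iso.refl _))

/-- `f_* O_X` is a quasi-coherent `O_S`-module (in the form used by `QCohAlg`). -/
theorem hB : ((SheafOfModules.restrictScalars.{u} (αB (BB f) (φφ f))).obj
    (SheafOfModules.unit (RB (BB f)))).IsQuasicoherent := by
  haveI := Groth.Agent.H8.isQuasicoherent_structureModule' X
  have h1 : ((Scheme.Modules.pushforward f).obj
      (SheafOfModules.unit X.ringCatSheaf)).IsQuasicoherent :=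
    Groth.Agent.H8.isQuasicoherent_pushforward f _
  haveI : ((SheafOfModules.restrictScalars.{u} (αB (BB f) (φφ f))).obj
      ((AMod.dirImg f).obj (SheafOfModules.unit X.ringCatSheaf))).IsQuasicoherent := h1
  exact Groth.Agent.H22.QCohLimits.isQuasicoherent_of_iso
    ((SheafOfModules.restrictScalars.{u} (αB (BB f) (φφ f))).mapIso (dirImgUnitIso f))

/-- the restriction of `f_* F` to an open is `QC`. -/
theorem qc_dirImg (F : X.Modules) [F.IsQuasicoherent] (V : S.Opens) :
    QC (BB f) (φφ f) V (((AMod.dirImg f).obj F).over V) := by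
  refine (qc_over_iff V _).mpr ?_
  have h1 : ((Scheme.Modules.pushforward f).obj F).IsQuasicoherent :=
    Groth.Agent.H8.isQuasicoherent_pushforward f F
  haveI : ((SheafOfModules.restrictScalars.{u} (αB (BB f) (φφ f))).obj
      ((AMod.dirImg f).obj F)).IsQuasicoherent := h1
  exact Scheme.Modules.isQuasicoherent_restrictFunctor _ _

lemma Tt_left (V : S.Opens) : (Tt V).left = V := by
  ext x
  simp

/-- `f_* F` as a module over `RB (BB f)`. -/
noncomputable abbrev dI (F : X.Modules) : SheafOfModules.{u} (RB (BB f)) := (AMod.dirImg f).obj F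

lemma finite_sections_Tt (F : X.Modules) [F.IsQuasicoherent]
    [SheafOfModules.IsFiniteType (R := X.ringCatSheaf) F] (V : S.Opens) (hV : IsAffineOpen V) :
    Module.Finite (((RB (BB f)).over V).obj.obj (op (Tt V)))
      (((dI f F).over V).val.obj (op (Tt V))) := by
  have hV' : IsAffineOpen ((Tt V).left) := (Tt_left V).symm ▸ hV
  exact Groth.Agent.H8.finite_sections_of_isAffineOpen F (hV'.preimage f)

lemma finite_sections_of_Tt (F : X.Modules) (V : S.Opens)
    (h : Module.Finite (((RB (BB f)).over V).obj.obj (op (Tt V)))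
      (((dI f F).over V).val.obj (op (Tt V)))) :
    Module.Finite Γ(X, f ⁻¹ᵁ V) Γ(F, f ⁻¹ᵁ V) := by
  have key : ∀ (W : S.Opens), W = V → Module.Finite Γ(X, f ⁻¹ᵁ W) Γ(F, f ⁻¹ᵁ W) →
      Module.Finite Γ(X, f ⁻¹ᵁ V) Γ(F, f ⁻¹ᵁ V) := by
    intro W hW
    subst hW
    exact id
  exact key _ (Tt_left V) h

/-- (⇒) -/
theorem isFiniteType_dirImg (F : X.Modules) [F.IsQuasicoherent]
    [SheafOfModules.IsFiniteType (R := X.ringCatSheaf) F] :
    SheafOfModules.IsFiniteType.{u} (R := RB (BB f)) (dI f F) := by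
  have hcov : (Opens.grothendieckTopology S).CoversTop (fun U : S.affineOpens => (U : S.Opens)) :=
    (_root_.Opens.coversTop_iff _ _).mpr (iSup_affineOpens_eq_top S)
  have hG : ∀ V : S.affineOpens, ∃ σ : ((dI f F).over (V : S.Opens)).GeneratingSections,
      σ.IsFiniteType := fun V =>
    exists_generatingSections_of_finite (hB f) V.1 V.2 _ (qc_dirImg f F V.1)
      (finite_sections_Tt f F V.1 V.2)
  let L : SheafOfModules.LocalGeneratorsData.{u} (dI f F) :=
    { I := S.affineOpens
      X := fun V => (V : S.Opens)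
      coversTop := hcov
      generators := fun V => (hG V).choose }
  have hL : L.IsFiniteType := { isFiniteType := fun V => (hG V).choose_spec }
  exact { exists_localGeneratorsData := ⟨L, hL⟩ }

/-- (⇐) -/
theorem isFiniteType_of_dirImg (F : X.Modules) [F.IsQuasicoherent]
    (h : SheafOfModules.IsFiniteType.{u} (R := RB (BB f)) (dI f F)) :
    SheafOfModules.IsFiniteType.{u} (R := X.ringCatSheaf) F := by
  obtain ⟨L, hL⟩ := SheafOfModules.IsFiniteType.exists_localGeneratorsData (dI f F)
  have hfin : ∀ (V : S.Opens) (hV : IsAffineOpen V) (i : L.I) (hi : V ≤ L.X i),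
      Module.Finite Γ(X, f ⁻¹ᵁ V) Γ(F, f ⁻¹ᵁ V) := fun V hV i hi => by
    haveI := hL.isFiniteType i
    exact finite_sections_of_Tt f F V
      (finite_of_generatingSections (hB f) V hV _ (qc_dirImg f F V)
        (restrictGeneratingSections hi (dI f F) (L.generators i)))
  have hLc : IsOpenCover L.X := (_root_.Opens.coversTop_iff _ _).mp L.coversTop
  refine Groth.Agent.H8.isFiniteType_of_finite_sections F
    (fun p : {p : S.Opens × L.I // IsAffineOpen p.1 ∧ p.1 ≤ L.X p.2} => f ⁻¹ᵁ p.1.1) ?_
    (fun p => p.2.1.preimage f) (fun p => hfin p.1.1 p.2.1 p.1.2 p.2.2)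
  refine IsOpenCover.mk (eq_top_iff.mpr ?_)
  intro x _
  obtain ⟨i, hi⟩ := hLc.exists_mem (f.base x)
  obtain ⟨_, ⟨V, hV, rfl⟩, hxV, hVU⟩ :=
    S.isBasis_affineOpens.exists_subset_of_mem_open hi (L.X i).2
  exact Opens.mem_iSup.mpr ⟨⟨(V, i), hV, hVU⟩, hxV⟩

end Groth.Agent.H89.DirImg
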