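import Mathlib
import Groth.Prelude.Def_SGA3x

/-!
# A flat scheme over an artinian ring is essentially free (given: flat ⇒ projective over artinian)

Squad piece (EB) for helper63 (S5356), hypothesis-style on (EB1).
-/

set_option autoImplicit false
universe u
open CategoryTheory CategoryTheory.Limits AlgebraicGeometry

namespace Groth.Agent.H89.EssFree_EB

/-- The statement of piece (EB1): flat modules over artinian rings are projective. -/
def EB1Statement : Prop :=
  ∀ (A : Type u) [CommRing A] [IsArtinianRing A] (M : Type u) [AddCommGroup M] [Module A M]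
    [Module.Flat A M], Module.Projective A M

/-- A flat scheme over an affine scheme with artinian ring of global sections is covered by affine
opens with projective coordinate rings. -/
lemma exists_affine_projective (hEB1 : EB1Statement.{u}) {P S' : Scheme.{u}} [IsAffine S']
    (q : P ⟶ S') [Flat q] [IsArtinianRing Γ(S', ⊤)] (x : P) :
    ∃ V : P.Opens, x ∈ V ∧ IsAffineOpen V ∧
      (letI := (V.ι ≫ q).appTop.hom.toAlgebra
       Module.Projective Γ(S', ⊤) Γ(↑V, ⊤)) := by
  obtain ⟨_, ⟨V, hV, rfl⟩, hxV, -⟩ :=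
    P.isBasis_affineOpens.exists_subset_of_mem_open (Set.mem_univ x) isOpen_univ
  refine ⟨V, hxV, hV, ?_⟩
  haveI : IsAffine ((V : P.Opens) : Scheme.{u}) := hV
  have hflat : Flat (Scheme.Opens.ι (X := P) V ≫ q) := inferInstance
  have h2 : (Scheme.Opens.ι (X := P) V ≫ q).appTop.hom.Flat :=
    (HasRingHomProperty.iff_of_isAffine (P := @Flat)).mp hflat
  letI := (Scheme.Opens.ι (X := P) V ≫ q).appTop.hom.toAlgebra
  haveI : Module.Flat Γ(S', ⊤) Γ(((V : P.Opens) : Scheme.{u}), ⊤) := h2
  exact hEB1 _ _

theorem isEssentiallyFree_of_flat_of_isArtinianRing_of (hEB1 : EB1Statement.{u})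
    (A : Type u) [CommRing A] [IsArtinianRing A] (X : Scheme.{u})
    (f : X ⟶ Spec (CommRingCat.of A)) (h : Flat f) : SGA3x.IsEssentiallyFree f := by
  intro s
  haveI hAff : IsAffine ((⊤ : (Spec (CommRingCat.of A)).Opens) : Scheme.{u}) :=
    isAffineOpen_top (Spec (CommRingCat.of A))
  haveI : IsArtinianRing Γ(((⊤ : (Spec (CommRingCat.of A)).Opens) : Scheme.{u}), ⊤) :=
    (((⊤ : (Spec (CommRingCat.of A)).Opens).topIso ≪≫
      Scheme.ΓSpecIso (CommRingCat.of A)).commRingCatIsoToRingEquiv.symm).isArtinianRing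
  refine ⟨⊤, trivial, isAffineOpen_top _,
    ((⊤ : (Spec (CommRingCat.of A)).Opens) : Scheme.{u}), hAff, 𝟙 _, inferInstance, inferInstance, ?_⟩
  intro x
  exact exists_affine_projective hEB1 _ x

end Groth.Agent.H89.EssFree_EB
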