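import Mathlib
import Groth.Prelude.Def_CohB1
import Groth.Prelude.Def_Coh
import Groth.Agent.H49.InjCokerOpen
import Groth.Agent.H77.FPExt_P1

/-!
# (R1) of helper22's squad #3 for S9820: the kernel of an epimorphism from a finite type
quasi-coherent module onto a module which is finitely presented over an open `U` is of finite
type over `U`
-/

set_option autoImplicit false
set_option linter.style.haveILetI false
universe u v w v' w'
open CategoryTheory CategoryTheory.Limits AlgebraicGeometry TopologicalSpace Opposite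
open AlgebraicGeometry.Scheme.Modules

namespace Groth.Agent.H89.FPExt_R1

variable {X : Scheme.{u}}

/-- Finiteness transfers along a ring isomorphism and a semilinear additive equivalence. -/
theorem finite_of_semilinear {R S : Type*} [CommRing R] [CommRing S] (σ : S ≃+* R)
    {N N' : Type*} [AddCommGroup N] [Module S N] [AddCommGroup N'] [Module R N']
    (φ : N ≃+ N') (hφ : ∀ (s : S) (n : N), φ (s • n) = σ s • φ n)
    [Module.Finite S N] : Module.Finite R N' := by
  haveI : RingHomSurjective (σ : S →+* R) := ⟨σ.surjective⟩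
  let f : N →ₛₗ[(σ : S →+* R)] N' :=
    { toFun := φ
      map_add' := map_add φ
      map_smul' := fun s n => hφ s n }
  exact Module.Finite.of_surjective f φ.surjective

/-- Sections of the kernel of an epimorphism `φ₀ : G₀ ⟶ F` of quasi-coherent modules over an
affine open where `G₀` has finite and `F` finitely presented sections are finite. -/
theorem finite_sections_kernel {G₀ F : X.Modules} [G₀.IsQuasicoherent] [F.IsQuasicoherent]
    (φ₀ : G₀ ⟶ F) [Epi φ₀] {O : X.Opens} (hO : IsAffineOpen O)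
    [Module.Finite Γ(X, O) Γ(G₀, O)] [Module.FinitePresentation Γ(X, O) Γ(F, O)] :
    Module.Finite Γ(X, O) Γ(kernel φ₀, O) := by
  have hSE : (Groth.Agent.H49.InjCoker.S0 φ₀).ShortExact :=
    { exact := Groth.Agent.H49.InjCoker.S0_exact φ₀
      mono_f := inferInstanceAs (Mono (kernel.ι φ₀))
      epi_g := inferInstanceAs (Epi φ₀) }
  haveI : (Groth.Agent.H49.InjCoker.S0 φ₀).X₁.IsQuasicoherent :=
    inferInstanceAs (kernel φ₀).IsQuasicoherent
  have hsurj : Function.Surjective (Groth.Agent.H8.appₗ φ₀ O) :=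
    Groth.Agent.H22.QCohH1.app_surjective (Groth.Agent.H49.InjCoker.S0 φ₀) hSE hO
  have hker : (LinearMap.ker (Groth.Agent.H8.appₗ φ₀ O)).FG :=
    Module.FinitePresentation.fg_ker (Groth.Agent.H8.appₗ φ₀ O) hsurj
  -- the sections of the kernel are the kernel of the map on sections
  have hrange : LinearMap.range (Groth.Agent.H8.appₗ (kernel.ι φ₀) O) =
      LinearMap.ker (Groth.Agent.H8.appₗ φ₀ O) := by
    ext m
    constructor
    · rintro ⟨k, rfl⟩
      exact Groth.Agent.H49.InjCoker.app_app_kernel φ₀ k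
    · intro hm
      obtain ⟨k, hk⟩ := Groth.Agent.H49.InjCoker.exists_kernel_app_eq φ₀ m hm
      exact ⟨k, hk⟩
  have hinj : Function.Injective (Groth.Agent.H8.appₗ (kernel.ι φ₀) O) :=
    Groth.Agent.H49.InjCoker.kernel_app_injective φ₀
  rw [← hrange] at hker
  haveI : Module.Finite Γ(X, O) (LinearMap.range (Groth.Agent.H8.appₗ (kernel.ι φ₀) O)) :=
    Module.Finite.iff_fg.mpr hker
  exact Module.Finite.equiv (LinearEquiv.ofInjective _ hinj).symm

/-- **(R1)** -/
theorem isFT_restrict_kernel {G₀ F : X.Modules} [G₀.IsQuasicoherent] [F.IsQuasicoherent]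
    (φ₀ : G₀ ⟶ F) [Epi φ₀] (hG₀ : CohB1.IsFT G₀) (U : X.Opens)
    (hFU : CohB1.IsFP (F.restrict U.ι)) : CohB1.IsFT ((kernel φ₀).restrict U.ι) := by
  haveI : SheafOfModules.IsFiniteType (R := X.ringCatSheaf) G₀ := hG₀
  haveI : SheafOfModules.IsFinitePresentation (R := (U : Scheme.{u}).ringCatSheaf)
    (F.restrict U.ι) := hFU
  haveI : (kernel φ₀).IsQuasicoherent := Groth.Agent.H22.QCohLimits.isQuasicoherent_kernel φ₀
  haveI : ((kernel φ₀).restrict U.ι).IsQuasicoherent := inferInstance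
  refine Groth.Agent.H8.isFiniteType_of_forall_affine_finite (M := (kernel φ₀).restrict U.ι) ?_
  intro O'
  have hO : IsAffineOpen (U.ι ''ᵁ (O' : (U : Scheme.{u}).Opens)) :=
    O'.2.image_of_isOpenImmersion U.ι
  haveI : Module.Finite Γ(X, U.ι ''ᵁ (O' : (U : Scheme.{u}).Opens))
      Γ(G₀, U.ι ''ᵁ (O' : (U : Scheme.{u}).Opens)) :=
    Groth.Agent.H8.finite_sections_of_isAffineOpen G₀ hO
  haveI : Module.FinitePresentation Γ((U : Scheme.{u}), (O' : (U : Scheme.{u}).Opens))
      Γ(F.restrict U.ι, (O' : (U : Scheme.{u}).Opens)) :=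
    Groth.Agent.H8.finitePresentation_sections_of_isAffineOpen (F.restrict U.ι) O'.2
  haveI : Module.FinitePresentation Γ(X, U.ι ''ᵁ (O' : (U : Scheme.{u}).Opens))
      Γ(F, U.ι ''ᵁ (O' : (U : Scheme.{u}).Opens)) :=
    Groth.Agent.H77.FPExt_P1.fp_of_semilinear
      (S := Γ((U : Scheme.{u}), (O' : (U : Scheme.{u}).Opens)))
      (R := Γ(X, U.ι ''ᵁ (O' : (U : Scheme.{u}).Opens)))
      (N := Γ(F.restrict U.ι, (O' : (U : Scheme.{u}).Opens)))
      (N' := Γ(F, U.ι ''ᵁ (O' : (U : Scheme.{u}).Opens)))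
      (U.ι.appIso (O' : (U : Scheme.{u}).Opens)).symm.commRingCatIsoToRingEquiv
      (AddEquiv.refl _) (fun s n => rfl)
  haveI : Module.Finite Γ(X, U.ι ''ᵁ (O' : (U : Scheme.{u}).Opens))
      Γ(kernel φ₀, U.ι ''ᵁ (O' : (U : Scheme.{u}).Opens)) :=
    finite_sections_kernel φ₀ hO
  exact finite_of_semilinear
    (S := Γ(X, U.ι ''ᵁ (O' : (U : Scheme.{u}).Opens)))
    (R := Γ((U : Scheme.{u}), (O' : (U : Scheme.{u}).Opens)))
    (N := Γ(kernel φ₀, U.ι ''ᵁ (O' : (U : Scheme.{u}).Opens)))
    (N' := Γ((kernel φ₀).restrict U.ι, (O' : (U : Scheme.{u}).Opens)))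
    (U.ι.appIso (O' : (U : Scheme.{u}).Opens)).commRingCatIsoToRingEquiv (AddEquiv.refl _)
    (fun s n => by
      show s • n = ((U.ι.appIso (O' : (U : Scheme.{u}).Opens)).inv
        ((U.ι.appIso (O' : (U : Scheme.{u}).Opens)).hom s)) • n
      rw [Iso.hom_inv_id_apply])

end Groth.Agent.H89.FPExt_R1
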