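import Groth.Prelude.Def_EtMil
import Groth.Agent.H89.Flat

set_option autoImplicit false

namespace Groth.Agent.H89

open TensorProduct

universe u

section
variable (R B' B A' A : Type u) [CommRing R] [CommRing B'] [CommRing B] [CommRing A'] [CommRing A]
    [Algebra B' B] [Algebra B' A'] [Algebra B A] [Algebra A' A] [Algebra B' A]
    [IsScalarTower B' B A] [IsScalarTower B' A' A]
    [Algebra R B'] [Algebra R B] [Algebra R A'] [Algebra R A]
    [IsScalarTower R B' B] [IsScalarTower R B' A'] [IsScalarTower R B' A] [IsScalarTower R B A]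
    [IsScalarTower R A' A]

/-- The map `B' → B × A'`. -/
noncomputable def fsI : B' →ₗ[R] B × A' :=
  (IsScalarTower.toAlgHom R B' B).toLinearMap.prod (IsScalarTower.toAlgHom R B' A').toLinearMap

/-- The difference map `B × A' → A`. -/
noncomputable def fsD : B × A' →ₗ[R] A :=
  (IsScalarTower.toAlgHom R B A).toLinearMap.comp (LinearMap.fst R B A') -
    (IsScalarTower.toAlgHom R A' A).toLinearMap.comp (LinearMap.snd R B A')

variable {R B' B A' A}

theorem fsI_apply (x : B') : fsI R B' B A' x = (algebraMap B' B x, algebraMap B' A' x) := rfl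

theorem fsD_apply (p : B × A') : fsD R B A' A p = algebraMap B A p.1 - algebraMap A' A p.2 := rfl

theorem fsI_injective (hsq : EtMil.IsFibreSquare B' B A' A) :
    Function.Injective (fsI R B' B A') := by
  intro x y hxy
  rw [fsI_apply, fsI_apply, Prod.mk.injEq] at hxy
  have hc : algebraMap B A (algebraMap B' B y) = algebraMap A' A (algebraMap B' A' y) := by
    rw [← IsScalarTower.algebraMap_apply, ← IsScalarTower.algebraMap_apply]
  obtain ⟨z, _, hz⟩ := hsq.2 _ _ hc
  rw [hz x ⟨hxy.1, hxy.2⟩, hz y ⟨rfl, rfl⟩]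

theorem fsD_surjective (hsq : EtMil.IsFibreSquare B' B A' A) :
    Function.Surjective (fsD R B A' A) := by
  intro a
  obtain ⟨a', ha'⟩ := hsq.1 a
  refine ⟨(0, -a'), ?_⟩
  rw [fsD_apply]
  simp [ha']

theorem fs_exact (hsq : EtMil.IsFibreSquare B' B A' A) :
    Function.Exact (fsI R B' B A') (fsD R B A' A) := by
  intro p
  constructor
  · intro hp
    rw [fsD_apply, sub_eq_zero] at hp
    obtain ⟨z, ⟨hz1, hz2⟩, _⟩ := hsq.2 _ _ hp
    exact ⟨z, by rw [fsI_apply, hz1, hz2]⟩
  · rintro ⟨x, rfl⟩
    rw [fsI_apply, fsD_apply, sub_eq_zero, ← IsScalarTower.algebraMap_apply,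
      ← IsScalarTower.algebraMap_apply]

end

end Groth.Agent.H89
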