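import Mathlib
import Groth.Agent.H89.FibreSq

/-!
# Flatness of the corner of a fibre square of rings, ring-hom form
-/

set_option autoImplicit false

namespace Groth.Agent.H89

universe u

open CategoryTheory

/-- Ring-hom form of `S17900`: `B' = B ×_A A'` with `A' → A` surjective; if `B`, `A'`, `A` are flat
over `R` then so is `B'`. -/
theorem flat_of_ringHom_fibreSquare {R B' B A' A : Type u} [CommRing R] [CommRing B'] [CommRing B]
    [CommRing A'] [CommRing A]
    (r : R →+* B') (β : B' →+* B) (α : B' →+* A') (g : B →+* A) (k : A' →+* A)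
    (comm : g.comp β = k.comp α)
    (hk : Function.Surjective k)
    (hinj : ∀ x y : B', β x = β y → α x = α y → x = y)
    (hex : ∀ (b : B) (a' : A'), g b = k a' → ∃ b' : B', β b' = b ∧ α b' = a')
    (h1 : (β.comp r).Flat) (h2 : (α.comp r).Flat) (h3 : (g.comp (β.comp r)).Flat) : r.Flat := by
  letI := r.toAlgebra
  letI := β.toAlgebra
  letI := α.toAlgebra
  letI := g.toAlgebra
  letI := k.toAlgebra
  letI : Algebra B' A := (g.comp β).toAlgebra
  letI : Algebra R B := (β.comp r).toAlgebra
  letI : Algebra R A' := (α.comp r).toAlgebra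
  letI : Algebra R A := (g.comp (β.comp r)).toAlgebra
  haveI : IsScalarTower B' B A := IsScalarTower.of_algebraMap_eq' rfl
  haveI : IsScalarTower B' A' A := IsScalarTower.of_algebraMap_eq' comm
  haveI : IsScalarTower R B' B := IsScalarTower.of_algebraMap_eq' rfl
  haveI : IsScalarTower R B' A' := IsScalarTower.of_algebraMap_eq' rfl
  haveI : IsScalarTower R B' A := IsScalarTower.of_algebraMap_eq' rfl
  haveI : IsScalarTower R B A := IsScalarTower.of_algebraMap_eq' rfl
  haveI : IsScalarTower R A' A := IsScalarTower.of_algebraMap_eq' (by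
    show g.comp (β.comp r) = k.comp (α.comp r)
    rw [← RingHom.comp_assoc, comm, RingHom.comp_assoc])
  haveI : Module.Flat R B := h1
  haveI : Module.Flat R A' := h2
  haveI : Module.Flat R A := h3
  have hsq : EtMil.IsFibreSquare B' B A' A := by
    refine ⟨hk, fun b a' hba => ?_⟩
    obtain ⟨b', hb1, hb2⟩ := hex b a' hba
    refine ⟨b', ⟨hb1, hb2⟩, fun y hy => ?_⟩
    exact hinj y b' (hy.1.trans hb1.symm) (hy.2.trans hb2.symm)
  haveI : Module.Flat R (B × A') := flat_prod R B A'
  exact flat_of_exact (fsI R B' B A') (fsD R B A' A) (fsI_injective hsq) (fsD_surjective hsq)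
    (fs_exact hsq)

end Groth.Agent.H89
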