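import Mathlib

/-!
# Extension through a base-change property to a tensor product (piece (GEXT) for S8341, helper98)
-/

set_option autoImplicit false
universe u
open TensorProduct

namespace Groth.Agent.H89.GMBC_GEXT

theorem exists_ext_tensor {A B : Type u} [CommRing A] [CommRing B] (ψ : A →+* B)
    {M N : Type u} [AddCommGroup M] [Module A M] [AddCommGroup N] [Module B N]
    (v : M →ₛₗ[ψ] N)
    (hbc : ∀ (Q : Type u) [AddCommGroup Q] [Module B Q] (w : M →ₛₗ[ψ] Q),
      ∃! g : N →ₗ[B] Q, ∀ m : M, g (v m) = w m)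
    {P S X : Type u} [CommRing P] [CommRing S] [Algebra P S] [AddCommGroup X] [Module P X]
    (αA : A →+* P) (β : B →+* S) (hβ : ∀ a, β (ψ a) = algebraMap P S (αA a))
    (ξ : M →+ X) (hξ : ∀ a m, ξ (a • m) = αA a • ξ m) :
    ∃ g : N →+ S ⊗[P] X, (∀ (b : B) (y : N), g (b • y) = β b • g y) ∧
      ∀ m : M, g (v m) = (1 : S) ⊗ₜ[P] ξ m := by
  letI : Module B (S ⊗[P] X) := Module.compHom (S ⊗[P] X) β
  have hsmul : ∀ (b : B) (z : S ⊗[P] X), b • z = β b • z := fun _ _ => rfl
  let w : M →ₛₗ[ψ] (S ⊗[P] X) :=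
    { toFun := fun m => (1 : S) ⊗ₜ[P] ξ m
      map_add' := fun m m' => by rw [map_add, TensorProduct.tmul_add]
      map_smul' := fun a m => by
        rw [hsmul, hξ, hβ, ← TensorProduct.smul_tmul, TensorProduct.smul_tmul',
          Algebra.smul_def, smul_eq_mul] }
  obtain ⟨g, hg, -⟩ := hbc (S ⊗[P] X) w
  refine ⟨g.toAddMonoidHom, ?_, ?_⟩
  · intro b y
    change g (b • y) = β b • g y
    rw [map_smul, hsmul]
  · intro m
    exact hg m

end Groth.Agent.H89.GMBC_GEXT
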