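import Mathlib
import Groth.Prelude.Def_SGA3x

/-!
# A finite locally free morphism is essentially free (piece (IF-1) for S17685)
-/

set_option autoImplicit false
universe u
open CategoryTheory CategoryTheory.Limits AlgebraicGeometry MonoidalCategory CartesianMonoidalCategory

namespace Groth.Agent.H89.IF_1

/-- ring level: finite + flat + finitely presented ring map gives a projective module. -/
theorem projective_of_ringHom {A B : Type u} [CommRing A] [CommRing B] (φ : A →+* B)
    (h1 : φ.Finite) (h2 : φ.Flat) (h3 : φ.FinitePresentation) :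
    letI := φ.toAlgebra; Module.Projective A B := by
  letI := φ.toAlgebra
  haveI : Module.Finite A B := h1
  haveI : Module.Flat A B := h2
  haveI : Algebra.FinitePresentation A B := h3
  haveI : Module.FinitePresentation A B := Module.FinitePresentation.of_finite_of_finitePresentation A B
  exact Module.Flat.projective_of_finitePresentation

/-- (IF-1) a finite locally free morphism is essentially free. -/
theorem essFree_of_finite_flat {Z S : Scheme.{u}} (f : Z ⟶ S) [IsFinite f] [Flat f]
    [LocallyOfFinitePresentation f] : SGA3x.IsEssentiallyFree f := by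
  intro s
  obtain ⟨U, hU, hsU, -⟩ := exists_isAffineOpen_mem_and_subset (x := s) (U := (⊤ : S.Opens)) trivial
  haveI : IsAffine (U : Scheme.{u}) := hU
  refine ⟨U, hsU, hU, (U : Scheme.{u}), hU, 𝟙 _, inferInstance, inferInstance, ?_⟩
  intro x
  -- the projection to the base
  let p := pullback.snd f (𝟙 (U : Scheme.{u}) ≫ U.ι)
  haveI : IsFinite p := MorphismProperty.pullback_snd _ _ inferInstance
  haveI : Flat p := MorphismProperty.pullback_snd _ _ inferInstance
  haveI : LocallyOfFinitePresentation p := MorphismProperty.pullback_snd _ _ inferInstance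
  haveI : IsAffine (pullback f (𝟙 (U : Scheme.{u}) ≫ U.ι)) := isAffine_of_isAffineHom p
  refine ⟨⊤, trivial, isAffineOpen_top _, ?_⟩
  let q := (⊤ : (pullback f (𝟙 (U : Scheme.{u}) ≫ U.ι)).Opens).ι ≫ p
  haveI : IsAffine ((⊤ : (pullback f (𝟙 (U : Scheme.{u}) ≫ U.ι)).Opens) : Scheme.{u}) :=
    isAffineOpen_top _
  haveI : IsIso (⊤ : (pullback f (𝟙 (U : Scheme.{u}) ≫ U.ι)).Opens).ι :=
    (pullback f (𝟙 (U : Scheme.{u}) ≫ U.ι)).topIso.isIso_hom
  haveI : IsFinite q := by
    show IsFinite ((⊤ : (pullback f (𝟙 (U : Scheme.{u}) ≫ U.ι)).Opens).ι ≫ p)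
    infer_instance
  haveI : Flat q := by
    show Flat ((⊤ : (pullback f (𝟙 (U : Scheme.{u}) ≫ U.ι)).Opens).ι ≫ p)
    infer_instance
  haveI : LocallyOfFinitePresentation q := by
    show LocallyOfFinitePresentation ((⊤ : (pullback f (𝟙 (U : Scheme.{u}) ≫ U.ι)).Opens).ι ≫ p)
    infer_instance
  have h1 : q.appTop.hom.Finite :=
    ((HasAffineProperty.iff_of_isAffine (P := @IsFinite)).mp ‹IsFinite q›).2
  have h2 : q.appTop.hom.Flat :=
    (HasRingHomProperty.iff_of_isAffine (P := @Flat)).mp ‹Flat q›
  have h3 : q.appTop.hom.FinitePresentation :=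
    (HasRingHomProperty.iff_of_isAffine (P := @LocallyOfFinitePresentation)).mp
      ‹LocallyOfFinitePresentation q›
  exact projective_of_ringHom q.appTop.hom h1 h2 h3

end Groth.Agent.H89.IF_1
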