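import Mathlib
import Groth.Prelude.Def_DDual2

/-!
# (DB) of helper46's squad #5 for S11187: an additive `A`-linear functor `X` out of `A`-modules
with `End (X A) = A` is fully faithful on finitely generated projective modules (dual bases)
-/

set_option autoImplicit false
universe u
open CategoryTheory Limits MonoidalCategory
attribute [local instance] HasDerivedCategory.standard

namespace Groth.Agent.H89.Inv2_DB

/-- Sandwich formula in a preadditive category. -/
theorem sandwich_eq {C : Type*} [Category C] [Preadditive C] {P Q Z Z' : C} {n m : ℕ}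
    (u : Fin n → (P ⟶ Z)) (v : Fin n → (Z ⟶ P)) (u' : Fin m → (Q ⟶ Z')) (v' : Fin m → (Z' ⟶ Q))
    (h : P ⟶ Q) :
    (∑ j, u j ≫ v j) ≫ h ≫ (∑ k, u' k ≫ v' k) =
      ∑ j, ∑ k, u j ≫ (v j ≫ h ≫ u' k) ≫ v' k := by
  simp only [Preadditive.sum_comp, Preadditive.comp_sum, Category.assoc]
  rw [Finset.sum_comm]

variable (A : Type u) [CommRing A]

/-- Dual basis data of a finitely generated projective module, in `ModuleCat`. -/
theorem exists_dual (P : Type u) [AddCommGroup P] [Module A P] [Module.Finite A P]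
    [Module.Projective A P] :
    ∃ (n : ℕ) (ξ : Fin n → (ModuleCat.of A P ⟶ ModuleCat.of A A))
      (r : Fin n → (ModuleCat.of A A ⟶ ModuleCat.of A P)),
      ∑ j, ξ j ≫ r j = 𝟙 (ModuleCat.of A P) := by
  obtain ⟨n, f, g, -, -, hfg⟩ := Module.Finite.exists_comp_eq_id_of_projective A P
  refine ⟨n, fun j => ModuleCat.ofHom ((LinearMap.proj j : (Fin n → A) →ₗ[A] A) ∘ₗ g),
    fun j => ModuleCat.ofHom (f ∘ₗ (LinearMap.single A (fun _ : Fin n => A) j)), ?_⟩
  apply ModuleCat.hom_ext
  apply LinearMap.ext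
  intro x
  have h1 : (∑ j : Fin n, (Pi.single j (g x j) : Fin n → A)) = g x :=
    Finset.univ_sum_single (g x)
  have h2 := congrArg f h1
  rw [map_sum] at h2
  have h3 : f (g x) = x := LinearMap.congr_fun hfg x
  rw [h3] at h2
  simp only [ModuleCat.hom_sum, ModuleCat.hom_comp, ModuleCat.hom_ofHom, LinearMap.sum_apply,
    LinearMap.comp_apply, ModuleCat.hom_id, LinearMap.id_apply]
  exact h2

/-- An endomorphism of `A` is multiplication by a scalar. -/
theorem endo_eq (c : ModuleCat.of A A ⟶ ModuleCat.of A A) :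
    c = (c.hom (1 : A)) • 𝟙 (ModuleCat.of A A) := by
  apply ModuleCat.hom_ext
  apply LinearMap.ext_ring
  simp

variable {A} {D : Type*} [Category D] [Preadditive D] [Linear A D]
  (X : ModuleCat.{u} A ⥤ D) [X.Additive] [X.Linear A]

omit [X.Additive] in
theorem map_endo (c : ModuleCat.of A A ⟶ ModuleCat.of A A) :
    X.map c = (c.hom (1 : A)) • 𝟙 (X.obj (ModuleCat.of A A)) := by
  conv_lhs => rw [endo_eq A c]
  rw [Functor.map_smul, X.map_id]

theorem map_bijective
    (hA : Function.Bijective (fun a : A => a • 𝟙 (X.obj (ModuleCat.of A A))))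
    (P Q : Type u) [AddCommGroup P] [Module A P] [AddCommGroup Q] [Module A Q]
    [Module.Finite A P] [Module.Projective A P] [Module.Finite A Q] [Module.Projective A Q] :
    Function.Bijective (fun f : ModuleCat.of A P ⟶ ModuleCat.of A Q => X.map f) := by
  obtain ⟨n, ξ, r, hP⟩ := exists_dual A P
  obtain ⟨m, ξ', r', hQ⟩ := exists_dual A Q
  have eP : ∑ j, X.map (ξ j) ≫ X.map (r j) = 𝟙 (X.obj (ModuleCat.of A P)) := by
    rw [← X.map_id, ← hP, Functor.map_sum]
    simp only [Functor.map_comp]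
  have eQ : ∑ k, X.map (ξ' k) ≫ X.map (r' k) = 𝟙 (X.obj (ModuleCat.of A Q)) := by
    rw [← X.map_id, ← hQ, Functor.map_sum]
    simp only [Functor.map_comp]
  constructor
  · -- faithful
    intro f g hfg
    have hfg' : X.map f = X.map g := hfg
    have hh : X.map (f - g) = 0 := by rw [Functor.map_sub, hfg', sub_self]
    have hz : ∀ j k, r j ≫ (f - g) ≫ ξ' k = 0 := by
      intro j k
      have h1 : X.map (r j ≫ (f - g) ≫ ξ' k) = 0 := by
        rw [X.map_comp, X.map_comp, hh, zero_comp, comp_zero]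
      rw [map_endo X] at h1
      have h2 : (fun a : A => a • 𝟙 (X.obj (ModuleCat.of A A)))
          ((r j ≫ (f - g) ≫ ξ' k).hom (1 : A)) =
          (fun a : A => a • 𝟙 (X.obj (ModuleCat.of A A))) 0 := by
        simp only [zero_smul]
        exact h1
      have h3 := hA.1 h2
      rw [endo_eq A (r j ≫ (f - g) ≫ ξ' k), h3, zero_smul]
    have h0 : f - g = 0 := by
      have := sandwich_eq ξ r ξ' r' (f - g)
      rw [hP, hQ, Category.id_comp, Category.comp_id] at this
      rw [this]
      refine Finset.sum_eq_zero (fun j _ => Finset.sum_eq_zero (fun k _ => ?_))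
      rw [hz j k, zero_comp, comp_zero]
    exact sub_eq_zero.mp h0
  · -- full
    intro ψ
    have ha : ∀ j k, ∃ a : A, a • 𝟙 (X.obj (ModuleCat.of A A)) =
        X.map (r j) ≫ ψ ≫ X.map (ξ' k) := fun j k => hA.2 _
    choose a ha using ha
    refine ⟨∑ j, ∑ k, ξ j ≫ (a j k • 𝟙 (ModuleCat.of A A)) ≫ r' k, ?_⟩
    change X.map (∑ j, ∑ k, ξ j ≫ (a j k • 𝟙 (ModuleCat.of A A)) ≫ r' k) = ψ
    have := sandwich_eq (fun j => X.map (ξ j)) (fun j => X.map (r j)) (fun k => X.map (ξ' k))
      (fun k => X.map (r' k)) ψ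
    rw [eP, eQ, Category.id_comp, Category.comp_id] at this
    rw [this, Functor.map_sum]
    refine Finset.sum_congr rfl (fun j _ => ?_)
    rw [Functor.map_sum]
    refine Finset.sum_congr rfl (fun k _ => ?_)
    rw [X.map_comp, X.map_comp, Functor.map_smul, X.map_id, ha j k]

theorem DB (A : Type u) [CommRing A] {D : Type*} [Category D] [Preadditive D] [Linear A D]
    (X : ModuleCat.{u} A ⥤ D) [X.Additive] [X.Linear A]
    (hA : Function.Bijective (fun a : A => a • 𝟙 (X.obj (ModuleCat.of A A))))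
    (P P' : Type u) [AddCommGroup P] [Module A P] [AddCommGroup P'] [Module A P']
    [Module.Finite A P] [Module.Projective A P] [Module.Finite A P'] [Module.Projective A P']
    (α : X.obj (ModuleCat.of A P) ≅ X.obj (ModuleCat.of A P')) : Nonempty (P ≃ₗ[A] P') := by
  obtain ⟨f, hf⟩ := (map_bijective X hA P P').2 α.hom
  obtain ⟨g, hg⟩ := (map_bijective X hA P' P).2 α.inv
  have hf' : X.map f = α.hom := hf
  have hg' : X.map g = α.inv := hg
  have h1 : f ≫ g = 𝟙 _ := by
    apply (map_bijective X hA P P).1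
    change X.map (f ≫ g) = X.map (𝟙 _)
    rw [X.map_comp, hf', hg', α.hom_inv_id, X.map_id]
  have h2 : g ≫ f = 𝟙 _ := by
    apply (map_bijective X hA P' P').1
    change X.map (g ≫ f) = X.map (𝟙 _)
    rw [X.map_comp, hf', hg', α.inv_hom_id, X.map_id]
  exact ⟨(Iso.mk f g h1 h2 : ModuleCat.of A P ≅ ModuleCat.of A P').toLinearEquiv⟩

end Groth.Agent.H89.Inv2_DB
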