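import Mathlib
import Groth.Prelude.Def_DDual2

/-!
# (FAITH) of helper46's squad #5 for S11187: tensoring with an invertible module detects zero
-/

set_option autoImplicit false
universe u
open CategoryTheory Limits MonoidalCategory
attribute [local instance] HasDerivedCategory.standard

namespace Groth.Agent.H89.Inv2_FAITH

theorem subsingleton_tensor_of_left (A : Type u) [CommRing A] (M P : Type*) [AddCommGroup M]
    [Module A M] [AddCommGroup P] [Module A P] [Subsingleton M] :
    Subsingleton (TensorProduct A M P) := by
  have h0 : ∀ z : TensorProduct A M P, z = 0 := by
    intro z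
    induction z using TensorProduct.induction_on with
    | zero => rfl
    | tmul a b => rw [Subsingleton.elim a 0, TensorProduct.zero_tmul]
    | add a b ha hb => rw [ha, hb, add_zero]
  exact ⟨fun x y => by rw [h0 x, h0 y]⟩

theorem FAITH (A : Type u) [CommRing A] (M P : Type u) [AddCommGroup M] [Module A M]
    [AddCommGroup P] [Module A P] [Module.Invertible A P] :
    Subsingleton (TensorProduct A M P) ↔ Subsingleton M := by
  constructor
  · intro h
    let e : TensorProduct A P (Module.Dual A P) ≃ₗ[A] A :=
      (TensorProduct.comm A P (Module.Dual A P)) ≪≫ₗ Module.Invertible.linearEquiv A P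
    have e' : TensorProduct A (TensorProduct A M P) (Module.Dual A P) ≃ₗ[A] M :=
      Module.Invertible.rightCancelEquiv M e
    haveI : Subsingleton (TensorProduct A (TensorProduct A M P) (Module.Dual A P)) :=
      subsingleton_tensor_of_left A _ _
    exact e'.symm.toEquiv.subsingleton
  · intro h
    exact subsingleton_tensor_of_left A M P

end Groth.Agent.H89.Inv2_FAITH
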