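import Mathlib.RingTheory.Jacobson.Ideal
import Mathlib.RingTheory.Ideal.GoingUp
import Mathlib.RingTheory.Idempotents

set_option autoImplicit false

namespace Groth.Agent.H89

theorem map_le_jacobson_of_isIntegral {A B : Type*} [CommRing A] [CommRing B] [Algebra A B]
    [Algebra.IsIntegral A B] (I : Ideal A) (hI : I ≤ Ideal.jacobson ⊥) :
    Ideal.map (algebraMap A B) I ≤ Ideal.jacobson ⊥ := by
  rw [Ideal.jacobson]
  refine le_sInf ?_
  rintro n ⟨-, hn⟩
  rw [Ideal.map_le_iff_le_comap]
  haveI := hn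
  have hmax : (n.comap (algebraMap A B)).IsMaximal :=
    Ideal.isMaximal_comap_of_isIntegral_of_isMaximal n
  refine hI.trans ?_
  rw [Ideal.jacobson]
  exact sInf_le ⟨bot_le, hmax⟩

theorem idem_eq_of_sub_mem_jacobson {B : Type*} [CommRing B] {e e' : B}
    (he : IsIdempotentElem e) (he' : IsIdempotentElem e')
    (h : e - e' ∈ Ideal.jacobson (⊥ : Ideal B)) : e = e' := by
  have h3 : (e - e') * (1 - (e - e') ^ 2) = 0 := by
    have h1 : e * e = e := he
    have h2 : e' * e' = e' := he'
    have : (e - e') * (1 - (e - e') ^ 2) =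
        e - e' - (e * e) * e + 3 * (e * e) * e' - 3 * e * (e' * e') + (e' * e') * e' := by ring
    rw [this, h1, h2, h1, h2]
    ring
  have hu : IsUnit (1 - (e - e') ^ 2) := by
    have := Ideal.mem_jacobson_bot.mp h (-(e - e'))
    convert this using 1
    ring
  exact sub_eq_zero.mp ((hu.mul_left_eq_zero).mp h3)

end Groth.Agent.H89
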