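import Mathlib
import Groth.Prelude.Def_Red2
import Groth.Prelude.Def_ActBC
import Groth.Agent.H43.LSDefs

/-!
# (LS-LISO) of helper43's squad for S16621: being an isomorphism of `S`-schemes is Zariski-local
on the base
-/

set_option autoImplicit false
universe u
open CategoryTheory Limits MonoidalCategory CartesianMonoidalCategory MonObj GrpObj AlgebraicGeometry
open Groth.Agent.H43.LS

namespace Groth.Agent.H89.LS_LISO

theorem isIso_of_local {S : Scheme.{u}} {X Y : Over S} (φ : X ⟶ Y) {κ : Type u}
    (U : κ → S.Opens) (hU : ∀ s : S, ∃ i, s ∈ U i)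
    (h : ∀ i, IsIso ((Over.pullback (U i).ι).map φ)) : IsIso φ := by
  -- the pulled back open cover of `Y.left`
  let 𝒰 : Y.left.OpenCover := Scheme.Cover.mkOfCovers κ (fun i => pullback Y.hom (U i).ι)
    (fun i => pullback.fst Y.hom (U i).ι)
    (by
      intro y
      obtain ⟨i, hi⟩ := hU (Y.hom y)
      obtain ⟨z, hz, -⟩ := Scheme.Pullback.exists_preimage_pullback (f := Y.hom) (g := (U i).ι)
        y ⟨Y.hom y, hi⟩ rfl
      exact ⟨i, z, hz⟩)
  have hleft : IsIso φ.left := by
    refine IsZariskiLocalAtTarget.of_openCover (P := MorphismProperty.isomorphisms Scheme) 𝒰 ?_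
    intro i
    have hψ : IsIso ((Over.pullback (U i).ι).map φ).left := by
      haveI := h i
      exact inferInstanceAs (IsIso ((Over.forget _).map ((Over.pullback (U i).ι).map φ)))
    have p1 : ((Over.pullback (U i).ι).map φ).left ≫ pullback.fst Y.hom (U i).ι =
        pullback.fst X.hom (U i).ι ≫ φ.left := by
      simp only [Over.pullback_map_left]
      exact pullback.lift_fst _ _ _
    have p2 : ((Over.pullback (U i).ι).map φ).left ≫ pullback.snd Y.hom (U i).ι =
        pullback.snd X.hom (U i).ι := by
      simp only [Over.pullback_map_left]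
      exact pullback.lift_snd _ _ _
    have hs : IsPullback (((Over.pullback (U i).ι).map φ).left ≫ pullback.snd Y.hom (U i).ι)
        (pullback.fst X.hom (U i).ι) (U i).ι (φ.left ≫ Y.hom) := by
      rw [p2, Over.w φ]
      exact (IsPullback.of_hasPullback X.hom (U i).ι).flip
    have hpb := IsPullback.of_right hs p1 (IsPullback.of_hasPullback Y.hom (U i).ι).flip
    have hsnd : pullback.snd φ.left (pullback.fst Y.hom (U i).ι) =
        hpb.flip.isoPullback.inv ≫ ((Over.pullback (U i).ι).map φ).left := by
      rw [Iso.eq_inv_comp]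
      exact hpb.flip.isoPullback_hom_snd
    change IsIso (pullback.snd φ.left (pullback.fst Y.hom (U i).ι))
    rw [hsnd]
    infer_instance
  haveI : IsIso ((Over.forget S).map φ) := hleft
  exact isIso_of_reflects_iso φ (Over.forget S)

end Groth.Agent.H89.LS_LISO
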