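import Mathlib
import Groth.Prelude.Def_Red2
import Groth.Prelude.Def_ActBC
import Groth.Agent.H43.LSDefs

/-!
# (LS-OPEN) of helper43's squad for S16621: the structure morphism of a Zariski-locally split
torus is an open map
-/

set_option autoImplicit false
universe u
open CategoryTheory Limits MonoidalCategory CartesianMonoidalCategory MonObj GrpObj AlgebraicGeometry
open Groth.Agent.H43.LS

namespace Groth.Agent.H89.LS_OPEN

/-- `Spec ℤ[ℤ^r] ⟶ Spec ℤ` is universally open (flat and of finite presentation). -/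
theorem universallyOpen_diag (r : ℕ) :
    UniversallyOpen (Red.diag (ULift.{u} ℤ) (Fin r → ℤ)).hom := by
  have hN : IsNoetherianRing (ULift.{u} ℤ) := isNoetherianRing_of_ringEquiv ℤ ULift.ringEquiv.symm
  haveI : AddGroup.FG (Fin r → ℤ) := Module.Finite.iff_addGroup_fg.mp inferInstance
  have hft : Algebra.FiniteType (ULift.{u} ℤ)
      (MonoidAlgebra (ULift.{u} ℤ) (Multiplicative (Fin r → ℤ))) := inferInstance
  have hfp : Algebra.FinitePresentation (ULift.{u} ℤ)
      (MonoidAlgebra (ULift.{u} ℤ) (Multiplicative (Fin r → ℤ))) :=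
    Algebra.FinitePresentation.of_finiteType.mp hft
  have hflat : Module.Flat (ULift.{u} ℤ)
      (MonoidAlgebra (ULift.{u} ℤ) (Multiplicative (Fin r → ℤ))) := inferInstance
  change UniversallyOpen (Spec.map (CommRingCat.ofHom
    (algebraMap (ULift.{u} ℤ) (MonoidAlgebra (ULift.{u} ℤ) (Multiplicative (Fin r → ℤ))))))
  haveI : Flat (Spec.map (CommRingCat.ofHom
      (algebraMap (ULift.{u} ℤ) (MonoidAlgebra (ULift.{u} ℤ) (Multiplicative (Fin r → ℤ)))))) := by
    rw [HasRingHomProperty.Spec_iff (P := @Flat)]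
    exact (RingHom.flat_algebraMap_iff).mpr hflat
  haveI : LocallyOfFinitePresentation (Spec.map (CommRingCat.ofHom
      (algebraMap (ULift.{u} ℤ) (MonoidAlgebra (ULift.{u} ℤ) (Multiplicative (Fin r → ℤ)))))) := by
    rw [HasRingHomProperty.Spec_iff (P := @LocallyOfFinitePresentation)]
    exact RingHom.finitePresentation_algebraMap.mpr hfp
  infer_instance

/-- `D_W(ℤ^r) ⟶ W` is universally open. -/
theorem universallyOpen_DS (W : Scheme.{u}) (r : ℕ) :
    UniversallyOpen (Red.DS W (Fin r → ℤ)).hom := by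
  haveI := universallyOpen_diag.{u} r
  change UniversallyOpen (pullback.snd (Red.diag (ULift.{u} ℤ) (Fin r → ℤ)).hom
    (Limits.IsTerminal.from specULiftZIsTerminal W))
  infer_instance

theorem universallyOpen_of_locSplit {S : Scheme.{u}} {T : Over S} [GrpObj T]
    (hT : ∀ s : S, ∃ U : S.Opens, s ∈ U ∧ ∃ r : ℕ,
      Red.IsSplitTorusWith (Fin r → ℤ) (Red.bc U.ι T)) : UniversallyOpen T.hom := by
  choose U hsU r hr using hT
  let 𝒰 : S.OpenCover := Scheme.Cover.mkOfCovers S (fun s => ((U s : S.Opens) : Scheme.{u}))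
    (fun s => (U s).ι) (fun s => ⟨s, ⟨s, hsU s⟩, rfl⟩)
  refine IsZariskiLocalAtTarget.of_openCover (P := @UniversallyOpen) 𝒰 (fun s => ?_)
  change UniversallyOpen (pullback.snd T.hom (U s).ι)
  obtain ⟨e⟩ := hr s
  let e' : Red.bc (U s).ι T ≅ Red.DS (U s : Scheme.{u}) (Fin (r s) → ℤ) :=
    (Grp.forget _).mapIso e
  have hw : e'.hom.left ≫ (Red.DS (U s : Scheme.{u}) (Fin (r s) → ℤ)).hom =
      (Red.bc (U s).ι T).hom := Over.w e'.hom
  have hiso : IsIso e'.hom.left :=
    inferInstanceAs (IsIso ((Over.forget _).map e'.hom))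
  change UniversallyOpen (Red.bc (U s).ι T).hom
  rw [← hw]
  exact (MorphismProperty.cancel_left_of_respectsIso @UniversallyOpen e'.hom.left _).mpr
    (universallyOpen_DS _ _)

theorem isOpenMap_of_locSplit {S : Scheme.{u}} {T : Over S} [GrpObj T]
    (hT : ∀ s : S, ∃ U : S.Opens, s ∈ U ∧ ∃ r : ℕ,
      Red.IsSplitTorusWith (Fin r → ℤ) (Red.bc U.ι T)) : IsOpenMap T.hom.base := by
  haveI := universallyOpen_of_locSplit hT
  exact T.hom.isOpenMap

end Groth.Agent.H89.LS_OPEN
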