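import Groth.Prelude.Def_LiftSq

set_option autoImplicit false

namespace Groth.Agent.H89.LiftSqLib

open CategoryTheory LiftSq

universe v₆ u₆ v₅ u₅ v₄ u₄ v₃ u₃ v₂ u₂ v u

variable {C : Type u} [Category.{v} C]
  {𝒜 : BasedCategory.{v₂, u₂} C} {ℬ : BasedCategory.{v₃, u₃} C}
  {𝒳 : BasedCategory.{v₄, u₄} C} {𝒴 : BasedCategory.{v₅, u₅} C} {𝒵 : BasedCategory.{v₆, u₆} C}

theorem iso_aux {D : Type*} [Category D] {X Y : D} (a : X ⟶ Y) (b : Y ⟶ X) (c : X ⟶ Y)
    (h1 : a ≫ b = 𝟙 X) (h2 : b ≫ c = 𝟙 Y) : c = a :=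
  calc c = 𝟙 X ≫ c := (Category.id_comp c).symm
    _ = (a ≫ b) ≫ c := by rw [h1]
    _ = a ≫ (b ≫ c) := Category.assoc _ _ _
    _ = a := by rw [h2, Category.comp_id]

theorem comp_aux {D E : Type*} [Category D] [Category E] (G : D ⥤ E) {X : E} {Y Z W : D}
    (A : X ⟶ G.obj Y) (B : Y ⟶ Z) (Cc : Z ⟶ W) (T : Y ⟶ W) (h1 : B ≫ Cc = T) :
    (A ≫ G.map B) ≫ G.map Cc = A ≫ G.map T := by
  rw [Category.assoc, ← G.map_comp, h1]

theorem map_aux {D E : Type*} [Category D] [Category E] (G : D ⥤ E) {Y Z W : D}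
    (B : Y ⟶ Z) (Cc : Z ⟶ W) (T : Y ⟶ W) (h1 : B ≫ Cc = T) :
    G.map B ≫ G.map Cc = G.map T := by
  rw [← G.map_comp, h1]

theorem ext_app {P : BasedCategory.{v₂, u₂} C} {Q : BasedCategory.{v₃, u₃} C} {F G : P ⥤ᵇ Q}
    (α β : F ⟶ G) (h : ∀ x, α.toNatTrans.app x = β.toNatTrans.app x) : α = β := by
  apply BasedNatTrans.homCategory.ext
  ext x
  exact h x

/-- Whiskering an isomorphism of based functors on the right. -/
def isoWr {F G : ℬ ⥤ᵇ 𝒳} (α : F ≅ G) (f : 𝒳 ⥤ᵇ 𝒴) :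
    BasedFunctor.comp F f ≅ BasedFunctor.comp G f where
  hom := BasedCategory.whiskerRight α.hom f
  inv := BasedCategory.whiskerRight α.inv f
  hom_inv_id := by rw [← whiskerRight_comp', α.hom_inv_id, whiskerRight_id']
  inv_hom_id := by rw [← whiskerRight_comp', α.inv_hom_id, whiskerRight_id']

section

variable (j : 𝒜 ⥤ᵇ ℬ) (f : 𝒳 ⥤ᵇ 𝒴) (g : 𝒴 ⥤ᵇ 𝒵)

theorem lift_w_app {sq : Sq j f} (d : sq.Lift) (x : 𝒜.obj) :
    d.isoBot.hom.toNatTrans.app (j.obj x) ≫ f.map (d.isoTop.hom.toNatTrans.app x) =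
      sq.iso.hom.toNatTrans.app x :=
  congrArg (fun t => t.toNatTrans.app x) d.w

theorem hom_w_top_app {sq : Sq j f} {d d' : sq.Lift} (θ : d ⟶ d') (x : 𝒜.obj) :
    θ.hom.toNatTrans.app (j.obj x) ≫ d'.isoTop.hom.toNatTrans.app x =
      d.isoTop.hom.toNatTrans.app x :=
  congrArg (fun t => t.toNatTrans.app x) θ.w_top

theorem hom_w_bot_app {sq : Sq j f} {d d' : sq.Lift} (θ : d ⟶ d') (y : ℬ.obj) :
    d.isoBot.hom.toNatTrans.app y ≫ f.map (θ.hom.toNatTrans.app y) =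
      d'.isoBot.hom.toNatTrans.app y :=
  congrArg (fun t => t.toNatTrans.app y) θ.w_bot

/-- The `g`-square associated to a square for `f ⋙ g`. -/
def sqG (sq : Sq j (BasedFunctor.comp f g)) : Sq j g :=
  ⟨BasedFunctor.comp sq.top f, sq.bot, sq.iso⟩

/-- A lift of a square for `f ⋙ g` gives a lift of the `g`-square. -/
def liftG {sq : Sq j (BasedFunctor.comp f g)} (d : sq.Lift) : (sqG j f g sq).Lift where
  fn := BasedFunctor.comp d.fn f
  isoTop := isoWr d.isoTop f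
  isoBot := d.isoBot
  w := ext_app _ _ (fun x => lift_w_app j (BasedFunctor.comp f g) d x)

/-- The `f`-square with bottom `b ⋙ f`. -/
def sqF (top : 𝒜 ⥤ᵇ 𝒳) (b : ℬ ⥤ᵇ 𝒳) (i : BasedFunctor.comp j b ≅ top) : Sq j f :=
  ⟨top, BasedFunctor.comp b f, isoWr i f⟩

/-- The tautological lift of `sqF`. -/
def liftF' (top : 𝒜 ⥤ᵇ 𝒳) (b : ℬ ⥤ᵇ 𝒳) (i : BasedFunctor.comp j b ≅ top) :
    (sqF j f top b i).Lift where
  fn := b
  isoTop := i
  isoBot := Iso.refl _
  w := ext_app _ _ (fun x => Category.id_comp _)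

theorem liftsUniquely_comp (hf : LiftsUniquely j f) (hg : LiftsUniquely j g) :
    LiftsUniquely j (BasedFunctor.comp f g) := by
  intro sq
  refine ⟨?_, ?_⟩
  · obtain ⟨dg⟩ := (hg (sqG j f g sq)).1
    obtain ⟨df⟩ := (hf ⟨sq.top, dg.fn, dg.isoTop⟩).1
    refine ⟨⟨df.fn, df.isoTop, dg.isoBot ≪≫ isoWr df.isoBot g, ext_app _ _ (fun x => ?_)⟩⟩
    have h1 := lift_w_app j f df x
    have h2 := lift_w_app j g dg x
    exact (comp_aux g.toFunctor (dg.isoBot.hom.toNatTrans.app (j.obj x))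
      (df.isoBot.hom.toNatTrans.app (j.obj x)) (f.map (df.isoTop.hom.toNatTrans.app x))
      (dg.isoTop.hom.toNatTrans.app x) h1).trans h2
  · intro d d'
    obtain ⟨u⟩ := (hg (sqG j f g sq)).2 (liftG j f g d) (liftG j f g d')
    obtain ⟨u'⟩ := (hg (sqG j f g sq)).2 (liftG j f g d') (liftG j f g d)
    obtain ⟨u₁⟩ := (hg (sqG j f g sq)).2 (liftG j f g d) (liftG j f g d)
    obtain ⟨u₂⟩ := (hg (sqG j f g sq)).2 (liftG j f g d') (liftG j f g d')
    have e1 : u.default ≫ u'.default = 𝟙 _ := (u₁.uniq _).trans (u₁.uniq _).symm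
    have e2 : u'.default ≫ u.default = 𝟙 _ := (u₂.uniq _).trans (u₂.uniq _).symm
    have e1' : u.default.hom ≫ u'.default.hom = 𝟙 _ := congrArg Sq.Lift.Hom.hom e1
    have e2' : u'.default.hom ≫ u.default.hom = 𝟙 _ := congrArg Sq.Lift.Hom.hom e2
    -- the lift `E` of the `f`-square built from `d` and `θ'`
    let E : (sqF j f sq.top d'.fn d'.isoTop).Lift :=
      { fn := d.fn
        isoTop := d.isoTop
        isoBot := ⟨u'.default.hom, u.default.hom, e2', e1'⟩
        w := u'.default.w_top }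
    obtain ⟨w⟩ := (hf (sqF j f sq.top d'.fn d'.isoTop)).2 E (liftF' j f sq.top d'.fn d'.isoTop)
    -- `η ▷ f = θ`
    have hηf : ∀ (η : E ⟶ liftF' j f sq.top d'.fn d'.isoTop),
        BasedCategory.whiskerRight η.hom f = u.default.hom := by
      intro η
      have h3 : u'.default.hom ≫ BasedCategory.whiskerRight η.hom f = 𝟙 _ := η.w_bot
      exact iso_aux u.default.hom u'.default.hom (BasedCategory.whiskerRight η.hom f) e1' h3
    refine ⟨{ default := ⟨w.default.hom, w.default.w_top, ext_app _ _ (fun y => ?_)⟩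
              uniq := fun H₂ => ?_ }⟩
    · have h4 := hom_w_bot_app j g u.default y
      have h5 := congrArg (fun t => t.toNatTrans.app y) (hηf w.default)
      change d.isoBot.hom.toNatTrans.app y ≫ g.map (f.map (w.default.hom.toNatTrans.app y)) = _
      change f.map (w.default.hom.toNatTrans.app y) = u.default.hom.toNatTrans.app y at h5
      rw [h5]
      exact h4
    · -- uniqueness
      let θ₂ : liftG j f g d ⟶ liftG j f g d' :=
        ⟨BasedCategory.whiskerRight H₂.hom f,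
          ext_app _ _ (fun x => by
            have h6 := hom_w_top_app j (BasedFunctor.comp f g) H₂ x
            exact map_aux f.toFunctor (H₂.hom.toNatTrans.app (j.obj x))
              (d'.isoTop.hom.toNatTrans.app x) (d.isoTop.hom.toNatTrans.app x) h6),
          ext_app _ _ (fun y => hom_w_bot_app j (BasedFunctor.comp f g) H₂ y)⟩
      have h7 : BasedCategory.whiskerRight H₂.hom f = u.default.hom :=
        congrArg Sq.Lift.Hom.hom (u.uniq θ₂)
      let η₂ : E ⟶ liftF' j f sq.top d'.fn d'.isoTop :=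
        ⟨H₂.hom, H₂.w_top,
          (congrArg (fun t : (liftG j f g d).fn ⟶ (liftG j f g d').fn => u'.default.hom ≫ t)
            h7).trans e2'⟩
      have h8 : H₂.hom = w.default.hom := congrArg Sq.Lift.Hom.hom (w.uniq η₂)
      exact Sq.Lift.hom_ext h8

end

end Groth.Agent.H89.LiftSqLib
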