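import Groth.Prelude.Def_FibCat2
import Groth.Prelude.Def_LiftSq
import Groth.Agent.H89.LiftSqComp

set_option autoImplicit false

namespace Groth.Agent.H89.LiftSqLib

open CategoryTheory CategoryTheory.Limits LiftSq FibCat

universe v₆ u₆ v₅ u₅ v₄ u₄ v₃ u₃ v₂ u₂ v u

variable {C : Type u} [Category.{v} C]
  {𝒜 : BasedCategory.{v₂, u₂} C} {ℬ : BasedCategory.{v₃, u₃} C}
  {𝒳 : BasedCategory.{v₄, u₄} C} {𝒴 : BasedCategory.{v₅, u₅} C} {𝒴' : BasedCategory.{v₆, u₆} C}

/-- Whiskering an isomorphism of based functors on the left. -/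
def isoWl (F : 𝒜 ⥤ᵇ ℬ) {G H : ℬ ⥤ᵇ 𝒳} (α : G ≅ H) :
    BasedFunctor.comp F G ≅ BasedFunctor.comp F H where
  hom := BasedCategory.whiskerLeft F α.hom
  inv := BasedCategory.whiskerLeft F α.inv
  hom_inv_id := by rw [← whiskerLeft_comp', α.hom_inv_id, whiskerLeft_id']
  inv_hom_id := by rw [← whiskerLeft_comp', α.inv_hom_id, whiskerLeft_id']

theorem iso_hom_inv_app {P : BasedCategory.{v₂, u₂} C} {Q : BasedCategory.{v₃, u₃} C}
    {F G : P ⥤ᵇ Q} (e : F ≅ G) (x : P.obj) :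
    e.hom.toNatTrans.app x ≫ e.inv.toNatTrans.app x = 𝟙 (F.obj x) :=
  congrArg (fun t => t.toNatTrans.app x) e.hom_inv_id

theorem iso_inv_hom_app {P : BasedCategory.{v₂, u₂} C} {Q : BasedCategory.{v₃, u₃} C}
    {F G : P ⥤ᵇ Q} (e : F ≅ G) (x : P.obj) :
    e.inv.toNatTrans.app x ≫ e.hom.toNatTrans.app x = 𝟙 (G.obj x) :=
  congrArg (fun t => t.toNatTrans.app x) e.inv_hom_id

theorem sq_aux {D E : Type*} [Category D] [Category E] (Y : D ⥤ E) {b c t : D} {X X' : E}
    (β : b ⟶ c) (τ₁ : c ⟶ t) (s : b ⟶ t) (h1 : β ≫ τ₁ = s) (Ic : Y.obj c ⟶ X)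
    (It : Y.obj t ⟶ X') (τ₂ : X ⟶ X') (h2 : Y.map τ₁ ≫ It = Ic ≫ τ₂) :
    (Y.map β ≫ Ic) ≫ τ₂ = Y.map s ≫ It := by
  subst h1
  rw [Y.map_comp, Category.assoc, Category.assoc, h2]

theorem inv_aux {D E : Type*} [Category D] [Category E] (Y : D ⥤ E) {b c c' : D} {X X' : E}
    (β : b ⟶ c) (βi : c ⟶ b) (hβ : βi ≫ β = 𝟙 c) (β' : b ⟶ c') (I : Y.obj c ⟶ X)
    (I' : Y.obj c' ⟶ X') (υ : X ⟶ X') (h : (Y.map β ≫ I) ≫ υ = Y.map β' ≫ I') :
    Y.map (βi ≫ β') ≫ I' = I ≫ υ :=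
  calc Y.map (βi ≫ β') ≫ I' = Y.map βi ≫ (Y.map β' ≫ I') := by
        rw [Y.map_comp, Category.assoc]
    _ = Y.map βi ≫ ((Y.map β ≫ I) ≫ υ) := by rw [h]
    _ = (Y.map βi ≫ Y.map β) ≫ (I ≫ υ) := by simp only [Category.assoc]
    _ = I ≫ υ := by rw [← Y.map_comp, hβ, Y.map_id, Category.id_comp]

theorem top_aux {D : Type*} [Category D] {b c c' t : D} (β : b ⟶ c) (βi : c ⟶ b)
    (hβ : βi ≫ β = 𝟙 c) (β' : b ⟶ c') (τ : c ⟶ t) (τ' : c' ⟶ t) (σ : b ⟶ t)
    (h1 : β ≫ τ = σ) (h2 : β' ≫ τ' = σ) : (βi ≫ β') ≫ τ' = τ := by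
  rw [Category.assoc, h2, ← h1, ← Category.assoc, hβ, Category.id_comp]

theorem fst_aux {D : Type*} [Category D] {b c c' : D} (β : b ⟶ c) (βi : c ⟶ b)
    (hβ : βi ≫ β = 𝟙 c) (β' : b ⟶ c') (φ : c ⟶ c') (h : β ≫ φ = β') : φ = βi ≫ β' := by
  rw [← h, ← Category.assoc, hβ, Category.id_comp]

theorem bot_aux {D : Type*} [Category D] {b c c' : D} (β : b ⟶ c) (βi : c ⟶ b)
    (hβ : β ≫ βi = 𝟙 b) (β' : b ⟶ c') : β ≫ (βi ≫ β') = β' := by
  rw [← Category.assoc, hβ, Category.id_comp]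

section

variable (y : 𝒴' ⥤ᵇ 𝒴) (f : 𝒳 ⥤ᵇ 𝒴)

theorem fp_isHomLift {R S : C} (g : R ⟶ S) {z z' : (fp y f).obj} (φ : z ⟶ z')
    (h : 𝒴'.p.IsHomLift g φ.hom.fst) : (fp y f).p.IsHomLift g φ :=
  by
  have h1 := IsHomLift.domain_eq 𝒴'.p g φ.hom.fst
  have h2 := IsHomLift.codomain_eq 𝒴'.p g φ.hom.fst
  exact IsHomLift.of_fac _ g φ h1 h2 (IsHomLift.fac 𝒴'.p g φ.hom.fst)

variable (j : 𝒜 ⥤ᵇ ℬ)

/-- The `f`-square associated to a square for the base change `fpFst y f`. -/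
def sqFp (sq : Sq j (fpFst y f)) : Sq j f where
  top := BasedFunctor.comp sq.top (fpSnd y f)
  bot := BasedFunctor.comp sq.bot y
  iso := isoWr sq.iso y ≪≫ isoWl sq.top (fpIso y f)

theorem sqFp_iso_app (sq : Sq j (fpFst y f)) (a : 𝒜.obj) :
    (sqFp y f j sq).iso.hom.toNatTrans.app a =
      y.map (sq.iso.hom.toNatTrans.app a) ≫ (sq.top.obj a).obj.iso.hom := rfl

/-- A lift of a square for `fpFst y f` gives a lift of the associated `f`-square. -/
def liftFp {sq : Sq j (fpFst y f)} (d : sq.Lift) : (sqFp y f j sq).Lift where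
  fn := BasedFunctor.comp d.fn (fpSnd y f)
  isoTop := isoWr d.isoTop (fpSnd y f)
  isoBot := isoWr d.isoBot y ≪≫ isoWl d.fn (fpIso y f)
  w := ext_app _ _ (fun a =>
    sq_aux y.toFunctor (d.isoBot.hom.toNatTrans.app (j.obj a))
      (d.isoTop.hom.toNatTrans.app a).hom.fst (sq.iso.hom.toNatTrans.app a)
      (lift_w_app j (fpFst y f) d a) (d.fn.obj (j.obj a)).obj.iso.hom
      (sq.top.obj a).obj.iso.hom (f.map (d.isoTop.hom.toNatTrans.app a).hom.snd)
      (d.isoTop.hom.toNatTrans.app a).hom.w)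

/-- Morphisms of lifts go to morphisms of the associated lifts. -/
def homFp {sq : Sq j (fpFst y f)} {d d' : sq.Lift} (θ : d ⟶ d') :
    liftFp y f j d ⟶ liftFp y f j d' where
  hom := BasedCategory.whiskerRight θ.hom (fpSnd y f)
  w_top := ext_app _ _ (fun a =>
    congrArg (fun t => t.hom.snd) (hom_w_top_app j (fpFst y f) θ a))
  w_bot := ext_app _ _ (fun b =>
    sq_aux y.toFunctor (d.isoBot.hom.toNatTrans.app b)
      (θ.hom.toNatTrans.app b).hom.fst (d'.isoBot.hom.toNatTrans.app b)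
      (hom_w_bot_app j (fpFst y f) θ b) (d.fn.obj b).obj.iso.hom
      (d'.fn.obj b).obj.iso.hom (f.map (θ.hom.toNatTrans.app b).hom.snd)
      (θ.hom.toNatTrans.app b).hom.w)

variable {y f j}

/-- The lifting functor into the fibre product. -/
def fpFn (sq : Sq j (fpFst y f)) (df : (sqFp y f j sq).Lift) : ℬ ⥤ᵇ fp y f :=
  fpLift sq.bot df.fn df.isoBot

/-- Components of the upper triangle. -/
def fpTopIsoApp (sq : Sq j (fpFst y f)) (df : (sqFp y f j sq).Lift) (a : 𝒜.obj) :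
    (BasedFunctor.comp j (fpFn sq df)).obj a ≅ sq.top.obj a :=
  (fpProp y f).isoMk (CategoricalPullback.mkIso
    (((BasedNatTrans.forgetful _ _).mapIso sq.iso).app a)
    (((BasedNatTrans.forgetful _ _).mapIso df.isoTop).app a)
    (lift_w_app j f df a).symm)

/-- The upper triangle. -/
def fpTopIso (sq : Sq j (fpFst y f)) (df : (sqFp y f j sq).Lift) :
    BasedFunctor.comp j (fpFn sq df) ≅ sq.top :=
  BasedNatIso.mkNatIso
    (NatIso.ofComponents (fpTopIsoApp sq df) (fun {a a'} g => by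
      apply ObjectProperty.hom_ext
      apply CategoricalPullback.hom_ext
      · exact sq.iso.hom.toNatTrans.naturality g
      · exact df.isoTop.hom.toNatTrans.naturality g))
    (fun a => fp_isHomLift y f _ (fpTopIsoApp sq df a).hom (sq.iso.hom.isHomLift' a))

/-- The lift of the original square. -/
def fpLiftOf (sq : Sq j (fpFst y f)) (df : (sqFp y f j sq).Lift) : sq.Lift where
  fn := fpFn sq df
  isoTop := fpTopIso sq df
  isoBot := Iso.refl _
  w := ext_app _ _ (fun _ => Category.id_comp _)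

theorem hasLift_fpFst (hf : LiftsUniquely j f) (sq : Sq j (fpFst y f)) : sq.HasLift := by
  obtain ⟨df⟩ := (hf (sqFp y f j sq)).1
  exact ⟨fpLiftOf sq df⟩

theorem uniqLift_fpFst (hf : LiftsUniquely j f) (sq : Sq j (fpFst y f)) : sq.UniqLift := by
  intro d d'
  obtain ⟨u⟩ := (hf (sqFp y f j sq)).2 (liftFp y f j d) (liftFp y f j d')
  have hbot : ∀ b : ℬ.obj,
      (y.map (d.isoBot.hom.toNatTrans.app b) ≫ (d.fn.obj b).obj.iso.hom) ≫
        f.map (u.default.hom.toNatTrans.app b) =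
      y.map (d'.isoBot.hom.toNatTrans.app b) ≫ (d'.fn.obj b).obj.iso.hom :=
    fun b => hom_w_bot_app j f u.default b
  have htop : ∀ a : 𝒜.obj, u.default.hom.toNatTrans.app (j.obj a) ≫
      (d'.isoTop.hom.toNatTrans.app a).hom.snd = (d.isoTop.hom.toNatTrans.app a).hom.snd :=
    fun a => hom_w_top_app j f u.default a
  let γ : BasedFunctor.comp d.fn (fpFst y f) ⟶ BasedFunctor.comp d'.fn (fpFst y f) :=
    d.isoBot.inv ≫ d'.isoBot.hom
  let θapp : ∀ b : ℬ.obj, d.fn.obj b ⟶ d'.fn.obj b := fun b =>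
    ObjectProperty.homMk
      { fst := γ.toNatTrans.app b
        snd := u.default.hom.toNatTrans.app b
        w := inv_aux y.toFunctor (d.isoBot.hom.toNatTrans.app b) (d.isoBot.inv.toNatTrans.app b)
          (iso_inv_hom_app d.isoBot b) (d'.isoBot.hom.toNatTrans.app b)
          (d.fn.obj b).obj.iso.hom (d'.fn.obj b).obj.iso.hom
          (f.map (u.default.hom.toNatTrans.app b)) (hbot b) }
  let θhom : d.fn ⟶ d'.fn :=
    { toNatTrans :=
        { app := θapp
          naturality := fun {b b'} g => by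
            apply ObjectProperty.hom_ext
            apply CategoricalPullback.hom_ext
            · exact γ.toNatTrans.naturality g
            · exact u.default.hom.toNatTrans.naturality g }
      isHomLift' := fun b => fp_isHomLift y f _ (θapp b) (γ.isHomLift' b) }
  let θ : d ⟶ d' :=
    { hom := θhom
      w_top := ext_app _ _ (fun a => by
        apply ObjectProperty.hom_ext
        apply CategoricalPullback.hom_ext
        · exact top_aux (d.isoBot.hom.toNatTrans.app (j.obj a))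
            (d.isoBot.inv.toNatTrans.app (j.obj a)) (iso_inv_hom_app d.isoBot (j.obj a))
            (d'.isoBot.hom.toNatTrans.app (j.obj a)) (d.isoTop.hom.toNatTrans.app a).hom.fst
            (d'.isoTop.hom.toNatTrans.app a).hom.fst (sq.iso.hom.toNatTrans.app a)
            (lift_w_app j (fpFst y f) d a) (lift_w_app j (fpFst y f) d' a)
        · exact htop a)
      w_bot := ext_app _ _ (fun b =>
        bot_aux (d.isoBot.hom.toNatTrans.app b) (d.isoBot.inv.toNatTrans.app b)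
          (iso_hom_inv_app d.isoBot b) (d'.isoBot.hom.toNatTrans.app b)) }
  refine ⟨{ default := θ, uniq := fun θ₂ => ?_ }⟩
  apply Sq.Lift.hom_ext
  refine ext_app _ _ (fun b => ?_)
  apply ObjectProperty.hom_ext
  apply CategoricalPullback.hom_ext
  · exact fst_aux (d.isoBot.hom.toNatTrans.app b) (d.isoBot.inv.toNatTrans.app b)
      (iso_inv_hom_app d.isoBot b) (d'.isoBot.hom.toNatTrans.app b)
      (θ₂.hom.toNatTrans.app b).hom.fst (hom_w_bot_app j (fpFst y f) θ₂ b)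
  · exact congrArg (fun t => t.hom.toNatTrans.app b) (u.uniq (homFp y f j θ₂))

theorem liftsUniquely_fpFst (hf : LiftsUniquely j f) : LiftsUniquely j (fpFst y f) :=
  fun sq => ⟨hasLift_fpFst hf sq, uniqLift_fpFst hf sq⟩

end

end Groth.Agent.H89.LiftSqLib
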