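import Mathlib
import Groth.Prelude.Def_W4c5cptfessfintypeLocImm

/-! # Localizing immersions: basic topology and stalks (helper89) -/

set_option autoImplicit false
universe u

open CategoryTheory AlgebraicGeometry TopologicalSpace Topology

namespace Groth.Agent.H89.LocImmLib

lemma isEmbedding_comap {A B : Type u} [CommRing A] [CommRing B] (φ : A →+* B)
    (h : LocImm.IsLocHom φ) : IsEmbedding (PrimeSpectrum.comap φ) := by
  letI := φ.toAlgebra
  obtain ⟨S, hS⟩ := h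
  exact PrimeSpectrum.localization_comap_isEmbedding B S

lemma stableUnderGeneralization_range_comap {A B : Type u} [CommRing A] [CommRing B]
    (φ : A →+* B) (h : LocImm.IsLocHom φ) :
    StableUnderGeneralization (Set.range (PrimeSpectrum.comap φ)) := by
  letI := φ.toAlgebra
  obtain ⟨S, hS⟩ := h
  have hr : Set.range (PrimeSpectrum.comap φ) = {p | Disjoint (S : Set A) p.asIdeal} :=
    PrimeSpectrum.localization_comap_range B S
  rw [hr]
  intro p p' hpp' hp
  have hle : p'.asIdeal ≤ p.asIdeal := (PrimeSpectrum.le_iff_specializes p' p).mpr hpp'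
  exact Set.disjoint_of_subset_right hle hp

lemma localRingHom_bijective {A B : Type u} [CommRing A] [CommRing B] (φ : A →+* B)
    (hloc : LocImm.IsLocHom φ) (p : Ideal A) [p.IsPrime] (q : Ideal B) [q.IsPrime]
    (h : p = q.comap φ) :
    Function.Bijective (Localization.localRingHom p q φ h) := by
  subst h
  letI := φ.toAlgebra
  obtain ⟨S, hS⟩ := hloc
  have h1 : IsLocalization.AtPrime (Localization.AtPrime q) (q.comap (algebraMap A B)) :=
    IsLocalization.isLocalization_isLocalization_atPrime_isLocalization S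
      (Localization.AtPrime q) q
  let e : Localization.AtPrime (q.comap φ) ≃ₐ[A] Localization.AtPrime q :=
    IsLocalization.algEquiv (q.comap φ).primeCompl _ _
  have he : Localization.localRingHom (q.comap φ) q φ rfl = (e : _ →+* _) := by
    apply IsLocalization.ringHom_ext (q.comap φ).primeCompl
    ext a
    simp only [RingHom.comp_apply]
    rw [Localization.localRingHom_to_map, RingHom.coe_coe, AlgEquiv.commutes,
      IsScalarTower.algebraMap_apply A B (Localization.AtPrime q)]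
    rfl
  rw [he]
  exact e.bijective

variable {X Y : Scheme.{u}}

lemma isIso_stalkMap_of_chart (f : X ⟶ Y) {U : Y.Opens} (hU : IsAffineOpen U) {V : X.Opens}
    (hV : IsAffineOpen V) (e : V ≤ f ⁻¹ᵁ U) (hloc : LocImm.IsLocHom (f.appLE U V e).hom)
    (x : X) (hx : x ∈ V) : IsIso (f.stalkMap x) := by
  have iso := IsAffineOpen.arrowStalkMapIso f U hU V hV e hx
  have hbij := localRingHom_bijective (f.appLE U V e).hom hloc
    (hU.primeIdealOf ⟨f x, e hx⟩).asIdeal (hV.primeIdealOf ⟨x, hx⟩).asIdeal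
    (congr($(IsAffineOpen.comap_primeIdealOf_appLE U hU V hV e hx).1).symm)
  have h2 : IsIso (CommRingCat.ofHom (Localization.localRingHom _ _ (f.appLE U V e).hom
      (congr($(IsAffineOpen.comap_primeIdealOf_appLE U hU V hV e hx).1).symm))) :=
    (ConcreteCategory.isIso_iff_bijective _).mpr hbij
  exact ((MorphismProperty.isomorphisms CommRingCat).arrow_mk_iso_iff iso).mpr h2

lemma gen_in_chart (f : X ⟶ Y) {U : Y.Opens} (hU : IsAffineOpen U) {V : X.Opens}
    (hV : IsAffineOpen V) (e : V ≤ f ⁻¹ᵁ U) (hloc : LocImm.IsLocHom (f.appLE U V e).hom)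
    (x : X) (hx : x ∈ V) (y' : Y) (hy : y' ⤳ f x) :
    ∃ x' : X, x' ∈ V ∧ f x' = y' ∧ x' ⤳ x := by
  have hsq : Spec.map (f.appLE U V e) ≫ hU.fromSpec = hV.fromSpec ≫ f :=
    IsAffineOpen.SpecMap_appLE_fromSpec f hU hV e
  have hB1 : ∀ q : ↥(Spec Γ(X, V)),
      f (hV.fromSpec q) = hU.fromSpec ((Spec.map (f.appLE U V e)) q) := by
    intro q
    rw [← Scheme.Hom.comp_apply, ← Scheme.Hom.comp_apply, hsq]
  let q : ↥(Spec Γ(X, V)) := hV.primeIdealOf ⟨x, hx⟩
  have hq : hV.fromSpec q = x := hV.fromSpec_primeIdealOf ⟨x, hx⟩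
  have hfxU : f x ∈ U := e hx
  have hy'U : y' ∈ U := hy.mem_open U.2 hfxU
  let p' : ↥(Spec Γ(Y, U)) := hU.primeIdealOf ⟨y', hy'U⟩
  have hp' : hU.fromSpec p' = y' := hU.fromSpec_primeIdealOf ⟨y', hy'U⟩
  let p : ↥(Spec Γ(Y, U)) := (Spec.map (f.appLE U V e)) q
  have hp : hU.fromSpec p = f x := by rw [← hq]; exact (hB1 q).symm
  have hpp' : p' ⤳ p :=
    (hU.fromSpec.isOpenEmbedding.isInducing.specializes_iff).mp (by rw [hp', hp]; exact hy)
  have hrange : p' ∈ Set.range (PrimeSpectrum.comap (f.appLE U V e).hom) :=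
    stableUnderGeneralization_range_comap _ hloc hpp' ⟨q, rfl⟩
  obtain ⟨q'0, hq'⟩ := hrange
  let q' : ↥(Spec Γ(X, V)) := q'0
  have hq'' : (Spec.map (f.appLE U V e)) q' = p' := hq'
  refine ⟨hV.fromSpec q', ?_, ?_, ?_⟩
  · have h0 : hV.fromSpec q' ∈ Set.range hV.fromSpec := ⟨q', rfl⟩
    rw [hV.range_fromSpec] at h0
    exact h0
  · rw [hB1 q', hq'', hp']
  · rw [← hq]
    apply Specializes.map _ hV.fromSpec.continuous
    have hemb := isEmbedding_comap _ hloc
    have hsp0 : (q'0 : PrimeSpectrum Γ(X, V)) ⤳ (q : PrimeSpectrum Γ(X, V)) :=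
      (hemb.isInducing.specializes_iff).mp (by rw [hq']; exact hpp')
    exact hsp0

lemma exists_nhd_preimage_subset (f : X ⟶ Y) [IsNoetherian X]
    (hinj : Function.Injective f.base) (W : X.Opens) (x : X)
    (hgen : ∀ y' : Y, y' ⤳ f x → ∃ x' : X, x' ∈ W ∧ f x' = y') :
    ∃ U' : Y.Opens, f x ∈ U' ∧ f ⁻¹ᵁ U' ≤ W := by
  obtain ⟨T, hTfin, hTcl, hTirr, hZT⟩ :=
    NoetherianSpace.exists_finite_set_isClosed_irreducible (W.2.isClosed_compl)
  have hgp : ∀ t : Set X, t ∈ T → ∃ ξ : X, IsGenericPoint ξ t :=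
    fun t ht => QuasiSober.sober (hTirr t ht) (hTcl t ht)
  haveI : Nonempty X := ⟨x⟩
  have hZT' : (W : Set X)ᶜ = ⋃₀ T := hZT
  choose! ξ hξ using hgp
  let C : Set Y := ⋃ t ∈ T, closure {f (ξ t)}
  have hC : IsClosed C := hTfin.isClosed_biUnion (fun t _ => isClosed_closure)
  have hxC : f x ∉ C := by
    intro hmem
    simp only [C, Set.mem_iUnion] at hmem
    obtain ⟨t, ht, hmem⟩ := hmem
    have hsp : f (ξ t) ⤳ f x := specializes_iff_mem_closure.mpr hmem
    obtain ⟨x', hx'W, hx'⟩ := hgen _ hsp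
    have hx'ξ : x' = ξ t := hinj hx'
    have h1 : ξ t ∈ t := (hξ t ht).mem
    have h2 : ξ t ∈ (W : Set X)ᶜ := by rw [hZT']; exact ⟨t, ht, h1⟩
    exact h2 (hx'ξ ▸ hx'W)
  refine ⟨⟨Cᶜ, hC.isOpen_compl⟩, hxC, ?_⟩
  intro x' hx'
  by_contra hx'W
  have hx'Z : x' ∈ (W : Set X)ᶜ := hx'W
  rw [hZT'] at hx'Z
  obtain ⟨t, ht, hx't⟩ := hx'Z
  have hsp : ξ t ⤳ x' := (hξ t ht).specializes hx't
  have hsp' : f (ξ t) ⤳ f x' := hsp.map f.continuous
  have hmem : f x' ∈ C := by
    simp only [C, Set.mem_iUnion]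
    exact ⟨t, ht, specializes_iff_mem_closure.mp hsp'⟩
  exact hx' hmem

/-- shrinking lemma for a localizing immersion: every open nbhd `W` of `x` contains the preimage of
an open nbhd of `f x`. -/
lemma exists_nhd_preimage_le (f : X ⟶ Y) [IsNoetherian X] (hf : LocImm.IsLocImmersion f)
    (W : X.Opens) (x : X) (hxW : x ∈ W) :
    ∃ U' : Y.Opens, f x ∈ U' ∧ f ⁻¹ᵁ U' ≤ W := by
  obtain ⟨hloc, hinj⟩ := hf
  obtain ⟨U, V, hxV, e, hl⟩ := hloc x
  obtain ⟨U', h1, h2⟩ := exists_nhd_preimage_subset f hinj (W ⊓ V.1) x (by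
    intro y' hy'
    obtain ⟨x', hx'V, hx', hsp⟩ := gen_in_chart f U.2 V.2 e hl x hxV y' hy'
    exact ⟨x', ⟨hsp.mem_open W.2 hxW, hx'V⟩, hx'⟩)
  exact ⟨U', h1, h2.trans inf_le_left⟩

lemma isEmbedding (f : X ⟶ Y) [IsNoetherian X] (hf : LocImm.IsLocImmersion f) :
    IsEmbedding (fun x => f x) := by
  refine ⟨⟨?_⟩, hf.2⟩
  apply le_antisymm
  · exact f.continuous.le_induced
  · intro W hW
    rw [isOpen_induced_iff]
    have key : ∀ x : X, x ∈ W → ∃ W' : Y.Opens, f x ∈ W' ∧ f ⁻¹ᵁ W' ≤ ⟨W, hW⟩ :=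
      fun x hxW => exists_nhd_preimage_le f hf ⟨W, hW⟩ x hxW
    choose! W' hW'1 hW'2 using key
    refine ⟨⋃ x ∈ W, (W' x : Set Y), isOpen_biUnion (fun x _ => (W' x).2), ?_⟩
    ext z
    simp only [Set.mem_preimage, Set.mem_iUnion]
    constructor
    · rintro ⟨x, hxW, hz⟩
      exact hW'2 x hxW hz
    · intro hz
      exact ⟨z, hz, hW'1 z hz⟩

lemma stableUnderGeneralization_range (f : X ⟶ Y) (hf : LocImm.IsLocalizing f) :
    StableUnderGeneralization (Set.range (fun x => f x)) := by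
  rintro y y' hy'y ⟨x, rfl⟩
  obtain ⟨U, V, hxV, e, hl⟩ := hf x
  obtain ⟨x', -, hx', -⟩ := gen_in_chart f U.2 V.2 e hl x hxV y' hy'y
  exact ⟨x', hx'⟩

lemma isIso_stalkMap (f : X ⟶ Y) (hf : LocImm.IsLocalizing f) (x : X) : IsIso (f.stalkMap x) := by
  obtain ⟨U, V, hxV, e, hl⟩ := hf x
  exact isIso_stalkMap_of_chart f U.2 V.2 e hl x hxV

/-- in a Noetherian space a closed set stable under generization is open. -/
lemma isOpen_of_isClosed_of_stableUnderGeneralization {α : Type*} [TopologicalSpace α]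
    [NoetherianSpace α] [QuasiSober α] {C : Set α} (hC : IsClosed C)
    (hg : StableUnderGeneralization C) : IsOpen C := by
  obtain ⟨T, hTfin, hTcl, hTirr, hT⟩ :=
    NoetherianSpace.exists_finite_set_isClosed_irreducible (isClosed_univ (X := α))
  have hgp : ∀ t : Set α, t ∈ T → ∃ ξ : α, IsGenericPoint ξ t :=
    fun t ht => QuasiSober.sober (hTirr t ht) (hTcl t ht)
  have hcompl : Cᶜ = ⋃ t ∈ {t ∈ T | ∃ ξ : α, IsGenericPoint ξ t ∧ ξ ∉ C}, t := by
    ext y
    simp only [Set.mem_compl_iff, Set.mem_iUnion, Set.mem_ofPred_eq, exists_prop]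
    constructor
    · intro hy
      have hyu : y ∈ (Set.univ : Set α) := trivial
      rw [hT] at hyu
      obtain ⟨t, ht, hyt⟩ := hyu
      obtain ⟨ξ, hξ⟩ := hgp t ht
      refine ⟨t, ⟨ht, ξ, hξ, fun hξC => hy ?_⟩, hyt⟩
      have hsub : t ⊆ C := by
        rw [← hξ.def]
        exact hC.closure_subset_iff.mpr (Set.singleton_subset_iff.mpr hξC)
      exact hsub hyt
    · rintro ⟨t, ⟨ht, ξ, hξ, hξC⟩, hyt⟩ hyC
      exact hξC (hg (hξ.specializes hyt) hyC)
  rw [← isClosed_compl_iff, hcompl]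
  exact (hTfin.subset (fun t ht => ht.1)).isClosed_biUnion (fun t ht => hTcl t ht.1)

end Groth.Agent.H89.LocImmLib
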