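import Mathlib
import Groth.Agent.H89.LocImm

/-! # Localizing immersions: ring lemmas and refined charts (helper89) -/

set_option autoImplicit false
universe u

open CategoryTheory AlgebraicGeometry TopologicalSpace Topology

namespace Groth.Agent.H89.LocImmLib

section ring

variable {A A' C' : Type u} [CommRing A] [CommRing A'] [CommRing C']

lemma isLocalization_map_of_comp (α : A →+* A') (φ' : A' →+* C')
    (M : Submonoid A) (hM : letI := (φ'.comp α).toAlgebra; IsLocalization M C')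
    (H : ∀ y₁ y₂ : A', φ' y₁ = φ' y₂ → ∃ m ∈ M, α m * y₁ = α m * y₂) :
    letI := φ'.toAlgebra; IsLocalization (M.map α) C' := by
  letI i1 := (φ'.comp α).toAlgebra
  have hM' : IsLocalization M C' := hM
  letI i2 := φ'.toAlgebra
  rw [isLocalization_iff]
  refine ⟨?_, ?_, ?_⟩
  · rintro ⟨_, m, hm, rfl⟩
    exact IsLocalization.map_units C' (⟨m, hm⟩ : M)
  · intro z
    obtain ⟨⟨r, m⟩, h⟩ := IsLocalization.surj M z
    exact ⟨(α r, ⟨α m, m, m.2, rfl⟩), h⟩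
  · intro y₁ y₂ h
    obtain ⟨m, hm, h'⟩ := H y₁ y₂ h
    exact ⟨⟨α m, m, hm, rfl⟩, h'⟩

lemma isLocHom_of_comp_of_injective (α : A →+* A') (φ' : A' →+* C')
    (hinj : Function.Injective φ') (hcomp : LocImm.IsLocHom (φ'.comp α)) : LocImm.IsLocHom φ' := by
  obtain ⟨M, hM⟩ := hcomp
  refine ⟨M.map α, isLocalization_map_of_comp α φ' M hM ?_⟩
  intro y₁ y₂ h
  exact ⟨1, M.one_mem, by rw [hinj h]⟩

lemma isLocHom_of_comp_of_isLocHom (α : A →+* A') (φ' : A' →+* C')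
    (hα : LocImm.IsLocHom α) (hcomp : LocImm.IsLocHom (φ'.comp α)) : LocImm.IsLocHom φ' := by
  obtain ⟨M, hM⟩ := hcomp
  refine ⟨M.map α, isLocalization_map_of_comp α φ' M hM ?_⟩
  intro y₁ y₂ h
  obtain ⟨T, hT⟩ := hα
  letI i0 := α.toAlgebra
  have hT' : IsLocalization T A' := hT
  letI i1 := (φ'.comp α).toAlgebra
  have hM' : IsLocalization M C' := hM
  obtain ⟨⟨r₁, t₁⟩, h₁⟩ := IsLocalization.surj T y₁
  obtain ⟨⟨r₂, t₂⟩, h₂⟩ := IsLocalization.surj T y₂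
  have h₁' : y₁ * α t₁ = α r₁ := h₁
  have h₂' : y₂ * α t₂ = α r₂ := h₂
  have e : algebraMap A C' (r₁ * t₂) = algebraMap A C' (r₂ * t₁) := by
    show φ' (α (r₁ * t₂)) = φ' (α (r₂ * t₁))
    have ea : α (r₁ * t₂) = y₁ * (α t₁ * α t₂) := by rw [map_mul, ← h₁']; ring
    have eb : α (r₂ * t₁) = y₂ * (α t₁ * α t₂) := by rw [map_mul, ← h₂']; ring
    rw [ea, eb, map_mul, map_mul φ' y₂, h]
  obtain ⟨m, hm⟩ := IsLocalization.exists_of_eq (M := M) e
  refine ⟨m, m.2, ?_⟩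
  have hu₁ : IsUnit (α t₁) := IsLocalization.map_units A' t₁
  have hu₂ : IsUnit (α t₂) := IsLocalization.map_units A' t₂
  apply (hu₁.mul hu₂).mul_left_injective
  show α m * y₁ * (α t₁ * α t₂) = α m * y₂ * (α t₁ * α t₂)
  have e1 : α m * y₁ * (α t₁ * α t₂) = α (m * (r₁ * t₂)) := by
    rw [map_mul, map_mul, ← h₁']; ring
  have e2 : α m * y₂ * (α t₁ * α t₂) = α (m * (r₂ * t₁)) := by
    rw [map_mul, map_mul, ← h₂']; ring
  rw [e1, e2, hm]

lemma isLocHom_comp (α : A →+* A') (φ' : A' →+* C')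
    (hα : LocImm.IsLocHom α) (hφ : LocImm.IsLocHom φ') : LocImm.IsLocHom (φ'.comp α) := by
  obtain ⟨T, hT⟩ := hα
  obtain ⟨N, hN⟩ := hφ
  letI i0 := α.toAlgebra
  have hT' : IsLocalization T A' := hT
  letI i2 := φ'.toAlgebra
  have hN' : IsLocalization N C' := hN
  letI i1 := (φ'.comp α).toAlgebra
  haveI : IsScalarTower A A' C' := IsScalarTower.of_algebraMap_eq' rfl
  exact ⟨IsLocalization.localizationLocalizationSubmodule T N,
    IsLocalization.localization_localization_isLocalization T N C'⟩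

lemma isLocHom_of_bijective (ψ : A →+* A') (hψ : Function.Bijective ψ) : LocImm.IsLocHom ψ := by
  letI := ψ.toAlgebra
  refine ⟨⊥, ?_⟩
  rw [isLocalization_iff]
  refine ⟨?_, ?_, ?_⟩
  · rintro ⟨y, hy⟩
    rw [Submonoid.mem_bot] at hy
    subst hy
    simp
  · intro z
    obtain ⟨r, rfl⟩ := hψ.2 z
    exact ⟨(r, 1), by simp [RingHom.algebraMap_toAlgebra]⟩
  · intro x y h
    exact ⟨1, by rw [hψ.1 h]⟩

lemma isLocHom_of_away (α : A →+* A') (a : A)
    (h : letI := α.toAlgebra; IsLocalization.Away a A') : LocImm.IsLocHom α :=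
  ⟨Submonoid.powers a, h⟩

end ring

variable {X Y : Scheme.{u}}

lemma isLocHom_res_basicOpen {U : X.Opens} (hU : IsAffineOpen U) (a : Γ(X, U)) :
    LocImm.IsLocHom (X.presheaf.map (homOfLE (X.basicOpen_le a)).op).hom :=
  isLocHom_of_away _ a (hU.isLocalization_basicOpen a)

/-- G0: basic opens of a localizing chart are localizing charts. -/
lemma chart_basicOpen (f : X ⟶ Y) {U : Y.Opens} (hU : IsAffineOpen U) {V : X.Opens}
    (hV : IsAffineOpen V) (e : V ≤ f ⁻¹ᵁ U) (hloc : LocImm.IsLocHom (f.appLE U V e).hom)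
    (a : Γ(Y, U)) (e' : X.basicOpen (f.appLE U V e a) ≤ f ⁻¹ᵁ (Y.basicOpen a)) :
    LocImm.IsLocHom (f.appLE (Y.basicOpen a) (X.basicOpen (f.appLE U V e a)) e').hom := by
  have h1 : LocImm.IsLocHom
      (f.appLE U V e ≫ X.presheaf.map (homOfLE (X.basicOpen_le (f.appLE U V e a))).op).hom := by
    rw [CommRingCat.hom_comp]
    exact isLocHom_comp _ _ hloc (isLocHom_res_basicOpen hV _)
  have h2 : f.appLE U V e ≫ X.presheaf.map (homOfLE (X.basicOpen_le (f.appLE U V e a))).op =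
      Y.presheaf.map (homOfLE (Y.basicOpen_le a)).op ≫
        f.appLE (Y.basicOpen a) (X.basicOpen (f.appLE U V e a)) e' := by
    rw [Scheme.Hom.appLE_map, Scheme.Hom.map_appLE]
  rw [h2, CommRingCat.hom_comp] at h1
  exact isLocHom_of_comp_of_isLocHom _ _ (isLocHom_res_basicOpen hU a) h1

/-- injectivity inside a localizing chart -/
lemma inj_in_chart (f : X ⟶ Y) {U : Y.Opens} (hU : IsAffineOpen U) {V : X.Opens}
    (hV : IsAffineOpen V) (e : V ≤ f ⁻¹ᵁ U) (hloc : LocImm.IsLocHom (f.appLE U V e).hom)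
    (x₁ x₂ : X) (h₁ : x₁ ∈ V) (h₂ : x₂ ∈ V) (h : f x₁ = f x₂) : x₁ = x₂ := by
  have hsq : Spec.map (f.appLE U V e) ≫ hU.fromSpec = hV.fromSpec ≫ f :=
    IsAffineOpen.SpecMap_appLE_fromSpec f hU hV e
  have hB1 : ∀ q : ↥(Spec Γ(X, V)),
      f (hV.fromSpec q) = hU.fromSpec ((Spec.map (f.appLE U V e)) q) := by
    intro q
    rw [← Scheme.Hom.comp_apply, ← Scheme.Hom.comp_apply, hsq]
  let q₁ : ↥(Spec Γ(X, V)) := hV.primeIdealOf ⟨x₁, h₁⟩
  let q₂ : ↥(Spec Γ(X, V)) := hV.primeIdealOf ⟨x₂, h₂⟩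
  have hq₁ : hV.fromSpec q₁ = x₁ := hV.fromSpec_primeIdealOf ⟨x₁, h₁⟩
  have hq₂ : hV.fromSpec q₂ = x₂ := hV.fromSpec_primeIdealOf ⟨x₂, h₂⟩
  have h3 : hU.fromSpec ((Spec.map (f.appLE U V e)) q₁) =
      hU.fromSpec ((Spec.map (f.appLE U V e)) q₂) := by
    rw [← hB1, ← hB1, hq₁, hq₂, h]
  have h4 : (Spec.map (f.appLE U V e)) q₁ = (Spec.map (f.appLE U V e)) q₂ :=
    hU.fromSpec.isOpenEmbedding.injective h3
  have h5 : q₁ = q₂ := (isEmbedding_comap _ hloc).injective h4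
  rw [← hq₁, ← hq₂, h5]

/-- RC: refined chart for a localizing immersion. -/
lemma exists_refined_chart (f : X ⟶ Y) [IsNoetherian X] (hf : LocImm.IsLocImmersion f)
    (x : X) (N : Y.Opens) (hxN : f x ∈ N) :
    ∃ (W : Y.Opens) (V' : X.Opens) (_ : IsAffineOpen W) (_ : IsAffineOpen V') (_ : f x ∈ W)
      (_ : W ≤ N) (_ : V' = f ⁻¹ᵁ W) (e' : V' ≤ f ⁻¹ᵁ W), LocImm.IsLocHom (f.appLE W V' e').hom := by
  obtain ⟨U, V, hxV, e, hl⟩ := hf.1 x
  obtain ⟨U', hxU', hU'V⟩ := exists_nhd_preimage_le f hf V.1 x hxV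
  have hxU : f x ∈ U.1 := e hxV
  obtain ⟨a, ha1, ha2⟩ := U.2.exists_basicOpen_le (V := U' ⊓ N) ⟨f x, ⟨hxU', hxN⟩⟩ hxU
  have hVa : X.basicOpen (f.appLE U.1 V.1 e a) = f ⁻¹ᵁ (Y.basicOpen a) := by
    rw [Scheme.basicOpen_appLE]
    apply le_antisymm inf_le_right
    apply le_inf _ le_rfl
    intro z hz
    exact hU'V (ha1 hz).1
  have e' : X.basicOpen (f.appLE U.1 V.1 e a) ≤ f ⁻¹ᵁ (Y.basicOpen a) := hVa.le
  exact ⟨Y.basicOpen a, X.basicOpen (f.appLE U.1 V.1 e a), U.2.basicOpen a, V.2.basicOpen _, ha2,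
    ha1.trans inf_le_right, hVa, e', chart_basicOpen f U.2 V.2 e hl a e'⟩

end Groth.Agent.H89.LocImmLib
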