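import Mathlib
import Groth.Agent.H89.LocImm2

/-! # Localizing immersions: separatedness argument (helper89) -/

set_option autoImplicit false
universe u

open CategoryTheory CategoryTheory.Limits AlgebraicGeometry TopologicalSpace Topology

namespace Groth.Agent.H89.LocImmLib

lemma exists_maximal_generization {α : Type*} [TopologicalSpace α] [QuasiSober α] [T0Space α]
    (x : α) : ∃ ξ : α, ξ ⤳ x ∧ ∀ z : α, z ⤳ ξ → z = ξ := by
  obtain ⟨ξ, hξ⟩ := QuasiSober.sober (isIrreducible_irreducibleComponent (x := x))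
    isClosed_irreducibleComponent
  refine ⟨ξ, hξ.specializes mem_irreducibleComponent, fun z hz => ?_⟩
  have h1 : irreducibleComponent x ⊆ closure {z} := by
    rw [← hξ.def]
    exact closure_minimal (Set.singleton_subset_iff.mpr (specializes_iff_mem_closure.mp hz))
      isClosed_closure
  have h2 : closure {z} = irreducibleComponent x :=
    eq_irreducibleComponent (isIrreducible_singleton.closure.isPreirreducible) h1
  have hz' : IsGenericPoint z (irreducibleComponent x) := h2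
  exact hz'.eq hξ

variable {X Y : Scheme.{u}}

lemma eq_of_common_generization (f : X ⟶ Y) [IsSeparated f] (x₁ x₂ ξ : X) (hξ₁ : ξ ⤳ x₁)
    (hξ₂ : ξ ⤳ x₂) (h : f x₁ = f x₂) [IsIso (f.stalkMap x₁)] [IsIso (f.stalkMap x₂)]
    [IsIso (f.stalkMap ξ)] : x₁ = x₂ := by
  have hY₁ : f ξ ⤳ f x₁ := hξ₁.map f.continuous
  have hY₂ : f ξ ⤳ f x₂ := hξ₂.map f.continuous
  have h12 : f x₁ ⤳ f x₂ := specializes_of_eq h
  have h21 : f x₂ ⤳ f x₁ := specializes_of_eq h.symm
  let c : Y.presheaf.stalk (f x₂) ⟶ Y.presheaf.stalk (f x₁) := Y.presheaf.stalkSpecializes h12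
  let c' : Y.presheaf.stalk (f x₁) ⟶ Y.presheaf.stalk (f x₂) := Y.presheaf.stalkSpecializes h21
  have hcc' : c ≫ c' = 𝟙 _ := by
    show Y.presheaf.stalkSpecializes h12 ≫ Y.presheaf.stalkSpecializes h21 = 𝟙 _
    rw [TopCat.Presheaf.stalkSpecializes_comp]
    exact TopCat.Presheaf.stalkSpecializes_refl _ _
  have hc'c : c' ≫ c = 𝟙 _ := by
    show Y.presheaf.stalkSpecializes h21 ≫ Y.presheaf.stalkSpecializes h12 = 𝟙 _
    rw [TopCat.Presheaf.stalkSpecializes_comp]
    exact TopCat.Presheaf.stalkSpecializes_refl _ _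
  haveI : IsIso c := ⟨⟨c', hcc', hc'c⟩⟩
  let a₁ : Spec (Y.presheaf.stalk (f x₁)) ⟶ X :=
    Spec.map (inv (f.stalkMap x₁)) ≫ X.fromSpecStalk x₁
  let a₂ : Spec (Y.presheaf.stalk (f x₁)) ⟶ X :=
    Spec.map (inv (f.stalkMap x₂) ≫ c) ≫ X.fromSpecStalk x₂
  have ha₁ : a₁ ≫ f = Y.fromSpecStalk (f x₁) := by
    show (Spec.map (inv (f.stalkMap x₁)) ≫ X.fromSpecStalk x₁) ≫ f = _
    rw [Category.assoc, ← Scheme.SpecMap_stalkMap_fromSpecStalk, ← Category.assoc,
      ← Spec.map_comp, IsIso.hom_inv_id, Spec.map_id, Category.id_comp]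
  have ha₂ : a₂ ≫ f = Y.fromSpecStalk (f x₁) := by
    show (Spec.map (inv (f.stalkMap x₂) ≫ c) ≫ X.fromSpecStalk x₂) ≫ f = _
    rw [Category.assoc, ← Scheme.SpecMap_stalkMap_fromSpecStalk, ← Category.assoc,
      ← Spec.map_comp, IsIso.hom_inv_id_assoc]
    exact Scheme.SpecMap_stalkSpecializes_fromSpecStalk h12
  let b : Spec (Y.presheaf.stalk (f x₁)) ⟶ pullback f f :=
    pullback.lift a₁ a₂ (ha₁.trans ha₂.symm)
  have hb1 : b ≫ pullback.fst f f = a₁ := pullback.lift_fst _ _ _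
  have hb2 : b ≫ pullback.snd f f = a₂ := pullback.lift_snd _ _ _
  let spY₁ : Y.presheaf.stalk (f x₁) ⟶ Y.presheaf.stalk (f ξ) := Y.presheaf.stalkSpecializes hY₁
  let j : Spec (Y.presheaf.stalk (f ξ)) ⟶ Spec (Y.presheaf.stalk (f x₁)) := Spec.map spY₁
  have key1 : j ≫ a₁ = Spec.map (inv (f.stalkMap ξ)) ≫ X.fromSpecStalk ξ := by
    show Spec.map spY₁ ≫ Spec.map (inv (f.stalkMap x₁)) ≫ X.fromSpecStalk x₁ = _
    have nat := Scheme.Hom.stalkSpecializes_stalkMap f ξ x₁ hξ₁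
    have e : inv (f.stalkMap x₁) ≫ spY₁ =
        X.presheaf.stalkSpecializes hξ₁ ≫ inv (f.stalkMap ξ) := by
      rw [IsIso.inv_comp_eq, ← Category.assoc, IsIso.eq_comp_inv]
      exact nat
    rw [← Category.assoc, ← Spec.map_comp, e, Spec.map_comp, Category.assoc,
      Scheme.SpecMap_stalkSpecializes_fromSpecStalk]
  have key2 : j ≫ a₂ = Spec.map (inv (f.stalkMap ξ)) ≫ X.fromSpecStalk ξ := by
    show Spec.map spY₁ ≫ Spec.map (inv (f.stalkMap x₂) ≫ c) ≫ X.fromSpecStalk x₂ = _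
    have nat := Scheme.Hom.stalkSpecializes_stalkMap f ξ x₂ hξ₂
    have hcsp : c ≫ spY₁ = Y.presheaf.stalkSpecializes hY₂ := by
      show Y.presheaf.stalkSpecializes h12 ≫ Y.presheaf.stalkSpecializes hY₁ = _
      rw [TopCat.Presheaf.stalkSpecializes_comp]
    have e : (inv (f.stalkMap x₂) ≫ c) ≫ spY₁ =
        X.presheaf.stalkSpecializes hξ₂ ≫ inv (f.stalkMap ξ) := by
      rw [Category.assoc, hcsp, IsIso.inv_comp_eq, ← Category.assoc, IsIso.eq_comp_inv]
      exact nat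
    rw [← Category.assoc, ← Spec.map_comp, e, Spec.map_comp, Category.assoc,
      Scheme.SpecMap_stalkSpecializes_fromSpecStalk]
  have hjb : j ≫ b = (j ≫ a₁) ≫ pullback.diagonal f := by
    apply pullback.hom_ext
    · rw [Category.assoc, hb1, Category.assoc, pullback.diagonal_fst, Category.comp_id]
    · rw [Category.assoc, hb2, Category.assoc, pullback.diagonal_snd, Category.comp_id, key2, key1]
  let c₀ : ↥(Spec (Y.presheaf.stalk (f x₁))) := IsLocalRing.closedPoint (Y.presheaf.stalk (f x₁))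
  let η₀ : ↥(Spec (Y.presheaf.stalk (f ξ))) := IsLocalRing.closedPoint (Y.presheaf.stalk (f ξ))
  let η : ↥(Spec (Y.presheaf.stalk (f x₁))) := j η₀
  have hηc : η ⤳ c₀ := IsLocalRing.specializes_closedPoint η
  have hcl : IsClosedImmersion (pullback.diagonal f) := IsSeparated.isClosedImmersion_diagonal
  have hclosed : IsClosed (Set.range (pullback.diagonal f)) :=
    (pullback.diagonal f).isClosedEmbedding.isClosed_range
  have hbη : b η ∈ Set.range (pullback.diagonal f) := by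
    refine ⟨(j ≫ a₁) η₀, ?_⟩
    rw [← Scheme.Hom.comp_apply, ← hjb, Scheme.Hom.comp_apply]
  have hbc : b c₀ ∈ Set.range (pullback.diagonal f) :=
    (hηc.map b.continuous).mem_closed hclosed hbη
  obtain ⟨x₀, hx₀⟩ := hbc
  have h1 : a₁ c₀ = x₀ := by
    rw [← hb1, Scheme.Hom.comp_apply, ← hx₀, ← Scheme.Hom.comp_apply, pullback.diagonal_fst]
    rfl
  have h2 : a₂ c₀ = x₀ := by
    rw [← hb2, Scheme.Hom.comp_apply, ← hx₀, ← Scheme.Hom.comp_apply, pullback.diagonal_snd]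
    rfl
  have hp1 : a₁ c₀ = x₁ := by
    show (Spec.map (inv (f.stalkMap x₁)) ≫ X.fromSpecStalk x₁) c₀ = x₁
    rw [Scheme.Hom.comp_apply]
    have e1 : (Spec.map (inv (f.stalkMap x₁))) c₀ =
        IsLocalRing.closedPoint (X.presheaf.stalk x₁) :=
      IsLocalRing.comap_closedPoint (inv (f.stalkMap x₁)).hom
    rw [e1]
    exact Scheme.fromSpecStalk_closedPoint
  have hp2 : a₂ c₀ = x₂ := by
    show (Spec.map (inv (f.stalkMap x₂) ≫ c) ≫ X.fromSpecStalk x₂) c₀ = x₂
    rw [Scheme.Hom.comp_apply]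
    have e1 : (Spec.map (inv (f.stalkMap x₂) ≫ c)) c₀ =
        IsLocalRing.closedPoint (X.presheaf.stalk x₂) :=
      IsLocalRing.comap_closedPoint (inv (f.stalkMap x₂) ≫ c).hom
    rw [e1]
    exact Scheme.fromSpecStalk_closedPoint
  exact hp1.symm.trans (h1.trans (h2.symm.trans hp2))

end Groth.Agent.H89.LocImmLib
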