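import Mathlib
import Groth.Agent.H89.LocImm3

/-! # Localizing immersions: local open immersions and spreading out (helper89) -/

set_option autoImplicit false
universe u

open CategoryTheory CategoryTheory.Limits AlgebraicGeometry TopologicalSpace Topology

namespace Groth.Agent.H89.LocImmLib

lemma exists_preimage_ι {X : Scheme.{u}} (U : X.Opens) (x : X) (hx : x ∈ U) :
    ∃ x' : U.toScheme, U.ι x' = x := by
  have h : x ∈ Set.range U.ι := by
    rw [Scheme.Opens.range_ι]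
    exact hx
  exact h

lemma ι_mem {X : Scheme.{u}} (U : X.Opens) (x' : U.toScheme) : U.ι x' ∈ U := by
  have h : U.ι x' ∈ Set.range U.ι := ⟨x', rfl⟩
  rw [Scheme.Opens.range_ι] at h
  exact h

/-- a section of `q` over an open `U` through which an open immersion `j` factors makes `j ≫ q`
an open immersion. -/
lemma isOpenImmersion_of_section {N Z Y : Scheme.{u}} (q : Z ⟶ Y) (j : N ⟶ Z) [IsOpenImmersion j]
    (U : Y.Opens) (r : N ⟶ U.toScheme) (s : U.toScheme ⟶ Z) (hrs : r ≫ s = j)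
    (hsq : s ≫ q = U.ι) : IsOpenImmersion (j ≫ q) := by
  have hjq : j ≫ q = r ≫ U.ι := by rw [← hrs, Category.assoc, hsq]
  let U₁ : U.toScheme.Opens := s ⁻¹ᵁ j.opensRange
  have hU₁ : Set.range (U₁.ι ≫ s) ⊆ Set.range j := by
    rintro _ ⟨u, rfl⟩
    have hu : U₁.ι u ∈ U₁ := ι_mem U₁ u
    rw [Scheme.Hom.comp_apply]
    exact hu
  let t : U₁.toScheme ⟶ N := IsOpenImmersion.lift j (U₁.ι ≫ s) hU₁
  have ht : t ≫ j = U₁.ι ≫ s := IsOpenImmersion.lift_fac _ _ _
  have hr₁ : Set.range r ⊆ Set.range U₁.ι := by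
    rintro _ ⟨n, rfl⟩
    rw [Scheme.Opens.range_ι]
    show s (r n) ∈ j.opensRange
    rw [← Scheme.Hom.comp_apply, hrs]
    exact ⟨n, rfl⟩
  let r' : N ⟶ U₁.toScheme := IsOpenImmersion.lift U₁.ι r hr₁
  have hr' : r' ≫ U₁.ι = r := IsOpenImmersion.lift_fac _ _ _
  have htr : t ≫ r = U₁.ι := by
    rw [← cancel_mono U.ι, Category.assoc, ← hjq, ← Category.assoc, ht, Category.assoc, hsq]
  have h1 : t ≫ r' = 𝟙 _ := by
    rw [← cancel_mono U₁.ι, Category.assoc, hr', htr, Category.id_comp]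
  have h2 : r' ≫ t = 𝟙 _ := by
    rw [← cancel_mono j, Category.assoc, ht, ← Category.assoc, hr', hrs, Category.id_comp]
  have hiso : IsIso r' := ⟨⟨t, h2, h1⟩⟩
  rw [hjq, ← hr']
  infer_instance

/-- EGA I 6.5.4: a morphism locally of finite type between locally Noetherian schemes whose stalk
map at `z` is an isomorphism is an open immersion near `z`. -/
lemma exists_open_nhd_isOpenImmersion {Z Y : Scheme.{u}} [IsLocallyNoetherian Z]
    [IsLocallyNoetherian Y] (q : Z ⟶ Y) [LocallyOfFiniteType q] (z : Z) [IsIso (q.stalkMap z)] :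
    ∃ N : Z.Opens, z ∈ N ∧ IsOpenImmersion (N.ι ≫ q) := by
  have hφ : (Spec.map (inv (q.stalkMap z)) ≫ Z.fromSpecStalk z) ≫ q =
      Y.fromSpecStalk (q z) ≫ 𝟙 Y := by
    rw [Category.assoc, ← Scheme.SpecMap_stalkMap_fromSpecStalk, ← Category.assoc,
      ← Spec.map_comp, IsIso.hom_inv_id, Spec.map_id, Category.id_comp, Category.comp_id]
  obtain ⟨U, hyU, s, hs1, hs2⟩ := spread_out_of_isGermInjective' (𝟙 Y) q
    (Spec.map (inv (q.stalkMap z)) ≫ Z.fromSpecStalk z) hφ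
  rw [Category.comp_id] at hs2
  obtain ⟨z', rfl⟩ := exists_preimage_ι (q ⁻¹ᵁ U) z hyU
  let N₀ : Z.Opens := q ⁻¹ᵁ U
  let a : Spec (Z.presheaf.stalk (N₀.ι z')) ⟶ Z := Z.fromSpecStalk (N₀.ι z')
  let b : Spec (Y.presheaf.stalk (q (N₀.ι z'))) ⟶ Y := Y.fromSpecStalk (q (N₀.ι z'))
  let σ : Spec (Z.presheaf.stalk (N₀.ι z')) ⟶ Spec (Y.presheaf.stalk (q (N₀.ι z'))) :=
    Spec.map (q.stalkMap (N₀.ι z'))
  let σi : Spec (Y.presheaf.stalk (q (N₀.ι z'))) ⟶ Spec (Z.presheaf.stalk (N₀.ι z')) :=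
    Spec.map (inv (q.stalkMap (N₀.ι z')))
  have hσ : σ ≫ b = a ≫ q := Scheme.SpecMap_stalkMap_fromSpecStalk q
  have hσ1 : σ ≫ σi = 𝟙 _ := by
    show Spec.map (q.stalkMap (N₀.ι z')) ≫ Spec.map (inv (q.stalkMap (N₀.ι z'))) = 𝟙 _
    rw [← Spec.map_comp, IsIso.inv_hom_id, Spec.map_id]
  have hs1' : σi ≫ a = U.fromSpecStalkOfMem (q (N₀.ι z')) hyU ≫ s := hs1
  let a' : Spec (N₀.toScheme.presheaf.stalk z') ⟶ N₀.toScheme := N₀.toScheme.fromSpecStalk z'
  let τ : Spec (N₀.toScheme.presheaf.stalk z') ⟶ Spec (Z.presheaf.stalk (N₀.ι z')) :=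
    Spec.map (N₀.ι.stalkMap z')
  have hτ : τ ≫ a = a' ≫ N₀.ι := Scheme.SpecMap_stalkMap_fromSpecStalk N₀.ι
  have h1 : a' ≫ (q ∣_ U) = τ ≫ σ ≫ U.fromSpecStalkOfMem (q (N₀.ι z')) hyU := by
    rw [← cancel_mono U.ι]
    simp only [Category.assoc]
    rw [morphismRestrict_ι, Scheme.Opens.fromSpecStalkOfMem_ι, ← Category.assoc a', ← hτ,
      Category.assoc]
    exact congrArg (fun m => τ ≫ m) hσ.symm
  have hc4 : a' ≫ N₀.ι = a' ≫ (q ∣_ U) ≫ s := by
    rw [← Category.assoc, h1]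
    simp only [Category.assoc]
    rw [← hs1', ← Category.assoc σ, hσ1, Category.id_comp]
    exact hτ.symm
  obtain ⟨N₁, hzN₁, hN₁⟩ := spread_out_unique_of_isGermInjective' (x := z') N₀.ι ((q ∣_ U) ≫ s) hc4
  let j : N₁.toScheme ⟶ Z := N₁.ι ≫ N₀.ι
  let r : N₁.toScheme ⟶ U.toScheme := N₁.ι ≫ (q ∣_ U)
  have hrs : r ≫ s = j := by
    show (N₁.ι ≫ (q ∣_ U)) ≫ s = N₁.ι ≫ N₀.ι
    rw [Category.assoc, ← hN₁]
  have hopen : IsOpenImmersion (j ≫ q) := isOpenImmersion_of_section q j U r s hrs hs2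
  obtain ⟨n, hn⟩ := exists_preimage_ι N₁ z' hzN₁
  refine ⟨j.opensRange, ⟨n, ?_⟩, ?_⟩
  · show (N₁.ι ≫ N₀.ι) n = N₀.ι z'
    rw [Scheme.Hom.comp_apply, hn]
  · have h3 : j.opensRange.ι ≫ q = j.isoOpensRange.inv ≫ (j ≫ q) := by
      rw [← Category.assoc, Scheme.Hom.isoOpensRange_inv_comp]
    rw [h3]
    infer_instance

lemma isOpen_setOf_exists_isOpenImmersion {Z Y : Scheme.{u}} (q : Z ⟶ Y) :
    IsOpen {z : Z | ∃ N : Z.Opens, z ∈ N ∧ IsOpenImmersion (N.ι ≫ q)} := by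
  rw [isOpen_iff_forall_mem_open]
  rintro z ⟨N, hz, hN⟩
  exact ⟨N, fun z' hz' => ⟨N, hz', hN⟩, N.2, hz⟩

/-- restriction of a local open immersion chart to an open subscheme. -/
lemma exists_open_restrict {Z Y : Scheme.{u}} (q : Z ⟶ Y) (W₀ : Z.Opens) (w : W₀.toScheme)
    (N : Z.Opens) (hwN : W₀.ι w ∈ N) (hN : IsOpenImmersion (N.ι ≫ q)) :
    ∃ M : W₀.toScheme.Opens, w ∈ M ∧ IsOpenImmersion (M.ι ≫ W₀.ι ≫ q) := by
  let M : W₀.toScheme.Opens := W₀.ι ⁻¹ᵁ N
  have hr : Set.range (M.ι ≫ W₀.ι) ⊆ Set.range N.ι := by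
    rintro _ ⟨m, rfl⟩
    rw [Scheme.Opens.range_ι, Scheme.Hom.comp_apply]
    exact ι_mem M m
  let l : M.toScheme ⟶ N.toScheme := IsOpenImmersion.lift N.ι (M.ι ≫ W₀.ι) hr
  have hl : l ≫ N.ι = M.ι ≫ W₀.ι := IsOpenImmersion.lift_fac _ _ _
  have hlo : IsOpenImmersion l := by
    have : IsOpenImmersion (l ≫ N.ι) := by rw [hl]; infer_instance
    exact IsOpenImmersion.of_comp l N.ι
  refine ⟨M, hwN, ?_⟩
  have h2 : M.ι ≫ W₀.ι ≫ q = l ≫ (N.ι ≫ q) := by
    rw [← Category.assoc, ← hl, Category.assoc]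
  rw [h2]
  infer_instance

/-- an injective morphism which is locally on the source an open immersion is an open immersion -/
lemma isOpenImmersion_of_locally {W Y : Scheme.{u}} (g : W ⟶ Y) (hinj : Function.Injective g.base)
    (hloc : ∀ w : W, ∃ M : W.Opens, w ∈ M ∧ IsOpenImmersion (M.ι ≫ g)) : IsOpenImmersion g := by
  have hstalk : ∀ w : W, IsIso (g.stalkMap w) := by
    intro w
    obtain ⟨M, hwM, hM⟩ := hloc w
    obtain ⟨w', rfl⟩ := exists_preimage_ι M w hwM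
    have h1 : IsIso ((M.ι ≫ g).stalkMap w') := inferInstance
    rw [Scheme.Hom.stalkMap_comp] at h1
    exact @IsIso.of_isIso_comp_right _ _ _ _ _ (g.stalkMap (M.ι w')) (M.ι.stalkMap w')
      inferInstance h1
  have hopen : IsOpenMap g := by
    intro O hO
    rw [isOpen_iff_mem_nhds]
    rintro _ ⟨w, hwO, rfl⟩
    obtain ⟨M, hwM, hM⟩ := hloc w
    obtain ⟨w', rfl⟩ := exists_preimage_ι M w hwM
    have hO' : IsOpen ((M.ι ≫ g) '' (M.ι ⁻¹' O)) :=
      (M.ι ≫ g).isOpenEmbedding.isOpenMap _ (hO.preimage M.ι.continuous)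
    refine Filter.mem_of_superset (hO'.mem_nhds ⟨w', hwO, Scheme.Hom.comp_apply _ _ _⟩) ?_
    rintro _ ⟨w'', hw'', rfl⟩
    exact ⟨M.ι w'', hw'', (Scheme.Hom.comp_apply _ _ _).symm⟩
  have hemb : IsOpenEmbedding g := .of_continuous_injective_isOpenMap g.continuous hinj hopen
  exact IsOpenImmersion.of_isIso_stalkMap g hemb

/-- in a Noetherian sober space mapping densely, every maximal point of the target is in the
image. -/
lemma mem_range_of_maximal {α β : Type*} [TopologicalSpace α] [TopologicalSpace β]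
    [NoetherianSpace α] [QuasiSober α] (h : α → β) (hc : Continuous h) (hd : DenseRange h)
    (ξ : β) (hξ : ∀ z : β, z ⤳ ξ → z = ξ) : ξ ∈ Set.range h := by
  obtain ⟨T, hTfin, hTcl, hTirr, hT⟩ :=
    NoetherianSpace.exists_finite_set_isClosed_irreducible (isClosed_univ (X := α))
  have hgp : ∀ t : Set α, t ∈ T → ∃ g : α, IsGenericPoint g t :=
    fun t ht => QuasiSober.sober (hTirr t ht) (hTcl t ht)
  by_cases hne : Nonempty α
  · choose! g hg using hgp
    let C : Set β := ⋃ t ∈ T, closure {h (g t)}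
    have hC : IsClosed C := hTfin.isClosed_biUnion (fun t _ => isClosed_closure)
    have hsub : Set.range h ⊆ C := by
      rintro _ ⟨x, rfl⟩
      have hx : x ∈ (Set.univ : Set α) := trivial
      rw [hT] at hx
      obtain ⟨t, ht, hxt⟩ := hx
      have hsp : g t ⤳ x := (hg t ht).specializes hxt
      simp only [C, Set.mem_iUnion]
      exact ⟨t, ht, specializes_iff_mem_closure.mp (hsp.map hc)⟩
    have hCu : C = Set.univ := by
      apply Set.eq_univ_of_univ_subset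
      rw [← hd.closure_range]
      exact closure_minimal hsub hC
    have hξC : ξ ∈ C := hCu ▸ Set.mem_univ ξ
    simp only [C, Set.mem_iUnion] at hξC
    obtain ⟨t, ht, hmem⟩ := hξC
    exact ⟨g t, hξ _ (specializes_iff_mem_closure.mpr hmem)⟩
  · exfalso
    have hr : Set.range h = ∅ := by
      ext y
      constructor
      · rintro ⟨x, _⟩
        exact (hne ⟨x⟩).elim
      · intro hy
        exact hy.elim
    have h2 := hd.closure_range
    rw [hr, closure_empty] at h2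
    have : ξ ∈ (∅ : Set β) := h2 ▸ Set.mem_univ ξ
    exact this

lemma isNoetherian_of_isOpenImmersion {W X : Scheme.{u}} (j : W ⟶ X) [IsOpenImmersion j]
    [IsNoetherian X] : IsNoetherian W := by
  have h1 : IsLocallyNoetherian W := isLocallyNoetherian_of_isOpenImmersion j
  have h2 : NoetherianSpace W := j.isOpenEmbedding.isInducing.noetherianSpace
  exact { toIsLocallyNoetherian := h1, toCompactSpace := inferInstance }

/-- **INJ**: a separated morphism which is locally an open immersion, and such that the maximal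
points of the source come from a scheme `X` which injects into the target, is injective. -/
lemma injective_of_locally_isOpenImmersion {X W Y : Scheme.{u}} (k : X ⟶ W) (g : W ⟶ Y)
    [IsSeparated g] (hkg : Function.Injective (k ≫ g).base)
    (hmax : ∀ ξ : W, (∀ z : W, z ⤳ ξ → z = ξ) → ξ ∈ Set.range k)
    (hloc : ∀ w : W, ∃ M : W.Opens, w ∈ M ∧ IsOpenImmersion (M.ι ≫ g)) :
    Function.Injective g.base := by
  have hstalk : ∀ w : W, IsIso (g.stalkMap w) := by
    intro w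
    obtain ⟨M, hwM, hM⟩ := hloc w
    obtain ⟨w', rfl⟩ := exists_preimage_ι M w hwM
    have h1 : IsIso ((M.ι ≫ g).stalkMap w') := inferInstance
    rw [Scheme.Hom.stalkMap_comp] at h1
    exact @IsIso.of_isIso_comp_right _ _ _ _ _ (g.stalkMap (M.ι w')) (M.ι.stalkMap w')
      inferInstance h1
  -- lifting generizations through a chart
  have hlift : ∀ (w : W) (y : Y), y ⤳ g w → ∃ v : W, g v = y ∧ v ⤳ w ∧
      ∀ v' : W, v' ⤳ w → g v' = y → v' = v := by
    intro w y hy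
    obtain ⟨M, hwM, hM⟩ := hloc w
    obtain ⟨w', rfl⟩ := exists_preimage_ι M w hwM
    have hemb := (M.ι ≫ g).isOpenEmbedding
    have hyr : y ∈ Set.range (M.ι ≫ g) :=
      hy.mem_open hemb.isOpen_range ⟨w', Scheme.Hom.comp_apply _ _ _⟩
    obtain ⟨m, hm⟩ := hyr
    have hm' : g (M.ι m) = y := by rw [← Scheme.Hom.comp_apply]; exact hm
    have hsp : m ⤳ w' := by
      rw [← hemb.isInducing.specializes_iff]
      show (M.ι ≫ g) m ⤳ (M.ι ≫ g) w'
      rw [hm, Scheme.Hom.comp_apply]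
      exact hy
    refine ⟨M.ι m, hm', hsp.map M.ι.continuous, ?_⟩
    intro v' hv' hgv'
    have hv'M : v' ∈ M := hv'.mem_open M.2 (ι_mem M w')
    obtain ⟨m', rfl⟩ := exists_preimage_ι M v' hv'M
    have : m' = m := by
      apply hemb.injective
      show (M.ι ≫ g) m' = (M.ι ≫ g) m
      rw [hm, Scheme.Hom.comp_apply]
      exact hgv'
    rw [this]
  intro w w' hww'
  have hww : g w = g w' := hww'
  obtain ⟨ξ, hξw, hξmax⟩ := exists_maximal_generization w
  obtain ⟨a, ha⟩ := hmax ξ hξmax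
  -- g ξ is maximal in Y
  have hgξmax : ∀ y : Y, y ⤳ g ξ → y = g ξ := by
    intro y hy
    obtain ⟨v, hv1, hv2, -⟩ := hlift ξ y hy
    rw [← hv1, hξmax v hv2]
  have hsp' : g ξ ⤳ g w' := by
    rw [← hww]
    exact hξw.map g.continuous
  obtain ⟨ξ', hξ'1, hξ'2, hξ'3⟩ := hlift w' (g ξ) hsp'
  have hξ'max : ∀ z : W, z ⤳ ξ' → z = ξ' := by
    intro η hη
    have h1 : g η ⤳ g ξ := by
      rw [← hξ'1]
      exact hη.map g.continuous
    have h2 : g η = g ξ := hgξmax _ h1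
    exact hξ'3 η (hη.trans hξ'2) h2
  obtain ⟨a', ha'⟩ := hmax ξ' hξ'max
  have haa' : a' = a := by
    apply hkg
    show (k ≫ g) a' = (k ≫ g) a
    rw [Scheme.Hom.comp_apply, Scheme.Hom.comp_apply, ha, ha', hξ'1]
  have hξξ' : ξ' = ξ := by rw [← ha', ← ha, haa']
  rw [hξξ'] at hξ'2
  haveI := hstalk w
  haveI := hstalk w'
  haveI := hstalk ξ
  exact eq_of_common_generization g w w' ξ hξw hξ'2 hww

end Groth.Agent.H89.LocImmLib
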