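import Mathlib
import Groth.Agent.H89.LocImm4

/-! # Localizing morphisms: composition, open immersions, locality on the source (helper89) -/

set_option autoImplicit false
universe u

open CategoryTheory CategoryTheory.Limits AlgebraicGeometry TopologicalSpace Topology

namespace Groth.Agent.H89.LocImmLib

variable {X Y Z : Scheme.{u}}

/-- a localizing chart can be found inside any open neighbourhood of the image point -/
lemma exists_chart_le (f : X ⟶ Y) (hf : LocImm.IsLocalizing f) (x : X) (N : Y.Opens)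
    (hxN : f x ∈ N) :
    ∃ (U : Y.Opens) (V : X.Opens) (_ : IsAffineOpen U) (_ : IsAffineOpen V) (_ : x ∈ V)
      (_ : U ≤ N) (e : V ≤ f ⁻¹ᵁ U), LocImm.IsLocHom (f.appLE U V e).hom := by
  obtain ⟨U, V, hxV, e, hl⟩ := hf x
  have hxU : f x ∈ U.1 := e hxV
  obtain ⟨a, ha1, ha2⟩ := U.2.exists_basicOpen_le (V := N) ⟨f x, hxN⟩ hxU
  have e' : X.basicOpen (f.appLE U.1 V.1 e a) ≤ f ⁻¹ᵁ (Y.basicOpen a) := by
    rw [Scheme.basicOpen_appLE]
    exact inf_le_right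
  refine ⟨Y.basicOpen a, X.basicOpen (f.appLE U.1 V.1 e a), U.2.basicOpen a, V.2.basicOpen _,
    ?_, ha1, e', chart_basicOpen f U.2 V.2 e hl a e'⟩
  rw [Scheme.basicOpen_appLE]
  exact ⟨hxV, ha2⟩

lemma isLocalizing_of_isOpenImmersion (j : X ⟶ Y) [IsOpenImmersion j] :
    LocImm.IsLocalizing j := by
  intro x
  obtain ⟨V, hV, hxV, -⟩ := exists_isAffineOpen_mem_and_subset (x := x) (U := ⊤) trivial
  refine ⟨⟨j ''ᵁ V, hV.image_of_isOpenImmersion j⟩, ⟨V, hV⟩, hxV, (j.preimage_image_eq V).ge, ?_⟩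
  show LocImm.IsLocHom (j.appLE (j ''ᵁ V) V (j.preimage_image_eq V).ge).hom
  rw [← Scheme.Hom.appIso_hom']
  exact isLocHom_of_bijective _ ((ConcreteCategory.isIso_iff_bijective _).mp inferInstance)

lemma isLocalizing_comp (f : X ⟶ Y) (g : Y ⟶ Z) (hf : LocImm.IsLocalizing f)
    (hg : LocImm.IsLocalizing g) : LocImm.IsLocalizing (f ≫ g) := by
  intro x
  obtain ⟨U₂, V₂, hxV₂, e₂, hl₂⟩ := hg (f x)
  obtain ⟨U₁, V₁, hU₁, hV₁, hxV₁, hU₁V₂, e₁, hl₁⟩ := exists_chart_le f hf x V₂.1 hxV₂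
  have hxU₁ : f x ∈ U₁ := e₁ hxV₁
  obtain ⟨a, b, hab, hxa⟩ := exists_basicOpen_le_affine_inter hU₁ V₂.2 (f x) ⟨hxU₁, hxV₂⟩
  have eDb : Y.basicOpen b ≤ g ⁻¹ᵁ U₂.1 := (Y.basicOpen_le b).trans e₂
  have hgD : LocImm.IsLocHom (g.appLE U₂.1 (Y.basicOpen b) eDb).hom := by
    have h1 : g.appLE U₂.1 (Y.basicOpen b) eDb =
        g.appLE U₂.1 V₂.1 e₂ ≫ Y.presheaf.map (homOfLE (Y.basicOpen_le b)).op := by
      rw [Scheme.Hom.appLE_map]
    rw [h1, CommRingCat.hom_comp]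
    exact isLocHom_comp _ _ hl₂ (isLocHom_res_basicOpen V₂.2 b)
  have eDa : Y.basicOpen a ≤ g ⁻¹ᵁ U₂.1 := hab ▸ eDb
  have hgD' : LocImm.IsLocHom (g.appLE U₂.1 (Y.basicOpen a) eDa).hom := by
    have : ∀ (D : Y.Opens) (_ : D = Y.basicOpen b) (e : D ≤ g ⁻¹ᵁ U₂.1),
        LocImm.IsLocHom (g.appLE U₂.1 D e).hom := by
      rintro D rfl e
      exact hgD
    exact this _ hab eDa
  have e' : X.basicOpen (f.appLE U₁ V₁ e₁ a) ≤ f ⁻¹ᵁ (Y.basicOpen a) := by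
    rw [Scheme.basicOpen_appLE]
    exact inf_le_right
  have hfD := chart_basicOpen f hU₁ hV₁ e₁ hl₁ a e'
  have e'' : X.basicOpen (f.appLE U₁ V₁ e₁ a) ≤ (f ≫ g) ⁻¹ᵁ U₂.1 := fun z hz => eDa (e' hz)
  refine ⟨U₂, ⟨X.basicOpen (f.appLE U₁ V₁ e₁ a), hV₁.basicOpen _⟩, ?_, e'', ?_⟩
  · show x ∈ X.basicOpen (f.appLE U₁ V₁ e₁ a)
    rw [Scheme.basicOpen_appLE]
    exact ⟨hxV₁, hxa⟩
  · have h2 := Scheme.Hom.appLE_comp_appLE f g U₂.1 (Y.basicOpen a)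
      (X.basicOpen (f.appLE U₁ V₁ e₁ a)) eDa e'
    show LocImm.IsLocHom ((f ≫ g).appLE U₂.1 (X.basicOpen (f.appLE U₁ V₁ e₁ a)) e'').hom
    have h3 : (f ≫ g).appLE U₂.1 (X.basicOpen (f.appLE U₁ V₁ e₁ a)) e'' =
        g.appLE U₂.1 (Y.basicOpen a) eDa ≫
          f.appLE (Y.basicOpen a) (X.basicOpen (f.appLE U₁ V₁ e₁ a)) e' := h2.symm
    rw [h3, CommRingCat.hom_comp]
    exact isLocHom_comp _ _ hgD' hfD

lemma isLocalizing_of_comp_isOpenImmersion (k : X ⟶ Y) (j : Y ⟶ Z) [IsOpenImmersion j]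
    (h : LocImm.IsLocalizing (k ≫ j)) : LocImm.IsLocalizing k := by
  intro x
  obtain ⟨U, V, hU, hV, hxV, hUN, e, hl⟩ :=
    exists_chart_le (k ≫ j) h x j.opensRange ⟨k x, Scheme.Hom.comp_apply _ _ _⟩
  let U' : Y.Opens := j ⁻¹ᵁ U
  have hU' : IsAffineOpen U' := hU.preimage_of_isOpenImmersion j hUN
  have e1 : U' ≤ j ⁻¹ᵁ U := le_rfl
  have e2 : V ≤ k ⁻¹ᵁ U' := e
  have hcomp : j.appLE U U' e1 ≫ k.appLE U' V e2 = (k ≫ j).appLE U V e :=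
    Scheme.Hom.appLE_comp_appLE k j U U' V e1 e2
  have hiso : IsIso (j.appLE U U' e1) := by
    have h1 : j.appLE U U' e1 = j.app U := (Scheme.Hom.app_eq_appLE (f := j)).symm
    rw [h1]
    exact j.isIso_app U hUN
  refine ⟨⟨U', hU'⟩, ⟨V, hV⟩, hxV, e2, ?_⟩
  have hbij : Function.Bijective (j.appLE U U' e1).hom :=
    (ConcreteCategory.isIso_iff_bijective _).mp hiso
  rw [← hcomp, CommRingCat.hom_comp] at hl
  exact isLocHom_of_comp_of_isLocHom _ _ (isLocHom_of_bijective _ hbij) hl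

lemma isLocalizing_of_forall_exists_open (f : X ⟶ Y)
    (h : ∀ x : X, ∃ U : X.Opens, x ∈ U ∧ LocImm.IsLocalizing (U.ι ≫ f)) :
    LocImm.IsLocalizing f := by
  intro x
  obtain ⟨U, hxU, hU⟩ := h x
  obtain ⟨x', rfl⟩ := exists_preimage_ι U x hxU
  obtain ⟨U', V, hx'V, e, hl⟩ := hU x'
  let V'' : X.Opens := U.ι ''ᵁ V.1
  have hV'' : IsAffineOpen V'' := V.2.image_of_isOpenImmersion U.ι
  have e1 : V.1 ≤ U.ι ⁻¹ᵁ V'' := (U.ι.preimage_image_eq V.1).ge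
  have e2 : V'' ≤ f ⁻¹ᵁ U'.1 := by
    rintro _ ⟨v, hv, rfl⟩
    exact e hv
  have hcomp : f.appLE U'.1 V'' e2 ≫ U.ι.appLE V'' V.1 e1 = (U.ι ≫ f).appLE U'.1 V.1 e :=
    Scheme.Hom.appLE_comp_appLE U.ι f U'.1 V'' V.1 e2 e1
  have hiso : IsIso (U.ι.appLE V'' V.1 e1) := by
    have h1 : U.ι.appLE V'' V.1 e1 = (U.ι.appIso V.1).hom := (Scheme.Hom.appIso_hom' U.ι V.1).symm
    rw [h1]
    infer_instance
  refine ⟨U', ⟨V'', hV''⟩, ⟨x', hx'V, rfl⟩, e2, ?_⟩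
  have h3 : f.appLE U'.1 V'' e2 =
      (U.ι ≫ f).appLE U'.1 V.1 e ≫ inv (U.ι.appLE V'' V.1 e1) := by
    rw [← hcomp, Category.assoc, IsIso.hom_inv_id, Category.comp_id]
  show LocImm.IsLocHom (f.appLE U'.1 V'' e2).hom
  rw [h3, CommRingCat.hom_comp]
  exact isLocHom_comp _ _ hl
    (isLocHom_of_bijective _ ((ConcreteCategory.isIso_iff_bijective _).mp inferInstance))

lemma isLocImmersion_comp (f : X ⟶ Y) (g : Y ⟶ Z) (hf : LocImm.IsLocImmersion f)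
    (hg : LocImm.IsLocImmersion g) : LocImm.IsLocImmersion (f ≫ g) := by
  refine ⟨isLocalizing_comp f g hf.1 hg.1, ?_⟩
  intro a b hab
  exact hf.2 (hg.2 hab)

lemma isLocImmersion_of_isOpenImmersion (j : X ⟶ Y) [IsOpenImmersion j] :
    LocImm.IsLocImmersion j :=
  ⟨isLocalizing_of_isOpenImmersion j, j.isOpenEmbedding.injective⟩

lemma isLocImmersion_of_comp_isOpenImmersion (k : X ⟶ Y) (j : Y ⟶ Z) [IsOpenImmersion j]
    (h : LocImm.IsLocImmersion (k ≫ j)) : LocImm.IsLocImmersion k := by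
  refine ⟨isLocalizing_of_comp_isOpenImmersion k j h.1, ?_⟩
  intro a b hab
  apply h.2
  show (k ≫ j) a = (k ≫ j) b
  rw [Scheme.Hom.comp_apply, Scheme.Hom.comp_apply]
  exact congrArg (fun y => j y) hab

end Groth.Agent.H89.LocImmLib
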