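import Mathlib
import Groth.Agent.H89.LocImm5
import Groth.Agent.S18195

/-! # Two finite type ambient schemes of a localizing immersion share an open (helper89) -/

set_option autoImplicit false
universe u

open CategoryTheory CategoryTheory.Limits AlgebraicGeometry TopologicalSpace Topology

namespace Groth.Agent.H89.LocImmLib

theorem exists_common_open {X Y₁ Y₂ S : Scheme.{u}} [IsNoetherian X] [IsNoetherian Y₁]
    [IsNoetherian Y₂] (f₁ : X ⟶ Y₁) (f₂ : X ⟶ Y₂) (π₁ : Y₁ ⟶ S) (π₂ : Y₂ ⟶ S)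
    (hf₁ : LocImm.IsLocImmersion f₁) (hf₂ : LocImm.IsLocImmersion f₂)
    [IsSeparated π₁] [IsSeparated π₂] [LocallyOfFiniteType π₁] [LocallyOfFiniteType π₂]
    (h : f₁ ≫ π₁ = f₂ ≫ π₂) :
    ∃ (W : Scheme.{u}) (k : X ⟶ W) (g₁ : W ⟶ Y₁) (g₂ : W ⟶ Y₂), IsNoetherian W ∧
      LocImm.IsLocImmersion k ∧ IsOpenImmersion g₁ ∧ IsOpenImmersion g₂ ∧
      g₁ ≫ π₁ = g₂ ≫ π₂ ∧ k ≫ g₁ = f₁ ∧ k ≫ g₂ = f₂ ∧
      (∀ ξ : W, (∀ z : W, z ⤳ ξ → z = ξ) → ξ ∈ Set.range k) := by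
  let γ : X ⟶ pullback π₁ π₂ := pullback.lift f₁ f₂ h
  let γ' : X ⟶ γ.image := γ.toImage
  let ι : γ.image ⟶ pullback π₁ π₂ := γ.imageι
  have hγ : γ' ≫ ι = γ := γ.toImage_imageι
  let q₁ : γ.image ⟶ Y₁ := ι ≫ pullback.fst π₁ π₂
  let q₂ : γ.image ⟶ Y₂ := ι ≫ pullback.snd π₁ π₂
  have hq₁ : γ' ≫ q₁ = f₁ := by
    show γ' ≫ ι ≫ pullback.fst π₁ π₂ = f₁
    rw [← Category.assoc, hγ]
    exact pullback.lift_fst _ _ _
  have hq₂ : γ' ≫ q₂ = f₂ := by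
    show γ' ≫ ι ≫ pullback.snd π₁ π₂ = f₂
    rw [← Category.assoc, hγ]
    exact pullback.lift_snd _ _ _
  haveI hsep₁ : IsSeparated q₁ := by
    show IsSeparated (ι ≫ pullback.fst π₁ π₂)
    infer_instance
  haveI hsep₂ : IsSeparated q₂ := by
    show IsSeparated (ι ≫ pullback.snd π₁ π₂)
    infer_instance
  haveI hlft₁ : LocallyOfFiniteType q₁ := by
    show LocallyOfFiniteType (ι ≫ pullback.fst π₁ π₂)
    infer_instance
  haveI hlft₂ : LocallyOfFiniteType q₂ := by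
    show LocallyOfFiniteType (ι ≫ pullback.snd π₁ π₂)
    infer_instance
  haveI hlocN : IsLocallyNoetherian γ.image := LocallyOfFiniteType.isLocallyNoetherian q₁
  haveI hcP : CompactSpace ↥(pullback π₁ π₂) := inferInstance
  haveI hcZ : CompactSpace ↥γ.image := ι.isClosedEmbedding.compactSpace
  haveI hNZ : IsNoetherian γ.image := { }
  -- schematic density
  have hd : ∀ U : γ.image.Opens, Function.Injective (γ'.app U).hom := by
    intro U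
    exact TopCat.Presheaf.app_injective_of_stalkFunctor_map_injective (F := γ.image.sheaf)
      γ'.c U (fun x _ => γ.stalkFunctor_toImage_injective x)
  have hγ'loc : LocImm.IsLocImmersion γ' := by
    have hfg : LocImm.IsLocImmersion (γ' ≫ q₁) := by rw [hq₁]; exact hf₁
    exact Groth.Agent.S18195.result γ' q₁ hfg hd
  have hiso : ∀ (Y : Scheme.{u}) (q : γ.image ⟶ Y) (f : X ⟶ Y), γ' ≫ q = f →
      LocImm.IsLocalizing f → ∀ x : X, IsIso (q.stalkMap (γ' x)) := by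
    intro Y q f hq hf x
    have h1 : IsIso ((γ' ≫ q).stalkMap x) := by
      have : LocImm.IsLocalizing (γ' ≫ q) := by rw [hq]; exact hf
      exact isIso_stalkMap _ this x
    have h2 : IsIso (γ'.stalkMap x) := isIso_stalkMap _ hγ'loc.1 x
    rw [Scheme.Hom.stalkMap_comp] at h1
    exact @IsIso.of_isIso_comp_right _ _ _ _ _ (q.stalkMap (γ' x)) (γ'.stalkMap x) h2 h1
  let O₁ : Set γ.image := {z | ∃ N : γ.image.Opens, z ∈ N ∧ IsOpenImmersion (N.ι ≫ q₁)}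
  let O₂ : Set γ.image := {z | ∃ N : γ.image.Opens, z ∈ N ∧ IsOpenImmersion (N.ι ≫ q₂)}
  let W₀ : γ.image.Opens := ⟨O₁ ∩ O₂, (isOpen_setOf_exists_isOpenImmersion q₁).inter
    (isOpen_setOf_exists_isOpenImmersion q₂)⟩
  have hγ'W₀ : ∀ x : X, γ' x ∈ W₀ := by
    intro x
    haveI := hiso Y₁ q₁ f₁ hq₁ hf₁.1 x
    haveI := hiso Y₂ q₂ f₂ hq₂ hf₂.1 x
    exact ⟨exists_open_nhd_isOpenImmersion q₁ (γ' x), exists_open_nhd_isOpenImmersion q₂ (γ' x)⟩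
  have hrange : Set.range γ' ⊆ Set.range W₀.ι := by
    rintro _ ⟨x, rfl⟩
    rw [Scheme.Opens.range_ι]
    exact hγ'W₀ x
  let k : X ⟶ W₀.toScheme := IsOpenImmersion.lift W₀.ι γ' hrange
  have hk : k ≫ W₀.ι = γ' := IsOpenImmersion.lift_fac _ _ _
  let g₁ : W₀.toScheme ⟶ Y₁ := W₀.ι ≫ q₁
  let g₂ : W₀.toScheme ⟶ Y₂ := W₀.ι ≫ q₂
  have hkg₁ : k ≫ g₁ = f₁ := by
    show k ≫ W₀.ι ≫ q₁ = f₁
    rw [← Category.assoc, hk, hq₁]
  have hkg₂ : k ≫ g₂ = f₂ := by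
    show k ≫ W₀.ι ≫ q₂ = f₂
    rw [← Category.assoc, hk, hq₂]
  have hkloc : LocImm.IsLocImmersion k :=
    isLocImmersion_of_comp_isOpenImmersion k W₀.ι (by rw [hk]; exact hγ'loc)
  haveI hNW : IsNoetherian W₀.toScheme := isNoetherian_of_isOpenImmersion W₀.ι
  -- maximal points
  have hmax : ∀ ξ : W₀.toScheme, (∀ z : W₀.toScheme, z ⤳ ξ → z = ξ) → ξ ∈ Set.range k := by
    intro ξ hξ
    have hξ' : ∀ z : γ.image, z ⤳ W₀.ι ξ → z = W₀.ι ξ := by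
      intro z hz
      have hzW : z ∈ W₀ := hz.mem_open W₀.2 (ι_mem W₀ ξ)
      obtain ⟨z', rfl⟩ := exists_preimage_ι W₀ z hzW
      have : z' ⤳ ξ := W₀.ι.isOpenEmbedding.isInducing.specializes_iff.mp hz
      rw [hξ z' this]
    have hdense : DenseRange γ' := IsDominant.denseRange
    obtain ⟨a, ha⟩ := mem_range_of_maximal γ' γ'.continuous hdense (W₀.ι ξ) hξ'
    refine ⟨a, ?_⟩
    apply W₀.ι.isOpenEmbedding.injective
    rw [← Scheme.Hom.comp_apply, hk]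
    exact ha
  haveI hsg₁ : IsSeparated g₁ := by
    show IsSeparated (W₀.ι ≫ q₁)
    infer_instance
  haveI hsg₂ : IsSeparated g₂ := by
    show IsSeparated (W₀.ι ≫ q₂)
    infer_instance
  have hloc₁ : ∀ w : W₀.toScheme, ∃ M : W₀.toScheme.Opens, w ∈ M ∧ IsOpenImmersion (M.ι ≫ g₁) := by
    intro w
    obtain ⟨N, hwN, hN⟩ := (ι_mem W₀ w).1
    exact exists_open_restrict q₁ W₀ w N hwN hN
  have hloc₂ : ∀ w : W₀.toScheme, ∃ M : W₀.toScheme.Opens, w ∈ M ∧ IsOpenImmersion (M.ι ≫ g₂) := by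
    intro w
    obtain ⟨N, hwN, hN⟩ := (ι_mem W₀ w).2
    exact exists_open_restrict q₂ W₀ w N hwN hN
  have hinj₁ : Function.Injective g₁.base :=
    injective_of_locally_isOpenImmersion k g₁ (by rw [hkg₁]; exact hf₁.2) hmax hloc₁
  have hinj₂ : Function.Injective g₂.base :=
    injective_of_locally_isOpenImmersion k g₂ (by rw [hkg₂]; exact hf₂.2) hmax hloc₂
  refine ⟨W₀.toScheme, k, g₁, g₂, hNW, hkloc, isOpenImmersion_of_locally g₁ hinj₁ hloc₁,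
    isOpenImmersion_of_locally g₂ hinj₂ hloc₂, ?_, hkg₁, hkg₂, hmax⟩
  show (W₀.ι ≫ ι ≫ pullback.fst π₁ π₂) ≫ π₁ = (W₀.ι ≫ ι ≫ pullback.snd π₁ π₂) ≫ π₂
  simp only [Category.assoc]
  rw [pullback.condition]

end Groth.Agent.H89.LocImmLib
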