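import Mathlib
import Groth.Agent.H89.LocImm6

/-! # Gluing two schemes along a common open; auxiliary topology (helper89) -/

set_option autoImplicit false
universe u

open CategoryTheory CategoryTheory.Limits AlgebraicGeometry TopologicalSpace Topology

namespace Groth.Agent.H89.LocImmLib

section Pushout

variable {W Y₁ Y₂ : Scheme.{u}} (g₁ : W ⟶ Y₁) (g₂ : W ⟶ Y₂) [IsOpenImmersion g₁]
  [IsOpenImmersion g₂]

instance span_isOpenImmersion : ∀ {i j : WalkingSpan} (f : i ⟶ j),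
    IsOpenImmersion ((span g₁ g₂).map f) := by
  intro i j f
  change WidePushoutShape.Hom i j at f
  cases f with
  | id =>
    have : (span g₁ g₂).map (WidePushoutShape.Hom.id i) = 𝟙 _ := (span g₁ g₂).map_id i
    rw [this]; infer_instance
  | init j =>
    cases j
    · show IsOpenImmersion g₁; infer_instance
    · show IsOpenImmersion g₂; infer_instance

instance hasPushout_of_isOpenImmersion : HasPushout g₁ g₂ := by
  show HasColimit (span g₁ g₂)
  infer_instance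

instance isOpenImmersion_inl : IsOpenImmersion (pushout.inl g₁ g₂) := by
  show IsOpenImmersion (colimit.ι (span g₁ g₂) WalkingSpan.left)
  infer_instance

instance isOpenImmersion_inr : IsOpenImmersion (pushout.inr g₁ g₂) := by
  show IsOpenImmersion (colimit.ι (span g₁ g₂) WalkingSpan.right)
  infer_instance

lemma inl_eq_inr_iff (y₁ : Y₁) (y₂ : Y₂) :
    pushout.inl g₁ g₂ y₁ = pushout.inr g₁ g₂ y₂ ↔ ∃ w : W, g₁ w = y₁ ∧ g₂ w = y₂ := by
  have := Scheme.IsLocallyDirected.ι_eq_ι_iff (span g₁ g₂) (i := WalkingSpan.left)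
    (j := WalkingSpan.right) (xi := y₁) (xj := y₂)
  constructor
  · intro h
    obtain ⟨k, fi, fj, x, hx1, hx2⟩ := this.mp h
    change WidePushoutShape.Hom k WalkingSpan.left at fi
    change WidePushoutShape.Hom k WalkingSpan.right at fj
    cases fi with
    | id => cases fj
    | init j =>
      cases fj
      exact ⟨x, hx1, hx2⟩
  · rintro ⟨w, rfl, rfl⟩
    rw [← Scheme.Hom.comp_apply, ← Scheme.Hom.comp_apply, pushout.condition]

lemma inl_or_inr (y : ↥(pushout g₁ g₂)) :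
    (∃ y₁ : Y₁, pushout.inl g₁ g₂ y₁ = y) ∨ (∃ y₂ : Y₂, pushout.inr g₁ g₂ y₂ = y) := by
  obtain ⟨i, xi, h⟩ := Scheme.IsLocallyDirected.ι_jointly_surjective (span g₁ g₂) y
  match i, xi, h with
  | none, xi, h =>
    left
    have hw : (span g₁ g₂).map WalkingSpan.Hom.fst ≫ colimit.ι (span g₁ g₂) WalkingSpan.left =
        colimit.ι (span g₁ g₂) WalkingSpan.zero := colimit.w _ _
    refine ⟨((span g₁ g₂).map WalkingSpan.Hom.fst) xi, ?_⟩
    rw [← h]
    show (pushout.inl g₁ g₂) (((span g₁ g₂).map WalkingSpan.Hom.fst) xi) =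
      (colimit.ι (span g₁ g₂) WalkingSpan.zero) xi
    rw [← hw, Scheme.Hom.comp_apply]
    rfl
  | some WalkingPair.left, xi, h => exact Or.inl ⟨xi, h⟩
  | some WalkingPair.right, xi, h => exact Or.inr ⟨xi, h⟩

end Pushout

section Glue2

variable {X Y : Scheme.{u}}

lemma fst_comp_eq_snd_comp (A B C : X.Opens) (hCA : C ≤ A) (hCB : C ≤ B) (hC : A ⊓ B ≤ C)
    (FA : A.toScheme ⟶ Y) (FB : B.toScheme ⟶ Y)
    (h : X.homOfLE hCA ≫ FA = X.homOfLE hCB ≫ FB) :
    pullback.fst A.ι B.ι ≫ FA = pullback.snd A.ι B.ι ≫ FB := by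
  have hr : Set.range (pullback.fst A.ι B.ι ≫ A.ι) ⊆ Set.range C.ι := by
    rintro _ ⟨z, rfl⟩
    rw [Scheme.Opens.range_ι]
    apply hC
    refine ⟨?_, ?_⟩
    · rw [Scheme.Hom.comp_apply]
      exact ι_mem A _
    · rw [pullback.condition, Scheme.Hom.comp_apply]
      exact ι_mem B _
  let θ := IsOpenImmersion.lift C.ι (pullback.fst A.ι B.ι ≫ A.ι) hr
  have hθ : θ ≫ C.ι = pullback.fst A.ι B.ι ≫ A.ι := IsOpenImmersion.lift_fac _ _ _
  have h1 : θ ≫ X.homOfLE hCA = pullback.fst A.ι B.ι := by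
    rw [← cancel_mono A.ι, Category.assoc, Scheme.homOfLE_ι, hθ]
  have h2 : θ ≫ X.homOfLE hCB = pullback.snd A.ι B.ι := by
    rw [← cancel_mono B.ι, Category.assoc, Scheme.homOfLE_ι, hθ, pullback.condition]
  rw [← h1, ← h2, Category.assoc, Category.assoc, h]

lemma exists_glue_two (U₁ U₂ : X.Opens) (hU : U₁ ⊔ U₂ = ⊤)
    (F₁ : U₁.toScheme ⟶ Y) (F₂ : U₂.toScheme ⟶ Y)
    (hF : X.homOfLE (inf_le_left : U₁ ⊓ U₂ ≤ U₁) ≫ F₁ =
      X.homOfLE (inf_le_right : U₁ ⊓ U₂ ≤ U₂) ≫ F₂) :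
    ∃ F : X ⟶ Y, U₁.ι ≫ F = F₁ ∧ U₂.ι ≫ F = F₂ := by
  let Uc : Bool → X.Opens := fun b => cond b U₁ U₂
  have hUc : IsOpenCover Uc := IsOpenCover.mk (by rw [iSup_bool_eq]; exact hU)
  let 𝒰 : X.OpenCover := X.openCoverOfIsOpenCover Uc hUc
  let Fc : ∀ b : Bool, 𝒰.X b ⟶ Y := fun b => match b with
    | true => F₁
    | false => F₂
  have hcompat : ∀ x y : Bool, pullback.fst (𝒰.f x) (𝒰.f y) ≫ Fc x =
      pullback.snd (𝒰.f x) (𝒰.f y) ≫ Fc y := by
    intro x y
    match x, y with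
    | true, true =>
      show pullback.fst U₁.ι U₁.ι ≫ F₁ = pullback.snd U₁.ι U₁.ι ≫ F₁
      have : pullback.fst U₁.ι U₁.ι = pullback.snd U₁.ι U₁.ι := by
        rw [← cancel_mono U₁.ι]
        exact pullback.condition
      rw [this]
    | false, false =>
      show pullback.fst U₂.ι U₂.ι ≫ F₂ = pullback.snd U₂.ι U₂.ι ≫ F₂
      have : pullback.fst U₂.ι U₂.ι = pullback.snd U₂.ι U₂.ι := by
        rw [← cancel_mono U₂.ι]
        exact pullback.condition
      rw [this]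
    | true, false =>
      show pullback.fst U₁.ι U₂.ι ≫ F₁ = pullback.snd U₁.ι U₂.ι ≫ F₂
      exact fst_comp_eq_snd_comp U₁ U₂ (U₁ ⊓ U₂) inf_le_left inf_le_right le_rfl F₁ F₂ hF
    | false, true =>
      show pullback.fst U₂.ι U₁.ι ≫ F₂ = pullback.snd U₂.ι U₁.ι ≫ F₁
      exact fst_comp_eq_snd_comp U₂ U₁ (U₁ ⊓ U₂) inf_le_right inf_le_left
        (by rw [inf_comm]) F₂ F₁ hF.symm
  refine ⟨𝒰.glueMorphisms Fc hcompat, ?_, ?_⟩
  · exact 𝒰.ι_glueMorphisms Fc hcompat true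
  · exact 𝒰.ι_glueMorphisms Fc hcompat false

lemma hom_ext_two (U₁ U₂ : X.Opens) (hU : U₁ ⊔ U₂ = ⊤) (F G : X ⟶ Y)
    (h₁ : U₁.ι ≫ F = U₁.ι ≫ G) (h₂ : U₂.ι ≫ F = U₂.ι ≫ G) : F = G := by
  let Uc : Bool → X.Opens := fun b => cond b U₁ U₂
  have hUc : IsOpenCover Uc := IsOpenCover.mk (by rw [iSup_bool_eq]; exact hU)
  let 𝒰 : X.OpenCover := X.openCoverOfIsOpenCover Uc hUc
  refine 𝒰.hom_ext F G ?_
  intro b
  match b with
  | true => exact h₁
  | false => exact h₂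

end Glue2

section Topology

lemma exists_specializes_of_mem_closure_range {α β : Type*} [TopologicalSpace α]
    [TopologicalSpace β] [NoetherianSpace α] [QuasiSober α] (h : α → β) (hc : Continuous h)
    (t : β) (ht : t ∈ closure (Set.range h)) : ∃ a : α, h a ⤳ t := by
  obtain ⟨T, hTfin, hTcl, hTirr, hT⟩ :=
    NoetherianSpace.exists_finite_set_isClosed_irreducible (isClosed_univ (X := α))
  have hgp : ∀ s : Set α, s ∈ T → ∃ g : α, IsGenericPoint g s :=
    fun s hs => QuasiSober.sober (hTirr s hs) (hTcl s hs)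
  by_cases hne : Nonempty α
  · choose! g hg using hgp
    let C : Set β := ⋃ s ∈ T, closure {h (g s)}
    have hC : IsClosed C := hTfin.isClosed_biUnion (fun s _ => isClosed_closure)
    have hsub : Set.range h ⊆ C := by
      rintro _ ⟨x, rfl⟩
      have hx : x ∈ (Set.univ : Set α) := trivial
      rw [hT] at hx
      obtain ⟨s, hs, hxs⟩ := hx
      have hsp : g s ⤳ x := (hg s hs).specializes hxs
      simp only [C, Set.mem_iUnion]
      exact ⟨s, hs, specializes_iff_mem_closure.mp (hsp.map hc)⟩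
    have htC : t ∈ C := closure_minimal hsub hC ht
    simp only [C, Set.mem_iUnion] at htC
    obtain ⟨s, hs, hmem⟩ := htC
    exact ⟨g s, specializes_iff_mem_closure.mpr hmem⟩
  · exfalso
    have hr : Set.range h = ∅ := by
      ext y
      constructor
      · rintro ⟨x, _⟩
        exact (hne ⟨x⟩).elim
      · intro hy
        exact hy.elim
    rw [hr, closure_empty] at ht
    exact ht

lemma exists_opens_avoiding {P Y₁ Y₂ : Type*} [TopologicalSpace P] [TopologicalSpace Y₁]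
    [TopologicalSpace Y₂] [NoetherianSpace P] [QuasiSober P] (T : Set P) (hT : IsClosed T)
    (π₁ : P → Y₁) (π₂ : P → Y₂) (hπ₁ : Continuous π₁) (hπ₂ : Continuous π₂)
    (R₁ : Set Y₁) (R₂ : Set Y₂) (hR₁ : StableUnderGeneralization R₁)
    (hR₂ : StableUnderGeneralization R₂) (hbad : ∀ t ∈ T, π₁ t ∉ R₁ ∨ π₂ t ∉ R₂) :
    ∃ (O₁ : Set Y₁) (O₂ : Set Y₂), IsOpen O₁ ∧ IsOpen O₂ ∧ R₁ ⊆ O₁ ∧ R₂ ⊆ O₂ ∧
      ∀ t ∈ T, π₁ t ∉ O₁ ∨ π₂ t ∉ O₂ := by
  obtain ⟨Ts, hfin, hcl, hirr, hTs⟩ := NoetherianSpace.exists_finite_set_isClosed_irreducible hT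
  have hgp : ∀ s : Set P, s ∈ Ts → ∃ g : P, IsGenericPoint g s :=
    fun s hs => QuasiSober.sober (hirr s hs) (hcl s hs)
  by_cases hne : Nonempty P
  · choose! γ hγ using hgp
    let J₁ : Set (Set P) := {s | s ∈ Ts ∧ π₁ (γ s) ∉ R₁}
    let J₂ : Set (Set P) := {s | s ∈ Ts ∧ π₂ (γ s) ∉ R₂}
    have hJ₁ : J₁.Finite := hfin.subset (fun s hs => hs.1)
    have hJ₂ : J₂.Finite := hfin.subset (fun s hs => hs.1)
    let C₁ : Set Y₁ := ⋃ s ∈ J₁, closure {π₁ (γ s)}
    let C₂ : Set Y₂ := ⋃ s ∈ J₂, closure {π₂ (γ s)}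
    have hC₁ : IsClosed C₁ := hJ₁.isClosed_biUnion (fun s _ => isClosed_closure)
    have hC₂ : IsClosed C₂ := hJ₂.isClosed_biUnion (fun s _ => isClosed_closure)
    refine ⟨C₁ᶜ, C₂ᶜ, hC₁.isOpen_compl, hC₂.isOpen_compl, ?_, ?_, ?_⟩
    · intro y hy hyC
      simp only [C₁, Set.mem_iUnion] at hyC
      obtain ⟨s, hs, hmem⟩ := hyC
      exact hs.2 (hR₁ (specializes_iff_mem_closure.mpr hmem) hy)
    · intro y hy hyC
      simp only [C₂, Set.mem_iUnion] at hyC
      obtain ⟨s, hs, hmem⟩ := hyC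
      exact hs.2 (hR₂ (specializes_iff_mem_closure.mpr hmem) hy)
    · intro t ht
      rw [hTs] at ht
      obtain ⟨s, hs, hts⟩ := ht
      have hsp : γ s ⤳ t := (hγ s hs).specializes hts
      have hγT : γ s ∈ T := by
        rw [hTs]
        exact ⟨s, hs, (hγ s hs).mem⟩
      rcases hbad (γ s) hγT with h1 | h2
      · left
        intro hO
        apply hO
        simp only [C₁, Set.mem_iUnion]
        exact ⟨s, ⟨hs, h1⟩, specializes_iff_mem_closure.mp (hsp.map hπ₁)⟩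
      · right
        intro hO
        apply hO
        simp only [C₂, Set.mem_iUnion]
        exact ⟨s, ⟨hs, h2⟩, specializes_iff_mem_closure.mp (hsp.map hπ₂)⟩
  · refine ⟨Set.univ, Set.univ, isOpen_univ, isOpen_univ, Set.subset_univ _, Set.subset_univ _, ?_⟩
    intro t _
    exact (hne ⟨t⟩).elim

end Topology

section Lift

/-- a morphism from a local scheme whose closed point goes to `k x`, where `k` has an isomorphism
on stalks at `x`, lifts through `k`. -/
lemma exists_lift_local {U Y : Scheme.{u}} (k : U ⟶ Y) (x : U) [IsIso (k.stalkMap x)]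
    {C : CommRingCat.{u}} [IsLocalRing C] (ξ : Spec C ⟶ Y)
    (hx : ξ (IsLocalRing.closedPoint C) = k x) : ∃ m : Spec C ⟶ U, m ≫ k = ξ := by
  have h12 : ξ (IsLocalRing.closedPoint C) ⤳ k x := specializes_of_eq hx
  refine ⟨Spec.map (Scheme.stalkClosedPointTo ξ) ≫ Spec.map (Y.presheaf.stalkSpecializes h12) ≫
    Spec.map (inv (k.stalkMap x)) ≫ U.fromSpecStalk x, ?_⟩
  simp only [Category.assoc]
  rw [← Scheme.SpecMap_stalkMap_fromSpecStalk, ← Category.assoc (Spec.map (inv (k.stalkMap x))),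
    ← Spec.map_comp, IsIso.hom_inv_id, Spec.map_id, Category.id_comp,
    Scheme.SpecMap_stalkSpecializes_fromSpecStalk]
  exact Scheme.Spec_stalkClosedPointTo_fromSpecStalk ξ

end Lift

section ClaimA

/-- the graph-type map `(g₁, g₂) : W ⟶ Y₁ ×_S Y₂` with `g₁` an open immersion and `Y₂ ⟶ S`
separated has range closed in the open `pr₁ ⁻¹ (range g₁)`. -/
lemma mem_range_lift_of_mem_closure {W Y₁ Y₂ S : Scheme.{u}} (g₁ : W ⟶ Y₁) (g₂ : W ⟶ Y₂)
    (p₁ : Y₁ ⟶ S) (p₂ : Y₂ ⟶ S) [IsOpenImmersion g₁] [IsSeparated p₂]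
    (hc : g₁ ≫ p₁ = g₂ ≫ p₂) (t : ↥(pullback p₁ p₂))
    (ht : t ∈ closure (Set.range (pullback.lift g₁ g₂ hc)))
    (ht₁ : pullback.fst p₁ p₂ t ∈ Set.range g₁) :
    t ∈ Set.range (pullback.lift g₁ g₂ hc) := by
  let ιW : W ⟶ pullback p₁ p₂ := pullback.lift g₁ g₂ hc
  let j : pullback g₁ (pullback.fst p₁ p₂) ⟶ pullback p₁ p₂ := pullback.snd g₁ (pullback.fst p₁ p₂)
  have hσc : 𝟙 W ≫ g₁ = ιW ≫ pullback.fst p₁ p₂ := by
    rw [Category.id_comp]
    exact (pullback.lift_fst _ _ _).symm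
  let σ : W ⟶ pullback g₁ (pullback.fst p₁ p₂) := pullback.lift (𝟙 W) ιW hσc
  have hσ1 : σ ≫ pullback.fst g₁ (pullback.fst p₁ p₂) = 𝟙 W := pullback.lift_fst _ _ _
  have hσ2 : σ ≫ j = ιW := pullback.lift_snd _ _ _
  have hcl : IsClosedImmersion σ := by
    have : IsClosedImmersion (σ ≫ pullback.fst g₁ (pullback.fst p₁ p₂)) := by
      rw [hσ1]
      infer_instance
    exact IsClosedImmersion.of_comp σ (pullback.fst g₁ (pullback.fst p₁ p₂))
  have hclosed : IsClosed (Set.range σ) := σ.isClosedEmbedding.isClosed_range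
  have htj : t ∈ Set.range j := by
    rw [Scheme.Pullback.range_snd]
    exact ht₁
  obtain ⟨q, rfl⟩ := htj
  have hrange : Set.range ιW = j '' Set.range σ := by
    rw [← hσ2, Scheme.Hom.comp_base, TopCat.coe_comp, Set.range_comp]
  have hq : q ∈ closure (Set.range σ) := by
    rw [j.isOpenEmbedding.isInducing.closure_eq_preimage_closure_image, ← hrange]
    exact ht
  rw [hclosed.closure_eq] at hq
  obtain ⟨w, rfl⟩ := hq
  exact ⟨w, by rw [← Scheme.Hom.comp_apply, hσ2]⟩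

end ClaimA

end Groth.Agent.H89.LocImmLib
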