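import Mathlib
import Groth.Agent.H89.LocImm7
import Groth.Agent.H89.LocalSpec
import Groth.Agent.S18207

/-! # Gluing two factorizations (localizing immersion followed by finite type) (helper89) -/

set_option autoImplicit false
universe u

open CategoryTheory CategoryTheory.Limits AlgebraicGeometry TopologicalSpace Topology

namespace Groth.Agent.H89.LocImmLib

/-- separatedness of a morphism from a scheme covered by two opens, via the valuative criterion -/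
lemma isSeparated_of_two_charts {Yg S Y₁' Y₂' : Scheme.{u}} (p : Yg ⟶ S) [QuasiSeparated p]
    (j₁ : Y₁' ⟶ Yg) (j₂ : Y₂' ⟶ Yg) [IsOpenImmersion j₁] [IsOpenImmersion j₂]
    (hcov : ∀ y : Yg, y ∈ Set.range j₁ ∨ y ∈ Set.range j₂)
    [IsSeparated (j₁ ≫ p)] [IsSeparated (j₂ ≫ p)]
    (hmixed : ∀ (R K : Type u) [CommRing R] [IsDomain R] [ValuationRing R] [Field K]
      [Algebra R K] [IsFractionRing R K]
      (l₁ : Spec (.of R) ⟶ Y₁') (l₂ : Spec (.of R) ⟶ Y₂'),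
      Spec.map (CommRingCat.ofHom (algebraMap R K)) ≫ l₁ ≫ j₁ =
        Spec.map (CommRingCat.ofHom (algebraMap R K)) ≫ l₂ ≫ j₂ →
      l₁ ≫ j₁ ≫ p = l₂ ≫ j₂ ≫ p →
      j₁ (l₁ (IsLocalRing.closedPoint R)) = j₂ (l₂ (IsLocalRing.closedPoint R))) :
    IsSeparated p := by
  apply IsSeparated.of_valuativeCriterion
  intro Sq
  constructor
  rintro ⟨l, hl1, hl2⟩ ⟨l', hl'1, hl'2⟩
  ext : 1
  dsimp at *
  let c : ↥(Spec (CommRingCat.of Sq.R)) := IsLocalRing.closedPoint Sq.R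
  have hη : Spec.map (CommRingCat.ofHom (algebraMap Sq.R Sq.K)) ≫ l =
      Spec.map (CommRingCat.ofHom (algebraMap Sq.R Sq.K)) ≫ l' := hl1.trans hl'1.symm
  have hp : l ≫ p = l' ≫ p := hl2.trans hl'2.symm
  have hinj : Function.Injective (CommRingCat.ofHom (algebraMap Sq.R Sq.K)).hom :=
    IsFractionRing.injective Sq.R Sq.K
  suffices hcl : l c = l' c from
    Groth.Agent.H89.LocalSpec.eq_of_comp_eq l l' _ hinj hcl hη
  have factor : ∀ {Y' : Scheme.{u}} (j : Y' ⟶ Yg) [IsOpenImmersion j]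
      (l : Spec (CommRingCat.of Sq.R) ⟶ Yg), l c ∈ Set.range j →
      ∃ m : Spec (CommRingCat.of Sq.R) ⟶ Y', m ≫ j = l := by
    intro Y' j _ l hlc
    have hr : Set.range l ⊆ Set.range j :=
      Groth.Agent.H89.LocalSpec.range_subset_of_closedPoint_mem j.opensRange l hlc
    exact ⟨IsOpenImmersion.lift j l hr, IsOpenImmersion.lift_fac _ _ _⟩
  have same : ∀ {Y' : Scheme.{u}} (j : Y' ⟶ Yg) [IsOpenImmersion j] [IsSeparated (j ≫ p)],
      l c ∈ Set.range j → l' c ∈ Set.range j → l c = l' c := by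
    intro Y' j _ _ h1 h2
    obtain ⟨m, hm⟩ := factor j l h1
    obtain ⟨m', hm'⟩ := factor j l' h2
    have huq := IsSeparated.valuativeCriterion (j ≫ p)
    let Sq' : ValuativeCommSq (j ≫ p) :=
      ⟨Sq.R, Sq.K, Spec.map (CommRingCat.ofHom (algebraMap Sq.R Sq.K)) ≫ m, l ≫ p,
        ⟨by rw [Category.assoc, ← Category.assoc m, hm]⟩⟩
    have hss : Subsingleton Sq'.commSq.LiftStruct := huq Sq'
    let L₁ : Sq'.commSq.LiftStruct := ⟨m, rfl, by rw [← Category.assoc, hm]⟩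
    let L₂ : Sq'.commSq.LiftStruct := ⟨m', by
      rw [← cancel_mono j, Category.assoc, Category.assoc, hm, hm']
      exact hη.symm, by
      rw [← Category.assoc, hm']
      exact hp.symm⟩
    have hmm : m = m' := congrArg CommSq.LiftStruct.l (Subsingleton.elim L₁ L₂)
    rw [← hm, ← hm', hmm]
  rcases hcov (l c) with h1 | h2 <;> rcases hcov (l' c) with h1' | h2'
  · exact same j₁ h1 h1'
  · obtain ⟨m, hm⟩ := factor j₁ l h1
    obtain ⟨m', hm'⟩ := factor j₂ l' h2'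
    have h3 := hmixed Sq.R Sq.K m m' (by rw [hm, hm']; exact hη)
      (by rw [← Category.assoc, hm, ← Category.assoc, hm']; exact hp)
    rw [← hm, ← hm', Scheme.Hom.comp_apply, Scheme.Hom.comp_apply]
    exact h3
  · obtain ⟨m, hm⟩ := factor j₂ l h2
    obtain ⟨m', hm'⟩ := factor j₁ l' h1'
    have h3 := hmixed Sq.R Sq.K m' m (by rw [hm, hm']; exact hη.symm)
      (by rw [← Category.assoc, hm', ← Category.assoc, hm]; exact hp.symm)
    rw [← hm, ← hm', Scheme.Hom.comp_apply, Scheme.Hom.comp_apply]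
    exact h3.symm
  · exact same j₂ h2 h2'

/-- **Key claim**: a point of the closure of `W` in `Y₁ ×_S Y₂` whose projections come from
`U₁`, `U₂` lies in `W`. -/
lemma mem_range_of_mem_closure_of_mem_ranges {X S W Y₁ Y₂ : Scheme.{u}} (f : X ⟶ S)
    [IsSeparated f] (U₁ U₂ : X.Opens) [IsNoetherian U₁.toScheme] [IsNoetherian U₂.toScheme]
    [IsNoetherian Y₁] [IsNoetherian Y₂] [IsNoetherian W]
    (k₁ : U₁.toScheme ⟶ Y₁) (k₂ : U₂.toScheme ⟶ Y₂) (p₁ : Y₁ ⟶ S) (p₂ : Y₂ ⟶ S)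
    (hk₁ : LocImm.IsLocImmersion k₁) (hk₂ : LocImm.IsLocImmersion k₂)
    (h₁ : k₁ ≫ p₁ = U₁.ι ≫ f) (h₂ : k₂ ≫ p₂ = U₂.ι ≫ f)
    (k : (U₁ ⊓ U₂).toScheme ⟶ W) (g₁ : W ⟶ Y₁) (g₂ : W ⟶ Y₂) (hc : g₁ ≫ p₁ = g₂ ≫ p₂)
    (hkg₁ : k ≫ g₁ = X.homOfLE inf_le_left ≫ k₁) (hkg₂ : k ≫ g₂ = X.homOfLE inf_le_right ≫ k₂)
    (hmax : ∀ ξ : W, (∀ z : W, z ⤳ ξ → z = ξ) → ξ ∈ Set.range k)
    (t : ↥(pullback p₁ p₂)) (ht : t ∈ closure (Set.range (pullback.lift g₁ g₂ hc)))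
    (ht₁ : pullback.fst p₁ p₂ t ∈ Set.range k₁) (ht₂ : pullback.snd p₁ p₂ t ∈ Set.range k₂) :
    t ∈ Set.range (pullback.lift g₁ g₂ hc) := by
  let ιW : W ⟶ pullback p₁ p₂ := pullback.lift g₁ g₂ hc
  have hιW1 : ιW ≫ pullback.fst p₁ p₂ = g₁ := pullback.lift_fst _ _ _
  have hιW2 : ιW ≫ pullback.snd p₁ p₂ = g₂ := pullback.lift_snd _ _ _
  obtain ⟨x₁, hx₁⟩ := ht₁
  obtain ⟨x₂, hx₂⟩ := ht₂
  obtain ⟨w₀, hw₀⟩ := exists_specializes_of_mem_closure_range ιW ιW.continuous t ht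
  obtain ⟨w, hww₀, hwmax⟩ := exists_maximal_generization w₀
  have hwt : ιW w ⤳ t := (hww₀.map ιW.continuous).trans hw₀
  obtain ⟨u, hu⟩ := hmax w hwmax
  let C : CommRingCat.{u} := (pullback p₁ p₂).presheaf.stalk t
  let ξ : Spec C ⟶ pullback p₁ p₂ := (pullback p₁ p₂).fromSpecStalk t
  have hξc : ξ (IsLocalRing.closedPoint C) = t := Scheme.fromSpecStalk_closedPoint
  haveI := isIso_stalkMap k₁ hk₁.1 x₁
  haveI := isIso_stalkMap k₂ hk₂.1 x₂
  obtain ⟨m₁, hm₁⟩ := exists_lift_local k₁ x₁ (ξ ≫ pullback.fst p₁ p₂) (by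
    rw [Scheme.Hom.comp_apply, hξc, hx₁])
  obtain ⟨m₂, hm₂⟩ := exists_lift_local k₂ x₂ (ξ ≫ pullback.snd p₁ p₂) (by
    rw [Scheme.Hom.comp_apply, hξc, hx₂])
  have hm : m₁ ≫ (U₁.ι ≫ f) = m₂ ≫ (U₂.ι ≫ f) := by
    rw [← h₁, ← h₂, ← Category.assoc, ← Category.assoc, hm₁, hm₂, Category.assoc,
      Category.assoc, pullback.condition]
  let bT : Spec C ⟶ pullback (U₁.ι ≫ f) (U₂.ι ≫ f) := pullback.lift m₁ m₂ hm
  let κ : pullback (U₁.ι ≫ f) (U₂.ι ≫ f) ⟶ pullback p₁ p₂ :=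
    pullback.map (U₁.ι ≫ f) (U₂.ι ≫ f) p₁ p₂ k₁ k₂ (𝟙 S)
      (by rw [Category.comp_id, h₁]) (by rw [Category.comp_id, h₂])
  have hκ1 : κ ≫ pullback.fst p₁ p₂ = pullback.fst (U₁.ι ≫ f) (U₂.ι ≫ f) ≫ k₁ :=
    pullback.lift_fst _ _ _
  have hκ2 : κ ≫ pullback.snd p₁ p₂ = pullback.snd (U₁.ι ≫ f) (U₂.ι ≫ f) ≫ k₂ :=
    pullback.lift_snd _ _ _
  have hbκ : bT ≫ κ = ξ := by
    apply pullback.hom_ext
    · rw [Category.assoc, hκ1, ← Category.assoc, pullback.lift_fst, hm₁]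
    · rw [Category.assoc, hκ2, ← Category.assoc, pullback.lift_snd, hm₂]
  let a₁ : (U₁ ⊓ U₂).toScheme ⟶ U₁.toScheme := X.homOfLE inf_le_left
  let a₂ : (U₁ ⊓ U₂).toScheme ⟶ U₂.toScheme := X.homOfLE inf_le_right
  have ha₁ : a₁ ≫ U₁.ι = (U₁ ⊓ U₂).ι := Scheme.homOfLE_ι _ _
  have ha₂ : a₂ ≫ U₂.ι = (U₁ ⊓ U₂).ι := Scheme.homOfLE_ι _ _
  have ha : a₁ ≫ (U₁.ι ≫ f) = a₂ ≫ (U₂.ι ≫ f) := by
    rw [← Category.assoc, ← Category.assoc, ha₁, ha₂]
  let δ : (U₁ ⊓ U₂).toScheme ⟶ pullback (U₁.ι ≫ f) (U₂.ι ≫ f) := pullback.lift a₁ a₂ ha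
  have hδ1 : δ ≫ pullback.fst (U₁.ι ≫ f) (U₂.ι ≫ f) = a₁ := pullback.lift_fst _ _ _
  have hδ2 : δ ≫ pullback.snd (U₁.ι ≫ f) (U₂.ι ≫ f) = a₂ := pullback.lift_snd _ _ _
  have hδκ : δ ≫ κ = k ≫ ιW := by
    apply pullback.hom_ext
    · rw [Category.assoc, hκ1, ← Category.assoc, hδ1, Category.assoc, hιW1, hkg₁]
    · rw [Category.assoc, hκ2, ← Category.assoc, hδ2, Category.assoc, hιW2, hkg₂]
  have hmono₁ : Mono k₁ := ((Groth.Agent.S18207.result k₁).mp hk₁).2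
  have hmono₂ : Mono k₂ := ((Groth.Agent.S18207.result k₂).mp hk₂).2
  have hκmono : Mono κ := by
    constructor
    intro T a b hab
    apply pullback.hom_ext
    · rw [← cancel_mono k₁, Category.assoc, Category.assoc, ← hκ1, ← Category.assoc,
        ← Category.assoc, hab]
    · rw [← cancel_mono k₂, Category.assoc, Category.assoc, ← hκ2, ← Category.assoc,
        ← Category.assoc, hab]
  have hκinj : Function.Injective κ.base := κ.injective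
  have hτ : ιW w ∈ Set.range ξ := by
    rw [Scheme.range_fromSpecStalk]
    exact hwt
  obtain ⟨τ₀, hτ₀⟩ := hτ
  have h5 : bT τ₀ = δ u := by
    apply hκinj
    show κ (bT τ₀) = κ (δ u)
    rw [← Scheme.Hom.comp_apply, ← Scheme.Hom.comp_apply, hbκ, hδκ, Scheme.Hom.comp_apply, hu,
      hτ₀]
  have h6 : δ u ⤳ bT (IsLocalRing.closedPoint C) := by
    rw [← h5]
    exact (IsLocalRing.specializes_closedPoint τ₀).map bT.continuous
  -- range δ is closed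
  let jQ : pullback (U₁.ι ≫ f) (U₂.ι ≫ f) ⟶ pullback f f :=
    pullback.map (U₁.ι ≫ f) (U₂.ι ≫ f) f f U₁.ι U₂.ι (𝟙 S)
      (by rw [Category.comp_id]) (by rw [Category.comp_id])
  have hjQ1 : jQ ≫ pullback.fst f f = pullback.fst (U₁.ι ≫ f) (U₂.ι ≫ f) ≫ U₁.ι :=
    pullback.lift_fst _ _ _
  have hjQ2 : jQ ≫ pullback.snd f f = pullback.snd (U₁.ι ≫ f) (U₂.ι ≫ f) ≫ U₂.ι :=
    pullback.lift_snd _ _ _
  have hjQo : IsOpenImmersion jQ := inferInstance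
  have hδj : δ ≫ jQ = (U₁ ⊓ U₂).ι ≫ pullback.diagonal f := by
    apply pullback.hom_ext
    · rw [Category.assoc, hjQ1, ← Category.assoc, hδ1, ha₁, Category.assoc,
        pullback.diagonal_fst, Category.comp_id]
    · rw [Category.assoc, hjQ2, ← Category.assoc, hδ2, ha₂, Category.assoc,
        pullback.diagonal_snd, Category.comp_id]
  have hrδ : Set.range δ = jQ ⁻¹' Set.range (pullback.diagonal f) := by
    ext q
    constructor
    · rintro ⟨v, rfl⟩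
      exact ⟨(U₁ ⊓ U₂).ι v, by
        rw [← Scheme.Hom.comp_apply, ← hδj, Scheme.Hom.comp_apply]⟩
    · rintro ⟨x, hx⟩
      have e1 : U₁.ι (pullback.fst (U₁.ι ≫ f) (U₂.ι ≫ f) q) = x := by
        rw [← Scheme.Hom.comp_apply, ← hjQ1, Scheme.Hom.comp_apply, ← hx,
          ← Scheme.Hom.comp_apply, pullback.diagonal_fst]
        rfl
      have e2 : U₂.ι (pullback.snd (U₁.ι ≫ f) (U₂.ι ≫ f) q) = x := by
        rw [← Scheme.Hom.comp_apply, ← hjQ2, Scheme.Hom.comp_apply, ← hx,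
          ← Scheme.Hom.comp_apply, pullback.diagonal_snd]
        rfl
      have hx12 : x ∈ U₁ ⊓ U₂ := ⟨e1 ▸ ι_mem U₁ _, e2 ▸ ι_mem U₂ _⟩
      obtain ⟨x', rfl⟩ := exists_preimage_ι (U₁ ⊓ U₂) x hx12
      refine ⟨x', ?_⟩
      apply jQ.isOpenEmbedding.injective
      rw [← Scheme.Hom.comp_apply, hδj, Scheme.Hom.comp_apply]
      exact hx
  have hδcl : IsClosed (Set.range δ) := by
    rw [hrδ]
    exact (pullback.diagonal f).isClosedEmbedding.isClosed_range.preimage jQ.continuous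
  have h7 : bT (IsLocalRing.closedPoint C) ∈ Set.range δ := h6.mem_closed hδcl ⟨u, rfl⟩
  obtain ⟨u', hu'⟩ := h7
  refine ⟨k u', ?_⟩
  show ιW (k u') = t
  rw [← Scheme.Hom.comp_apply, ← hδκ, Scheme.Hom.comp_apply, hu', ← Scheme.Hom.comp_apply, hbκ,
    hξc]

end Groth.Agent.H89.LocImmLib
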