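import Mathlib
import Groth.Agent.H89.LocImm8

/-! # Gluing two factorizations: main theorem (helper89) -/

set_option autoImplicit false
universe u

open CategoryTheory CategoryTheory.Limits AlgebraicGeometry TopologicalSpace Topology

namespace Groth.Agent.H89.LocImmLib

set_option maxHeartbeats 1600000 in
theorem exists_factorization_of_two {X S : Scheme.{u}} [IsNoetherian X] [IsNoetherian S]
    (f : X ⟶ S) [IsSeparated f]
    (U₁ U₂ : X.Opens) (hU : U₁ ⊔ U₂ = ⊤) (Y₁ Y₂ : Scheme.{u}) [IsNoetherian Y₁] [IsNoetherian Y₂]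
    (k₁ : U₁.toScheme ⟶ Y₁) (k₂ : U₂.toScheme ⟶ Y₂) (p₁ : Y₁ ⟶ S) (p₂ : Y₂ ⟶ S)
    (hk₁ : LocImm.IsLocImmersion k₁) (hk₂ : LocImm.IsLocImmersion k₂)
    [IsSeparated p₁] [IsSeparated p₂] [LocallyOfFiniteType p₁] [LocallyOfFiniteType p₂]
    (h₁ : k₁ ≫ p₁ = U₁.ι ≫ f) (h₂ : k₂ ≫ p₂ = U₂.ι ≫ f) :
    ∃ (Y : Scheme.{u}) (k : X ⟶ Y) (p : Y ⟶ S), IsNoetherian Y ∧ LocImm.IsLocImmersion k ∧
      IsSeparated p ∧ LocallyOfFiniteType p ∧ QuasiCompact p ∧ k ≫ p = f := by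
  haveI hN₁ : IsNoetherian U₁.toScheme := isNoetherian_of_isOpenImmersion U₁.ι
  haveI hN₂ : IsNoetherian U₂.toScheme := isNoetherian_of_isOpenImmersion U₂.ι
  haveI hN₁₂ : IsNoetherian (U₁ ⊓ U₂).toScheme := isNoetherian_of_isOpenImmersion (U₁ ⊓ U₂).ι
  let a₁ : (U₁ ⊓ U₂).toScheme ⟶ U₁.toScheme := X.homOfLE inf_le_left
  let a₂ : (U₁ ⊓ U₂).toScheme ⟶ U₂.toScheme := X.homOfLE inf_le_right
  have ha₁ : a₁ ≫ U₁.ι = (U₁ ⊓ U₂).ι := Scheme.homOfLE_ι _ _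
  have ha₂ : a₂ ≫ U₂.ι = (U₁ ⊓ U₂).ι := Scheme.homOfLE_ι _ _
  have hf₁' : LocImm.IsLocImmersion (a₁ ≫ k₁) :=
    isLocImmersion_comp a₁ k₁ (isLocImmersion_of_isOpenImmersion a₁) hk₁
  have hf₂' : LocImm.IsLocImmersion (a₂ ≫ k₂) :=
    isLocImmersion_comp a₂ k₂ (isLocImmersion_of_isOpenImmersion a₂) hk₂
  have hcomm : (a₁ ≫ k₁) ≫ p₁ = (a₂ ≫ k₂) ≫ p₂ := by
    rw [Category.assoc, Category.assoc, h₁, h₂, ← Category.assoc, ← Category.assoc, ha₁, ha₂]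
  obtain ⟨W, k, g₁, g₂, hNW, hkloc, og₁, og₂, hc, hkg₁, hkg₂, hmax⟩ :=
    exists_common_open (a₁ ≫ k₁) (a₂ ≫ k₂) p₁ p₂ hf₁' hf₂' hcomm
  haveI := og₁
  haveI := og₂
  let ιW : W ⟶ pullback p₁ p₂ := pullback.lift g₁ g₂ hc
  have hιW1 : ιW ≫ pullback.fst p₁ p₂ = g₁ := pullback.lift_fst _ _ _
  have hιW2 : ιW ≫ pullback.snd p₁ p₂ = g₂ := pullback.lift_snd _ _ _
  haveI hqc₂ : QuasiCompact p₂ := inferInstance
  haveI hPloc : IsLocallyNoetherian (pullback p₁ p₂) := inferInstance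
  haveI hPc : CompactSpace ↥(pullback p₁ p₂) := inferInstance
  haveI hPN : IsNoetherian (pullback p₁ p₂) := { }
  let T : Set ↥(pullback p₁ p₂) :=
    closure (Set.range ιW) ∩ (pullback.fst p₁ p₂ ⁻¹' Set.range g₁)ᶜ
  have hTcl : IsClosed T := isClosed_closure.inter
    ((g₁.isOpenEmbedding.isOpen_range.preimage (pullback.fst p₁ p₂).continuous).isClosed_compl)
  have hbad : ∀ t ∈ T, pullback.fst p₁ p₂ t ∉ Set.range k₁ ∨
      pullback.snd p₁ p₂ t ∉ Set.range k₂ := by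
    intro t ht
    by_contra hcon
    rw [not_or, not_not, not_not] at hcon
    obtain ⟨w, hw⟩ := mem_range_of_mem_closure_of_mem_ranges f U₁ U₂ k₁ k₂ p₁ p₂ hk₁ hk₂ h₁ h₂
      k g₁ g₂ hc hkg₁ hkg₂ hmax t ht.1 hcon.1 hcon.2
    have hw' : ιW w = t := hw
    apply ht.2
    refine ⟨w, ?_⟩
    rw [← hw', ← Scheme.Hom.comp_apply, hιW1]
  obtain ⟨O₁, O₂, hO₁, hO₂, hRO₁, hRO₂, hOT⟩ := exists_opens_avoiding T hTcl
    (fun t => pullback.fst p₁ p₂ t) (fun t => pullback.snd p₁ p₂ t)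
    (pullback.fst p₁ p₂).continuous (pullback.snd p₁ p₂).continuous (Set.range k₁) (Set.range k₂)
    (stableUnderGeneralization_range k₁ hk₁.1) (stableUnderGeneralization_range k₂ hk₂.1) hbad
  have hstar : ∀ t : ↥(pullback p₁ p₂), t ∈ closure (Set.range ιW) →
      pullback.fst p₁ p₂ t ∈ O₁ → pullback.snd p₁ p₂ t ∈ O₂ → t ∈ Set.range ιW := by
    intro t ht h1 h2
    by_cases hr : pullback.fst p₁ p₂ t ∈ Set.range g₁
    · exact mem_range_lift_of_mem_closure g₁ g₂ p₁ p₂ hc t ht hr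
    · exfalso
      rcases hOT t ⟨ht, hr⟩ with h | h
      · exact h h1
      · exact h h2
  let Y₁' : Y₁.Opens := ⟨O₁, hO₁⟩
  let Y₂' : Y₂.Opens := ⟨O₂, hO₂⟩
  let W' : W.Opens := g₁ ⁻¹ᵁ Y₁' ⊓ g₂ ⁻¹ᵁ Y₂'
  have hg₁r : Set.range (W'.ι ≫ g₁) ⊆ Set.range Y₁'.ι := by
    rintro _ ⟨w, rfl⟩
    rw [Scheme.Opens.range_ι, Scheme.Hom.comp_apply]
    exact (ι_mem W' w).1
  have hg₂r : Set.range (W'.ι ≫ g₂) ⊆ Set.range Y₂'.ι := by
    rintro _ ⟨w, rfl⟩
    rw [Scheme.Opens.range_ι, Scheme.Hom.comp_apply]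
    exact (ι_mem W' w).2
  let g₁' : W'.toScheme ⟶ Y₁'.toScheme := IsOpenImmersion.lift Y₁'.ι (W'.ι ≫ g₁) hg₁r
  let g₂' : W'.toScheme ⟶ Y₂'.toScheme := IsOpenImmersion.lift Y₂'.ι (W'.ι ≫ g₂) hg₂r
  have hg₁' : g₁' ≫ Y₁'.ι = W'.ι ≫ g₁ := IsOpenImmersion.lift_fac _ _ _
  have hg₂' : g₂' ≫ Y₂'.ι = W'.ι ≫ g₂ := IsOpenImmersion.lift_fac _ _ _
  haveI og₁' : IsOpenImmersion g₁' := by
    have : IsOpenImmersion (g₁' ≫ Y₁'.ι) := by rw [hg₁']; infer_instance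
    exact IsOpenImmersion.of_comp g₁' Y₁'.ι
  haveI og₂' : IsOpenImmersion g₂' := by
    have : IsOpenImmersion (g₂' ≫ Y₂'.ι) := by rw [hg₂']; infer_instance
    exact IsOpenImmersion.of_comp g₂' Y₂'.ι
  have hk₁r : Set.range k₁ ⊆ Set.range Y₁'.ι := by
    rw [Scheme.Opens.range_ι]
    exact hRO₁
  have hk₂r : Set.range k₂ ⊆ Set.range Y₂'.ι := by
    rw [Scheme.Opens.range_ι]
    exact hRO₂
  let k₁' : U₁.toScheme ⟶ Y₁'.toScheme := IsOpenImmersion.lift Y₁'.ι k₁ hk₁r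
  let k₂' : U₂.toScheme ⟶ Y₂'.toScheme := IsOpenImmersion.lift Y₂'.ι k₂ hk₂r
  have hk₁' : k₁' ≫ Y₁'.ι = k₁ := IsOpenImmersion.lift_fac _ _ _
  have hk₂' : k₂' ≫ Y₂'.ι = k₂ := IsOpenImmersion.lift_fac _ _ _
  have hkr : Set.range k ⊆ Set.range W'.ι := by
    rintro _ ⟨v, rfl⟩
    rw [Scheme.Opens.range_ι]
    refine ⟨?_, ?_⟩
    · show g₁ (k v) ∈ O₁
      rw [← Scheme.Hom.comp_apply, hkg₁, Scheme.Hom.comp_apply]
      exact hRO₁ ⟨_, rfl⟩
    · show g₂ (k v) ∈ O₂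
      rw [← Scheme.Hom.comp_apply, hkg₂, Scheme.Hom.comp_apply]
      exact hRO₂ ⟨_, rfl⟩
  let k'' : (U₁ ⊓ U₂).toScheme ⟶ W'.toScheme := IsOpenImmersion.lift W'.ι k hkr
  have hk'' : k'' ≫ W'.ι = k := IsOpenImmersion.lift_fac _ _ _
  -- the glued scheme
  let Yg : Scheme.{u} := pushout g₁' g₂'
  let inl : Y₁'.toScheme ⟶ Yg := pushout.inl g₁' g₂'
  let inr : Y₂'.toScheme ⟶ Yg := pushout.inr g₁' g₂'
  haveI oinl : IsOpenImmersion inl := isOpenImmersion_inl g₁' g₂'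
  haveI oinr : IsOpenImmersion inr := isOpenImmersion_inr g₁' g₂'
  have hpc : g₁' ≫ (Y₁'.ι ≫ p₁) = g₂' ≫ (Y₂'.ι ≫ p₂) := by
    rw [← Category.assoc, ← Category.assoc, hg₁', hg₂', Category.assoc, Category.assoc, hc]
  let p : Yg ⟶ S := pushout.desc (Y₁'.ι ≫ p₁) (Y₂'.ι ≫ p₂) hpc
  have hinlp : inl ≫ p = Y₁'.ι ≫ p₁ := pushout.inl_desc _ _ _
  have hinrp : inr ≫ p = Y₂'.ι ≫ p₂ := pushout.inr_desc _ _ _
  have hcond : g₁' ≫ inl = g₂' ≫ inr := pushout.condition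
  -- the glued morphism
  have hak₁ : a₁ ≫ k₁' = k'' ≫ g₁' := by
    rw [← cancel_mono Y₁'.ι, Category.assoc, Category.assoc, hk₁', hg₁', ← Category.assoc, hk'',
      hkg₁]
  have hak₂ : a₂ ≫ k₂' = k'' ≫ g₂' := by
    rw [← cancel_mono Y₂'.ι, Category.assoc, Category.assoc, hk₂', hg₂', ← Category.assoc, hk'',
      hkg₂]
  have hF : a₁ ≫ (k₁' ≫ inl) = a₂ ≫ (k₂' ≫ inr) := by
    rw [← Category.assoc, hak₁, ← Category.assoc a₂, hak₂, Category.assoc, Category.assoc, hcond]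
  obtain ⟨kk, hkk₁, hkk₂⟩ := exists_glue_two U₁ U₂ hU (k₁' ≫ inl) (k₂' ≫ inr) hF
  have hkkp : kk ≫ p = f := by
    apply hom_ext_two U₁ U₂ hU
    · rw [← Category.assoc, hkk₁, Category.assoc, hinlp, ← Category.assoc, hk₁', h₁]
    · rw [← Category.assoc, hkk₂, Category.assoc, hinrp, ← Category.assoc, hk₂', h₂]
  have hcov : ∀ y : Yg, y ∈ Set.range inl ∨ y ∈ Set.range inr := by
    intro y
    rcases inl_or_inr g₁' g₂' y with ⟨y₁, h⟩ | ⟨y₂, h⟩
    · exact Or.inl ⟨y₁, h⟩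
    · exact Or.inr ⟨y₂, h⟩
  -- locally of finite type
  haveI hlft : LocallyOfFiniteType p := by
    let Uc : Bool → Yg.Opens := fun b => cond b inl.opensRange inr.opensRange
    have hUc : iSup Uc = ⊤ := by
      rw [iSup_bool_eq, eq_top_iff]
      intro y _
      rcases hcov y with h | h
      · exact Or.inl h
      · exact Or.inr h
    refine IsZariskiLocalAtSource.of_iSup_eq_top (P := @LocallyOfFiniteType) Uc hUc ?_
    intro b
    cases b
    · show LocallyOfFiniteType (inr.opensRange.ι ≫ p)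
      have e : inr.opensRange.ι ≫ p = inr.isoOpensRange.inv ≫ (Y₂'.ι ≫ p₂) := by
        rw [← hinrp, ← Category.assoc, Scheme.Hom.isoOpensRange_inv_comp]
      rw [e]
      infer_instance
    · show LocallyOfFiniteType (inl.opensRange.ι ≫ p)
      have e : inl.opensRange.ι ≫ p = inl.isoOpensRange.inv ≫ (Y₁'.ι ≫ p₁) := by
        rw [← hinlp, ← Category.assoc, Scheme.Hom.isoOpensRange_inv_comp]
      rw [e]
      infer_instance
  haveI hYloc : IsLocallyNoetherian Yg := LocallyOfFiniteType.isLocallyNoetherian p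
  haveI hNY₁' : IsNoetherian Y₁'.toScheme := isNoetherian_of_isOpenImmersion Y₁'.ι
  haveI hNY₂' : IsNoetherian Y₂'.toScheme := isNoetherian_of_isOpenImmersion Y₂'.ι
  haveI hYc : CompactSpace ↥Yg := by
    constructor
    have hun : (Set.univ : Set ↥Yg) = Set.range inl ∪ Set.range inr := by
      ext y
      simp only [Set.mem_univ, true_iff]
      exact hcov y
    rw [hun]
    exact (isCompact_range inl.continuous).union (isCompact_range inr.continuous)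
  haveI hYN : IsNoetherian Yg := { }
  haveI hqc : QuasiCompact p := inferInstance
  haveI hs₁ : IsSeparated (inl ≫ p) := by rw [hinlp]; infer_instance
  haveI hs₂ : IsSeparated (inr ≫ p) := by rw [hinrp]; infer_instance
  haveI hsep : IsSeparated p := by
    apply isSeparated_of_two_charts p inl inr hcov
    intro R K _ _ _ _ _ _ l₁ l₂ hgen hp'
    let η : Spec (CommRingCat.of K) ⟶ Spec (CommRingCat.of R) :=
      Spec.map (CommRingCat.ofHom (algebraMap R K))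
    have hgen' : η ≫ l₁ ≫ inl = η ≫ l₂ ≫ inr := hgen
    have hlamc0 : (l₁ ≫ Y₁'.ι) ≫ p₁ = (l₂ ≫ Y₂'.ι) ≫ p₂ := by
      rw [Category.assoc, Category.assoc, ← hinlp, ← hinrp]
      exact hp'
    let lam : Spec (CommRingCat.of R) ⟶ pullback p₁ p₂ :=
      pullback.lift (l₁ ≫ Y₁'.ι) (l₂ ≫ Y₂'.ι) hlamc0
    have hlam1 : lam ≫ pullback.fst p₁ p₂ = l₁ ≫ Y₁'.ι := pullback.lift_fst _ _ _
    have hlam2 : lam ≫ pullback.snd p₁ p₂ = l₂ ≫ Y₂'.ι := pullback.lift_snd _ _ _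
    have hνr : Set.range (η ≫ l₁) ⊆ Set.range g₁' := by
      rintro _ ⟨z, rfl⟩
      have h1 : (η ≫ l₁ ≫ inl) z = (η ≫ l₂ ≫ inr) z := by rw [hgen']
      simp only [Scheme.Hom.comp_apply] at h1
      obtain ⟨w, hw1, -⟩ := (inl_eq_inr_iff g₁' g₂' _ _).mp h1
      rw [Scheme.Hom.comp_apply]
      exact ⟨w, hw1⟩
    let ν : Spec (CommRingCat.of K) ⟶ W'.toScheme := IsOpenImmersion.lift g₁' (η ≫ l₁) hνr
    have hν1 : ν ≫ g₁' = η ≫ l₁ := IsOpenImmersion.lift_fac _ _ _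
    have hν2 : ν ≫ g₂' = η ≫ l₂ := by
      rw [← cancel_mono inr, Category.assoc, ← hcond, ← Category.assoc, hν1, Category.assoc,
        Category.assoc]
      exact hgen'
    have e1 : η ≫ l₁ ≫ Y₁'.ι = ν ≫ g₁' ≫ Y₁'.ι := by
      rw [← Category.assoc, ← hν1, Category.assoc]
    have e2 : η ≫ l₂ ≫ Y₂'.ι = ν ≫ g₂' ≫ Y₂'.ι := by
      rw [← Category.assoc, ← hν2, Category.assoc]
    have hηlam : η ≫ lam = (ν ≫ W'.ι) ≫ ιW := by
      apply pullback.hom_ext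
      · simp only [Category.assoc]
        rw [hlam1, hιW1, e1, hg₁']
      · simp only [Category.assoc]
        rw [hlam2, hιW2, e2, hg₂']
    let g0 : ↥(Spec (CommRingCat.of K)) := IsLocalRing.closedPoint K
    let c : ↥(Spec (CommRingCat.of R)) := IsLocalRing.closedPoint R
    have hspec : η g0 ⤳ c := IsLocalRing.specializes_closedPoint _
    have hlamc : lam c ∈ closure (Set.range ιW) := by
      have h1 : lam (η g0) ∈ Set.range ιW := by
        refine ⟨(ν ≫ W'.ι) g0, ?_⟩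
        rw [← Scheme.Hom.comp_apply, ← hηlam, Scheme.Hom.comp_apply]
      have h2 : lam (η g0) ⤳ lam c := hspec.map lam.continuous
      exact h2.mem_closed isClosed_closure (subset_closure h1)
    have hl1 : pullback.fst p₁ p₂ (lam c) ∈ O₁ := by
      rw [← Scheme.Hom.comp_apply, hlam1, Scheme.Hom.comp_apply]
      exact ι_mem Y₁' _
    have hl2 : pullback.snd p₁ p₂ (lam c) ∈ O₂ := by
      rw [← Scheme.Hom.comp_apply, hlam2, Scheme.Hom.comp_apply]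
      exact ι_mem Y₂' _
    obtain ⟨w₀, hw₀⟩ := hstar (lam c) hlamc hl1 hl2
    have hgw1 : g₁ w₀ = Y₁'.ι (l₁ c) := by
      have e3 : (ιW ≫ pullback.fst p₁ p₂) w₀ = (lam ≫ pullback.fst p₁ p₂) c := by
        rw [Scheme.Hom.comp_apply, Scheme.Hom.comp_apply, hw₀]
      rw [hιW1, hlam1, Scheme.Hom.comp_apply] at e3
      exact e3
    have hgw2 : g₂ w₀ = Y₂'.ι (l₂ c) := by
      have e3 : (ιW ≫ pullback.snd p₁ p₂) w₀ = (lam ≫ pullback.snd p₁ p₂) c := by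
        rw [Scheme.Hom.comp_apply, Scheme.Hom.comp_apply, hw₀]
      rw [hιW2, hlam2, Scheme.Hom.comp_apply] at e3
      exact e3
    have hw₀W' : w₀ ∈ W' := by
      refine ⟨?_, ?_⟩
      · show g₁ w₀ ∈ O₁
        rw [hgw1]
        exact ι_mem Y₁' _
      · show g₂ w₀ ∈ O₂
        rw [hgw2]
        exact ι_mem Y₂' _
    obtain ⟨w₀', rfl⟩ := exists_preimage_ι W' w₀ hw₀W'
    apply (inl_eq_inr_iff g₁' g₂' _ _).mpr
    refine ⟨w₀', ?_, ?_⟩
    · apply Y₁'.ι.isOpenEmbedding.injective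
      rw [← Scheme.Hom.comp_apply, hg₁', Scheme.Hom.comp_apply]
      exact hgw1
    · apply Y₂'.ι.isOpenEmbedding.injective
      rw [← Scheme.Hom.comp_apply, hg₂', Scheme.Hom.comp_apply]
      exact hgw2
  -- the glued morphism is a localizing immersion
  have hkkloc : LocImm.IsLocalizing kk := by
    apply isLocalizing_of_forall_exists_open
    intro x
    have hx : x ∈ U₁ ⊔ U₂ := by rw [hU]; trivial
    rcases hx with hx | hx
    · refine ⟨U₁, hx, ?_⟩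
      rw [hkk₁]
      exact isLocalizing_comp k₁' inl
        (isLocalizing_of_comp_isOpenImmersion k₁' Y₁'.ι (by rw [hk₁']; exact hk₁.1))
        (isLocalizing_of_isOpenImmersion inl)
    · refine ⟨U₂, hx, ?_⟩
      rw [hkk₂]
      exact isLocalizing_comp k₂' inr
        (isLocalizing_of_comp_isOpenImmersion k₂' Y₂'.ι (by rw [hk₂']; exact hk₂.1))
        (isLocalizing_of_isOpenImmersion inr)
  haveI hkksep : IsSeparated kk := by
    haveI : IsSeparated (kk ≫ p) := by rw [hkkp]; infer_instance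
    exact IsSeparated.of_comp kk p
  have hemb₁ := isEmbedding k₁ hk₁
  have hemb₂ := isEmbedding k₂ hk₂
  have hkl : ∀ a : U₁.toScheme, kk (U₁.ι a) = inl (k₁' a) := by
    intro a
    rw [← Scheme.Hom.comp_apply, hkk₁, Scheme.Hom.comp_apply]
  have hkr' : ∀ a : U₂.toScheme, kk (U₂.ι a) = inr (k₂' a) := by
    intro a
    rw [← Scheme.Hom.comp_apply, hkk₂, Scheme.Hom.comp_apply]
  have key : ∀ (a : U₁.toScheme) (a' : U₂.toScheme), kk (U₁.ι a) = kk (U₂.ι a') →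
      U₁.ι a = U₂.ι a' := by
    intro a a' haa'
    have h3 : inl (k₁' a) = inr (k₂' a') := by
      rw [← hkl, ← hkr']
      exact haa'
    obtain ⟨w', hw'1, hw'2⟩ := (inl_eq_inr_iff g₁' g₂' _ _).mp h3
    obtain ⟨ξ, hξw, hξmax⟩ := exists_maximal_generization (W'.ι w')
    obtain ⟨u, hu⟩ := hmax ξ hξmax
    have hg1 : g₁ (W'.ι w') = k₁ a := by
      rw [← Scheme.Hom.comp_apply, ← hg₁', Scheme.Hom.comp_apply, hw'1, ← Scheme.Hom.comp_apply,
        hk₁']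
    have hg2 : g₂ (W'.ι w') = k₂ a' := by
      rw [← Scheme.Hom.comp_apply, ← hg₂', Scheme.Hom.comp_apply, hw'2, ← Scheme.Hom.comp_apply,
        hk₂']
    have hs1 : k₁ (a₁ u) ⤳ k₁ a := by
      have h4 : g₁ ξ ⤳ g₁ (W'.ι w') := hξw.map g₁.continuous
      rw [hg1, ← hu, ← Scheme.Hom.comp_apply, hkg₁, Scheme.Hom.comp_apply] at h4
      exact h4
    have hs2 : k₂ (a₂ u) ⤳ k₂ a' := by
      have h4 : g₂ ξ ⤳ g₂ (W'.ι w') := hξw.map g₂.continuous
      rw [hg2, ← hu, ← Scheme.Hom.comp_apply, hkg₂, Scheme.Hom.comp_apply] at h4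
      exact h4
    have hs1' : a₁ u ⤳ a := hemb₁.isInducing.specializes_iff.mp hs1
    have hs2' : a₂ u ⤳ a' := hemb₂.isInducing.specializes_iff.mp hs2
    have hs1'' : (U₁ ⊓ U₂).ι u ⤳ U₁.ι a := by
      have h5 := hs1'.map U₁.ι.continuous
      rw [← Scheme.Hom.comp_apply, ha₁] at h5
      exact h5
    have hs2'' : (U₁ ⊓ U₂).ι u ⤳ U₂.ι a' := by
      have h5 := hs2'.map U₂.ι.continuous
      rw [← Scheme.Hom.comp_apply, ha₂] at h5
      exact h5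
    haveI := isIso_stalkMap kk hkkloc (U₁.ι a)
    haveI := isIso_stalkMap kk hkkloc (U₂.ι a')
    haveI := isIso_stalkMap kk hkkloc ((U₁ ⊓ U₂).ι u)
    exact eq_of_common_generization kk (U₁.ι a) (U₂.ι a') ((U₁ ⊓ U₂).ι u) hs1'' hs2'' haa'
  have hkkinj : Function.Injective kk.base := by
    intro x x' hxx'
    have hx : x ∈ U₁ ⊔ U₂ := by rw [hU]; trivial
    have hx' : x' ∈ U₁ ⊔ U₂ := by rw [hU]; trivial
    have hxx : kk x = kk x' := hxx'
    rcases hx with hx | hx <;> rcases hx' with hx' | hx'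
    · obtain ⟨a, rfl⟩ := exists_preimage_ι U₁ x hx
      obtain ⟨a', rfl⟩ := exists_preimage_ι U₁ x' hx'
      have e : inl (k₁' a) = inl (k₁' a') := by
        rw [← hkl, ← hkl]
        exact hxx
      have e' : k₁' a = k₁' a' := inl.isOpenEmbedding.injective e
      have e'' : k₁ a = k₁ a' := by
        have e3 : (k₁' ≫ Y₁'.ι) a = (k₁' ≫ Y₁'.ι) a' := by
          rw [Scheme.Hom.comp_apply, Scheme.Hom.comp_apply, e']
        rw [hk₁'] at e3
        exact e3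
      rw [hk₁.2 e'']
    · obtain ⟨a, rfl⟩ := exists_preimage_ι U₁ x hx
      obtain ⟨a', rfl⟩ := exists_preimage_ι U₂ x' hx'
      exact key a a' hxx
    · obtain ⟨a, rfl⟩ := exists_preimage_ι U₂ x hx
      obtain ⟨a', rfl⟩ := exists_preimage_ι U₁ x' hx'
      exact (key a' a hxx.symm).symm
    · obtain ⟨a, rfl⟩ := exists_preimage_ι U₂ x hx
      obtain ⟨a', rfl⟩ := exists_preimage_ι U₂ x' hx'
      have e : inr (k₂' a) = inr (k₂' a') := by
        rw [← hkr', ← hkr']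
        exact hxx
      have e' : k₂' a = k₂' a' := inr.isOpenEmbedding.injective e
      have e'' : k₂ a = k₂ a' := by
        have e3 : (k₂' ≫ Y₂'.ι) a = (k₂' ≫ Y₂'.ι) a' := by
          rw [Scheme.Hom.comp_apply, Scheme.Hom.comp_apply, e']
        rw [hk₂'] at e3
        exact e3
      rw [hk₂.2 e'']
  exact ⟨Yg, kk, p, hYN, ⟨hkkloc, hkkinj⟩, hsep, hlft, hqc, hkkp⟩

end Groth.Agent.H89.LocImmLib
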