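import Mathlib
import Groth.Agent.H89.LocImm9
import Groth.Prelude.Def_EssFT

/-! # Factorization of separated essentially finite type morphisms (helper89) -/

set_option autoImplicit false
universe u

open CategoryTheory CategoryTheory.Limits AlgebraicGeometry TopologicalSpace Topology

namespace Groth.Agent.H89.LocImmLib

lemma isLocImmersion_SpecMap {C B : CommRingCat.{u}} (ψ : C ⟶ B) (h : LocImm.IsLocHom ψ.hom) :
    LocImm.IsLocImmersion (Spec.map ψ) := by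
  refine ⟨?_, ?_⟩
  · intro x
    have e : (⊤ : (Spec B).Opens) ≤ (Spec.map ψ) ⁻¹ᵁ (⊤ : (Spec C).Opens) := le_rfl
    refine ⟨⟨⊤, isAffineOpen_top _⟩, ⟨⊤, isAffineOpen_top _⟩, trivial, e, ?_⟩
    show LocImm.IsLocHom ((Spec.map ψ).appLE ⊤ ⊤ e).hom
    have h1 : (Spec.map ψ).appLE ⊤ ⊤ e = (Spec.map ψ).appTop := by
      rw [Scheme.Hom.appTop, Scheme.Hom.app_eq_appLE]
      rfl
    have h2 : (Spec.map ψ).appTop = (Scheme.ΓSpecIso C).hom ≫ ψ ≫ (Scheme.ΓSpecIso B).inv := by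
      rw [← Category.assoc, ← Scheme.ΓSpecIso_naturality, Category.assoc, Iso.hom_inv_id,
        Category.comp_id]
    rw [h1, h2, CommRingCat.hom_comp, CommRingCat.hom_comp]
    refine isLocHom_comp _ _ (isLocHom_of_bijective _
      ((ConcreteCategory.isIso_iff_bijective _).mp inferInstance)) ?_
    exact isLocHom_comp _ _ h (isLocHom_of_bijective _
      ((ConcreteCategory.isIso_iff_bijective _).mp inferInstance))
  · intro a b hab
    exact (isEmbedding_comap ψ.hom h).injective hab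

lemma isLocHom_essFiniteType_subalgebra {A B : Type u} [CommRing A] [CommRing B] [Algebra A B]
    [Algebra.EssFiniteType A B] :
    LocImm.IsLocHom (algebraMap (Algebra.EssFiniteType.subalgebra A B) B) := by
  have h0 : IsLocalization (Algebra.EssFiniteType.submonoid A B) B := inferInstance
  have h1 := (isLocalization_iff (Algebra.EssFiniteType.submonoid A B) B).mp h0
  refine ⟨Algebra.EssFiniteType.submonoid A B, ?_⟩
  rw [isLocalization_iff]
  exact h1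

/-- an open `V` of `X` is *good* if `V ⟶ S` factors as a localizing immersion followed by a
separated morphism of finite type. -/
def Good {X S : Scheme.{u}} (f : X ⟶ S) (V : X.Opens) : Prop :=
  ∃ (Y : Scheme.{u}) (k : V.toScheme ⟶ Y) (p : Y ⟶ S), IsNoetherian Y ∧
    LocImm.IsLocImmersion k ∧ IsSeparated p ∧ LocallyOfFiniteType p ∧ QuasiCompact p ∧
    k ≫ p = V.ι ≫ f

variable {X S : Scheme.{u}}

lemma good_bot [IsNoetherian S] (f : X ⟶ S) : Good f ⊥ := by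
  refine ⟨S, (⊥ : X.Opens).ι ≫ f, 𝟙 S, inferInstance, ⟨?_, ?_⟩, inferInstance, inferInstance,
    inferInstance, Category.comp_id _⟩
  · intro x
    exact (Opens.mem_bot.mp (ι_mem ⊥ x)).elim
  · intro x
    exact (Opens.mem_bot.mp (ι_mem ⊥ x)).elim

lemma good_of_chart [IsNoetherian S] (f : X ⟶ S) {U : S.Opens} (hU : IsAffineOpen U)
    {V : X.Opens} (hV : IsAffineOpen V) (e : V ≤ f ⁻¹ᵁ U)
    (hφ : (f.appLE U V e).hom.EssFiniteType) : Good f V := by
  letI alg : Algebra Γ(S, U) Γ(X, V) := (f.appLE U V e).hom.toAlgebra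
  haveI hess : Algebra.EssFiniteType Γ(S, U) Γ(X, V) := hφ
  haveI hNA : IsNoetherianRing Γ(S, U) := IsLocallyNoetherian.component_noetherian ⟨U, hU⟩
  haveI hNC : IsNoetherianRing (Algebra.EssFiniteType.subalgebra Γ(S, U) Γ(X, V)) :=
    Algebra.FiniteType.isNoetherianRing Γ(S, U) _
  let ψ₁ : Γ(S, U) ⟶ CommRingCat.of (Algebra.EssFiniteType.subalgebra Γ(S, U) Γ(X, V)) :=
    CommRingCat.ofHom (algebraMap Γ(S, U) (Algebra.EssFiniteType.subalgebra Γ(S, U) Γ(X, V)))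
  let ψ₂ : CommRingCat.of (Algebra.EssFiniteType.subalgebra Γ(S, U) Γ(X, V)) ⟶ Γ(X, V) :=
    CommRingCat.ofHom (algebraMap (Algebra.EssFiniteType.subalgebra Γ(S, U) Γ(X, V)) Γ(X, V))
  have hψ : ψ₁ ≫ ψ₂ = f.appLE U V e := by
    apply CommRingCat.hom_ext
    apply RingHom.ext
    intro a
    rfl
  have hloc : LocImm.IsLocHom ψ₂.hom := isLocHom_essFiniteType_subalgebra
  have hft : ψ₁.hom.FiniteType := RingHom.finiteType_algebraMap.mpr inferInstance
  haveI hlft₁ : LocallyOfFiniteType (Spec.map ψ₁) :=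
    (HasRingHomProperty.Spec_iff (P := @LocallyOfFiniteType)).mpr hft
  have hiso : hV.isoSpec.hom ≫ hV.fromSpec = V.ι := by
    rw [← IsAffineOpen.isoSpec_inv_ι, Iso.hom_inv_id_assoc]
  refine ⟨Spec (CommRingCat.of (Algebra.EssFiniteType.subalgebra Γ(S, U) Γ(X, V))),
    hV.isoSpec.hom ≫ Spec.map ψ₂, Spec.map ψ₁ ≫ hU.fromSpec, inferInstance,
    isLocImmersion_comp _ _ (isLocImmersion_of_isOpenImmersion hV.isoSpec.hom)
      (isLocImmersion_SpecMap ψ₂ hloc), inferInstance, inferInstance, inferInstance, ?_⟩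
  rw [Category.assoc, ← Category.assoc (Spec.map ψ₂), ← Spec.map_comp, hψ,
    IsAffineOpen.SpecMap_appLE_fromSpec f hU hV e, ← Category.assoc, hiso]

lemma good_sup [IsNoetherian X] [IsNoetherian S] (f : X ⟶ S) [IsSeparated f] (V₁ V₂ : X.Opens)
    (h₁ : Good f V₁) (h₂ : Good f V₂) : Good f (V₁ ⊔ V₂) := by
  obtain ⟨Y₁, k₁, p₁, hNY₁, hk₁, hs₁, hl₁, hq₁, hc₁⟩ := h₁
  obtain ⟨Y₂, k₂, p₂, hNY₂, hk₂, hs₂, hl₂, hq₂, hc₂⟩ := h₂
  let O : X.Opens := V₁ ⊔ V₂
  haveI hNO : IsNoetherian O.toScheme := isNoetherian_of_isOpenImmersion O.ι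
  let U₁ : O.toScheme.Opens := O.ι ⁻¹ᵁ V₁
  let U₂ : O.toScheme.Opens := O.ι ⁻¹ᵁ V₂
  have hU : U₁ ⊔ U₂ = ⊤ := by
    rw [eq_top_iff]
    intro x _
    rcases (ι_mem O x) with h | h
    · exact Or.inl h
    · exact Or.inr h
  have hr₁ : Set.range (U₁.ι ≫ O.ι) ⊆ Set.range V₁.ι := by
    rintro _ ⟨z, rfl⟩
    rw [Scheme.Opens.range_ι, Scheme.Hom.comp_apply]
    exact ι_mem U₁ z
  have hr₂ : Set.range (U₂.ι ≫ O.ι) ⊆ Set.range V₂.ι := by
    rintro _ ⟨z, rfl⟩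
    rw [Scheme.Opens.range_ι, Scheme.Hom.comp_apply]
    exact ι_mem U₂ z
  let e₁ : U₁.toScheme ⟶ V₁.toScheme := IsOpenImmersion.lift V₁.ι (U₁.ι ≫ O.ι) hr₁
  let e₂ : U₂.toScheme ⟶ V₂.toScheme := IsOpenImmersion.lift V₂.ι (U₂.ι ≫ O.ι) hr₂
  have he₁ : e₁ ≫ V₁.ι = U₁.ι ≫ O.ι := IsOpenImmersion.lift_fac _ _ _
  have he₂ : e₂ ≫ V₂.ι = U₂.ι ≫ O.ι := IsOpenImmersion.lift_fac _ _ _
  haveI oe₁ : IsOpenImmersion e₁ := by
    have : IsOpenImmersion (e₁ ≫ V₁.ι) := by rw [he₁]; infer_instance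
    exact IsOpenImmersion.of_comp e₁ V₁.ι
  haveI oe₂ : IsOpenImmersion e₂ := by
    have : IsOpenImmersion (e₂ ≫ V₂.ι) := by rw [he₂]; infer_instance
    exact IsOpenImmersion.of_comp e₂ V₂.ι
  have hk₁' : LocImm.IsLocImmersion (e₁ ≫ k₁) :=
    isLocImmersion_comp e₁ k₁ (isLocImmersion_of_isOpenImmersion e₁) hk₁
  have hk₂' : LocImm.IsLocImmersion (e₂ ≫ k₂) :=
    isLocImmersion_comp e₂ k₂ (isLocImmersion_of_isOpenImmersion e₂) hk₂
  have hc₁' : (e₁ ≫ k₁) ≫ p₁ = U₁.ι ≫ (O.ι ≫ f) := by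
    rw [Category.assoc, hc₁, ← Category.assoc, he₁, Category.assoc]
  have hc₂' : (e₂ ≫ k₂) ≫ p₂ = U₂.ι ≫ (O.ι ≫ f) := by
    rw [Category.assoc, hc₂, ← Category.assoc, he₂, Category.assoc]
  exact exists_factorization_of_two (O.ι ≫ f) U₁ U₂ hU Y₁ Y₂ (e₁ ≫ k₁) (e₂ ≫ k₂) p₁ p₂
    hk₁' hk₂' hc₁' hc₂'

theorem exists_factorization [IsNoetherian X] [IsNoetherian S] (f : X ⟶ S) [IsSeparated f]
    [EssFT.EssFiniteType f] :
    ∃ (Y : Scheme.{u}) (k : X ⟶ Y) (p : Y ⟶ S), IsNoetherian Y ∧ LocImm.IsLocImmersion k ∧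
      IsSeparated p ∧ LocallyOfFiniteType p ∧ QuasiCompact p ∧ k ≫ p = f := by
  classical
  have hpt : ∀ x : X, ∃ V : X.Opens, x ∈ V ∧ Good f V := by
    intro x
    obtain ⟨U, V, hxV, e, hφ⟩ :=
      EssFT.LocallyEssFiniteType.exists_appLE_essFiniteType (f := f) x
    exact ⟨V.1, hxV, good_of_chart f U.2 V.2 e hφ⟩
  choose V hxV hGood using hpt
  obtain ⟨t, ht⟩ := isCompact_univ.elim_finite_subcover (fun x => (V x : Set X))
    (fun x => (V x).2) (fun x _ => Set.mem_iUnion.mpr ⟨x, hxV x⟩)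
  have hind : ∀ s : Finset X, ∃ O : X.Opens, Good f O ∧ ∀ x ∈ s, V x ≤ O := by
    intro s
    induction s using Finset.induction_on with
    | empty => exact ⟨⊥, good_bot f, fun x hx => absurd hx (Finset.notMem_empty x)⟩
    | insert a s _ ih =>
      obtain ⟨O, hO, hsub⟩ := ih
      refine ⟨V a ⊔ O, good_sup f (V a) O (hGood a) hO, ?_⟩
      intro x hx
      rcases Finset.mem_insert.mp hx with rfl | hx
      · exact le_sup_left
      · exact (hsub x hx).trans le_sup_right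
  obtain ⟨O, hO, hsub⟩ := hind t
  have hOtop : O = ⊤ := by
    rw [eq_top_iff]
    intro x _
    have hx : x ∈ ⋃ i ∈ t, (V i : Set X) := ht (Set.mem_univ x)
    simp only [Set.mem_iUnion] at hx
    obtain ⟨i, hi, hxi⟩ := hx
    exact hsub i hi hxi
  subst hOtop
  obtain ⟨Y, k, p, hNY, hk, hs, hl, hq, hc⟩ := hO
  refine ⟨Y, X.topIso.inv ≫ k, p, hNY,
    isLocImmersion_comp _ _ (isLocImmersion_of_isOpenImmersion X.topIso.inv) hk, hs, hl, hq, ?_⟩
  rw [Category.assoc, hc, ← Category.assoc, Scheme.toIso_inv_ι, Category.id_comp]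

end Groth.Agent.H89.LocImmLib
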