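import Mathlib
import Groth.Agent.H89.LocImm10

/-! # Essentially finite type morphisms: composition, local schemes (helper89) -/

set_option autoImplicit false
universe u

open CategoryTheory CategoryTheory.Limits AlgebraicGeometry TopologicalSpace Topology

namespace Groth.Agent.H89.LocImmLib

variable {X Y Z : Scheme.{u}}

lemma locallyEssFiniteType_of_isLocalizing (f : X ⟶ Y) (hf : LocImm.IsLocalizing f) :
    EssFT.LocallyEssFiniteType f := by
  refine ⟨fun x => ?_⟩
  obtain ⟨U, V, hxV, e, hl⟩ := hf x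
  refine ⟨U, V, hxV, e, ?_⟩
  show RingHom.EssFiniteType (f.appLE U.1 V.1 e).hom
  unfold RingHom.EssFiniteType
  letI := (f.appLE U.1 V.1 e).hom.toAlgebra
  obtain ⟨M, hM⟩ := hl
  exact Algebra.EssFiniteType.of_isLocalization _ M

lemma locallyEssFiniteType_of_locallyOfFiniteType (f : X ⟶ Y) [LocallyOfFiniteType f] :
    EssFT.LocallyEssFiniteType f := by
  refine ⟨fun x => ?_⟩
  obtain ⟨U, hU, hxU, -⟩ := exists_isAffineOpen_mem_and_subset (x := f x) (U := ⊤) trivial
  obtain ⟨V, hV, hxV, hVU⟩ := exists_isAffineOpen_mem_and_subset (x := x) (U := f ⁻¹ᵁ U) hxU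
  have e : V ≤ f ⁻¹ᵁ U := hVU
  refine ⟨⟨U, hU⟩, ⟨V, hV⟩, hxV, e, ?_⟩
  show RingHom.EssFiniteType (f.appLE U V e).hom
  have hft : (f.appLE U V e).hom.FiniteType := f.finiteType_appLE hU hV e
  unfold RingHom.EssFiniteType
  unfold RingHom.FiniteType at hft
  letI := (f.appLE U V e).hom.toAlgebra
  haveI : Algebra.FiniteType Γ(Y, U) Γ(X, V) := hft
  infer_instance

lemma locallyEssFiniteType_comp (f : X ⟶ Y) (g : Y ⟶ Z) (hf : EssFT.LocallyEssFiniteType f)
    (hg : EssFT.LocallyEssFiniteType g) : EssFT.LocallyEssFiniteType (f ≫ g) := by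
  have hst : MorphismProperty.IsStableUnderComposition @EssFT.LocallyEssFiniteType :=
    HasRingHomProperty.stableUnderComposition
      (RingHom.locally_stableUnderComposition RingHom.EssFiniteType.respectsIso
        RingHom.EssFiniteType.isStableUnderBaseChange.localizationPreserves
        RingHom.EssFiniteType.stableUnderComposition)
  exact hst.comp_mem f g hf hg

lemma essFiniteType_of_noetherianSpace (f : X ⟶ Y) [NoetherianSpace X]
    (hf : EssFT.LocallyEssFiniteType f) : EssFT.EssFiniteType f :=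
  { toLocallyEssFiniteType := hf, toQuasiCompact := inferInstance }

lemma isLocImmersion_fromSpecStalk (X : Scheme.{u}) (x : X) :
    LocImm.IsLocImmersion (X.fromSpecStalk x) := by
  obtain ⟨U, hU, hxU, -⟩ := exists_isAffineOpen_mem_and_subset (x := x) (U := ⊤) trivial
  rw [← IsAffineOpen.fromSpecStalk_eq_fromSpecStalk hU hxU]
  show LocImm.IsLocImmersion (Spec.map (X.presheaf.germ U x hxU) ≫ hU.fromSpec)
  refine isLocImmersion_comp _ _ (isLocImmersion_SpecMap _ ?_)
    (isLocImmersion_of_isOpenImmersion hU.fromSpec)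
  have h := hU.isLocalization_stalk ⟨x, hxU⟩
  exact ⟨(hU.primeIdealOf ⟨x, hxU⟩).asIdeal.primeCompl, h⟩

lemma isSeparated_fromSpecStalk (X : Scheme.{u}) (x : X) : IsSeparated (X.fromSpecStalk x) := by
  obtain ⟨U, hU, hxU, -⟩ := exists_isAffineOpen_mem_and_subset (x := x) (U := ⊤) trivial
  rw [← IsAffineOpen.fromSpecStalk_eq_fromSpecStalk hU hxU]
  show IsSeparated (Spec.map (X.presheaf.germ U x hxU) ≫ hU.fromSpec)
  infer_instance

/-- the key transfer along a stalk isomorphism: for `k` with iso stalk map at `x`,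
`X.fromSpecStalk x ≫ k ≫ p` and `Z.fromSpecStalk (k x) ≫ p` differ by an isomorphism. -/
lemma fromSpecStalk_comp_eq (k : X ⟶ Z) (p : Z ⟶ Y) (x : X) :
    Spec.map (k.stalkMap x) ≫ Z.fromSpecStalk (k x) ≫ p = X.fromSpecStalk x ≫ k ≫ p := by
  rw [← Category.assoc, Scheme.SpecMap_stalkMap_fromSpecStalk, Category.assoc]

end Groth.Agent.H89.LocImmLib
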