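import Mathlib
import Groth.Agent.H89.LocImm11

/-! # Base change of localizing morphisms (helper89) -/

set_option autoImplicit false
universe u

open CategoryTheory CategoryTheory.Limits AlgebraicGeometry TopologicalSpace Topology
open TensorProduct

namespace Groth.Agent.H89.LocImmLib

lemma isLocHom_includeRight {R S T : Type u} [CommRing R] [CommRing S] [CommRing T]
    [Algebra R S] [Algebra R T] (h : LocImm.IsLocHom (algebraMap R S)) :
    LocImm.IsLocHom
      (RingHomClass.toRingHom (Algebra.TensorProduct.includeRight : T →ₐ[R] S ⊗[R] T)) := by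
  obtain ⟨M, hM⟩ := h
  have hM' : IsLocalization M S := by
    have h1 := (@isLocalization_iff R _ M S _ (algebraMap R S).toAlgebra).mp hM
    rw [isLocalization_iff]
    exact h1
  letI := Algebra.TensorProduct.rightAlgebra (R := R) (A := S) (B := T)
  have h2 : IsLocalization (Algebra.algebraMapSubmonoid T M) (S ⊗[R] T) :=
    IsLocalization.tensorRight (R := R) (S := T) S M
  have h3 := (isLocalization_iff _ _).mp h2
  refine ⟨Algebra.algebraMapSubmonoid T M, ?_⟩
  rw [isLocalization_iff]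
  exact h3

variable {X Y Y' : Scheme.{u}}

lemma isLocalizing_pullback_snd_Spec {R S T : CommRingCat.{u}} (φ : R ⟶ S) (ψ : R ⟶ T)
    (h : LocImm.IsLocHom φ.hom) :
    LocImm.IsLocalizing (pullback.snd (Spec.map φ) (Spec.map ψ)) := by
  letI := φ.hom.toAlgebra
  letI := ψ.hom.toAlgebra
  have hsnd : pullback.snd (Spec.map φ) (Spec.map ψ) =
      (pullbackSpecIso R S T).hom ≫ Spec.map (CommRingCat.ofHom
        (RingHomClass.toRingHom (Algebra.TensorProduct.includeRight : T →ₐ[R] S ⊗[R] T))) :=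
    (pullbackSpecIso_hom_snd R S T).symm
  rw [hsnd]
  have hloc : LocImm.IsLocHom (algebraMap R S) := h
  exact isLocalizing_comp _ _ (isLocalizing_of_isOpenImmersion _)
    (isLocImmersion_SpecMap _ (isLocHom_includeRight hloc)).1

theorem isLocalizing_pullback_snd (f : X ⟶ Y) (g : Y' ⟶ Y) (hf : LocImm.IsLocalizing f) :
    LocImm.IsLocalizing (pullback.snd f g) := by
  apply isLocalizing_of_forall_exists_open
  intro x'
  have hxy : f (pullback.fst f g x') = g (pullback.snd f g x') := by
    rw [← Scheme.Hom.comp_apply, ← Scheme.Hom.comp_apply, pullback.condition]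
  obtain ⟨U, V, hxV, e, hl⟩ := hf (pullback.fst f g x')
  have hy'U : pullback.snd f g x' ∈ g ⁻¹ᵁ U.1 := by
    show g (pullback.snd f g x') ∈ U.1
    rw [← hxy]
    exact e hxV
  obtain ⟨U', hU', hy'U', hU'U⟩ :=
    exists_isAffineOpen_mem_and_subset (x := pullback.snd f g x') (U := g ⁻¹ᵁ U.1) hy'U
  have e' : U' ≤ g ⁻¹ᵁ U.1 := hU'U
  have hsq₁ : Spec.map (f.appLE U.1 V.1 e) ≫ U.2.fromSpec = V.2.fromSpec ≫ f :=
    IsAffineOpen.SpecMap_appLE_fromSpec f U.2 V.2 e
  have hsq₂ : Spec.map (g.appLE U.1 U' e') ≫ U.2.fromSpec = hU'.fromSpec ≫ g :=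
    IsAffineOpen.SpecMap_appLE_fromSpec g U.2 hU' e'
  let θ : pullback (Spec.map (f.appLE U.1 V.1 e)) (Spec.map (g.appLE U.1 U' e')) ⟶ pullback f g :=
    pullback.map _ _ f g V.2.fromSpec hU'.fromSpec U.2.fromSpec hsq₁ hsq₂
  have hθ2 : θ ≫ pullback.snd f g = pullback.snd _ _ ≫ hU'.fromSpec := pullback.lift_snd _ _ _
  haveI hθo : IsOpenImmersion θ := inferInstance
  have hx'θ : x' ∈ Set.range θ := by
    rw [Scheme.Pullback.range_map]
    refine ⟨?_, ?_⟩
    · show pullback.fst f g x' ∈ Set.range V.2.fromSpec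
      rw [V.2.range_fromSpec]
      exact hxV
    · show pullback.snd f g x' ∈ Set.range hU'.fromSpec
      rw [hU'.range_fromSpec]
      exact hy'U'
  refine ⟨θ.opensRange, hx'θ, ?_⟩
  have h3 : θ.opensRange.ι ≫ pullback.snd f g =
      θ.isoOpensRange.inv ≫ pullback.snd _ _ ≫ hU'.fromSpec := by
    rw [← hθ2, ← Category.assoc, Scheme.Hom.isoOpensRange_inv_comp]
  rw [h3]
  exact isLocalizing_comp _ _ (isLocalizing_of_isOpenImmersion _)
    (isLocalizing_comp _ _ (isLocalizing_pullback_snd_Spec _ _ hl)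
      (isLocalizing_of_isOpenImmersion _))

theorem isLocImmersion_pullback_snd [IsNoetherian X] [IsNoetherian Y] (f : X ⟶ Y) (g : Y' ⟶ Y)
    (hf : LocImm.IsLocImmersion f) : LocImm.IsLocImmersion (pullback.snd f g) := by
  have hmono : Mono f := ((Groth.Agent.S18207.result f).mp hf).2
  have hm2 : Mono (pullback.snd f g) := inferInstance
  exact ⟨isLocalizing_pullback_snd f g hf.1, (pullback.snd f g).injective⟩

end Groth.Agent.H89.LocImmLib
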