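import Groth.Prelude.Def_W4c5qllcourbesmultMultCrv
import Mathlib.Algebra.Module.Torsion.Free
import Mathlib.RingTheory.DiscreteValuationRing.Basic
import Mathlib.LinearAlgebra.FreeModule.PID
import Mathlib.RingTheory.Finiteness.Basic
import Mathlib.RingTheory.Noetherian.Basic
import Mathlib.RingTheory.Polynomial.Quotient
import Mathlib.RingTheory.AdjoinRoot

set_option autoImplicit false

namespace Groth.Agent.H89

open Polynomial

theorem z_pow_n (R : Type*) [CommRing R] (n : ℕ) : MultCrv.z R n ^ n = 0 := by
  rw [← map_pow]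
  exact Ideal.Quotient.eq_zero_iff_mem.mpr (Ideal.mem_span_singleton_self _)

theorem finite_Rn (R : Type*) [CommRing R] (n : ℕ) : Module.Finite R (MultCrv.Rn R n) :=
  (Polynomial.monic_X_pow n).finite_quotient

theorem finite_R_of_finite_Rn (R : Type*) [CommRing R] (n : ℕ) (M : Type*) [AddCommGroup M]
    [Module (MultCrv.Rn R n) M] [Module R M] [IsScalarTower R (MultCrv.Rn R n) M]
    [Module.Finite (MultCrv.Rn R n) M] : Module.Finite R M :=
  haveI := finite_Rn R n
  Module.Finite.trans (MultCrv.Rn R n) M

theorem finite_R_sub (R : Type*) [CommRing R] [IsNoetherianRing R] (n : ℕ) (M : Type*)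
    [AddCommGroup M]
    [Module (MultCrv.Rn R n) M] [Module R M] [IsScalarTower R (MultCrv.Rn R n) M]
    [Module.Finite (MultCrv.Rn R n) M] (N : Submodule (MultCrv.Rn R n) M) :
    Module.Finite R ↥N := by
  haveI := finite_R_of_finite_Rn R n M
  haveI : IsNoetherian R M := isNoetherian_of_isNoetherianRing_of_finite R M
  exact Module.Finite.of_injective (N.subtype.restrictScalars R) N.injective_subtype

end Groth.Agent.H89
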