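import Groth.Agent.H89.MultCrvExt

set_option autoImplicit false
set_option linter.style.haveILetI false
set_option linter.unusedSectionVars false
universe u

namespace Groth.Agent.H89

open Polynomial MultCrv

section Alg

variable {R : Type*} [CommRing R] [IsDomain R] [IsPrincipalIdealRing R] (m : ℕ)

/-- Core of S17937 (linear algebra part). -/
theorem torsionFree_of_dual_extends {M : Type*} [AddCommGroup M] [Module (Rn R (m + 1)) M]
    [Module R M] [IsScalarTower R (Rn R (m + 1)) M] (r : ℕ)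
    (p : (Fin r → Rn R (m + 1)) →ₗ[Rn R (m + 1)] M) (hp : Function.Surjective p)
    (hext : ∀ φ' : ↥(LinearMap.ker p) →ₗ[Rn R (m + 1)] Rn R (m + 1),
      ∃ φ : (Fin r → Rn R (m + 1)) →ₗ[Rn R (m + 1)] Rn R (m + 1),
        φ ∘ₗ (LinearMap.ker p).subtype = φ') :
    Module.IsTorsionFree R M := by
  classical
  haveI : Module.Finite R ↥(LinearMap.ker p) :=
    finite_R_sub R (m + 1) (Fin r → Rn R (m + 1)) (LinearMap.ker p)
  haveI : Module.IsTorsionFree R ↥(LinearMap.ker p) := torsionFree_sub m _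
  obtain ⟨s, b⟩ := Module.basisOfFiniteTypeTorsionFree' (R := R) (M := ↥(LinearMap.ker p))
  have hψ : ∀ j : Fin s, ∃ ψ : (Fin r → Rn R (m + 1)) →ₗ[R] R,
      ∀ k : ↥(LinearMap.ker p), ψ (k : Fin r → Rn R (m + 1)) = b.repr k j := by
    intro j
    obtain ⟨φ', hφ'⟩ := frob_surj (m := m) (b.coord j)
    obtain ⟨φ, hφ⟩ := hext φ'
    refine ⟨(lam R m) ∘ₗ φ.restrictScalars R, fun k => ?_⟩
    rw [← Module.Basis.coord_apply, ← hφ', ← hφ]
    rfl
  choose ψ hψ using hψ
  rw [Module.isTorsionFree_iff_smul_eq_zero]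
  intro c u hcu
  by_cases hc : c = 0
  · exact Or.inl hc
  right
  obtain ⟨x, rfl⟩ := hp u
  have hK : c • x ∈ LinearMap.ker p := by
    rw [LinearMap.mem_ker, LinearMap.map_smul_of_tower, hcu]
  have h2 : ∀ j, b.repr ⟨c • x, hK⟩ j = c * ψ j x := by
    intro j
    rw [← hψ j ⟨c • x, hK⟩]
    change ψ j (c • x) = _
    rw [map_smul, smul_eq_mul]
  have h1 := b.sum_repr ⟨c • x, hK⟩
  have h3 : c • x = c • ∑ j, ψ j x • ((b j : ↥(LinearMap.ker p)) : Fin r → Rn R (m + 1)) := by
    have h4 := congrArg (fun k : ↥(LinearMap.ker p) => (k : Fin r → Rn R (m + 1))) h1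
    simp only [Submodule.coe_sum, Submodule.coe_smul_of_tower] at h4
    rw [← h4, Finset.smul_sum]
    refine Finset.sum_congr rfl (fun j _ => ?_)
    rw [h2, mul_smul]
  have h5 : c • (x - ∑ j, ψ j x • ((b j : ↥(LinearMap.ker p)) : Fin r → Rn R (m + 1))) = 0 := by
    rw [smul_sub, ← h3, sub_self]
  have h6 := sub_eq_zero.mp ((smul_eq_zero_iff_right hc).mp h5)
  have hxK : x ∈ LinearMap.ker p := by
    rw [h6]
    exact Submodule.sum_mem _ (fun j _ => Submodule.smul_of_tower_mem _ _ (b j).2)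
  exact hxK

theorem isTorsionFree_of_isReflexive {M : Type*} [AddCommGroup M] [Module (Rn R (m + 1)) M]
    [Module R M] [IsScalarTower R (Rn R (m + 1)) M] [Module.IsReflexive (Rn R (m + 1)) M] :
    Module.IsTorsionFree R M := by
  rw [Module.isTorsionFree_iff_smul_eq_zero]
  intro c u hcu
  by_cases hc : c = 0
  · exact Or.inl hc
  right
  apply (Module.bijective_dual_eval (Rn R (m + 1)) M).1
  rw [map_zero]
  ext φ
  rw [Module.Dual.eval_apply, LinearMap.zero_apply]
  have h1 : c • φ u = 0 := by rw [← LinearMap.map_smul_of_tower, hcu, map_zero]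
  exact (smul_eq_zero_iff_right hc).mp h1

theorem isReflexive_of_isTorsionFree {M : Type*} [AddCommGroup M] [Module (Rn R (m + 1)) M]
    [Module R M] [IsScalarTower R (Rn R (m + 1)) M] [Module.Finite (Rn R (m + 1)) M]
    [Module.IsTorsionFree R M] : Module.IsReflexive (Rn R (m + 1)) M := by
  haveI : Module.Finite R M := finite_R_of_finite_Rn R (m + 1) M
  haveI : Module.Free R M := inferInstance
  have hbij := Module.bijective_dual_eval R M
  refine ⟨⟨?_, ?_⟩⟩
  · rw [injective_iff_map_eq_zero]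
    intro u hu
    apply hbij.1
    rw [map_zero]
    ext ψ
    obtain ⟨φ, hφ⟩ := frob_surj (m := m) ψ
    have h1 : φ u = 0 := by
      have := LinearMap.congr_fun hu φ
      simpa using this
    rw [Module.Dual.eval_apply, ← hφ, h1, map_zero]
    rfl
  · intro ξ
    choose Φ hΦ using (fun ψ : M →ₗ[R] R => frob_surj (m := m) ψ)
    have hΦadd : ∀ ψ₁ ψ₂, Φ (ψ₁ + ψ₂) = Φ ψ₁ + Φ ψ₂ := fun ψ₁ ψ₂ =>
      frob_inj' _ _ (fun u => by
        rw [hΦ, LinearMap.add_apply, LinearMap.add_apply, map_add, hΦ, hΦ])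
    have hΦsmul : ∀ (c : R) ψ, Φ (c • ψ) = c • Φ ψ := fun c ψ =>
      frob_inj' _ _ (fun u => by
        rw [hΦ, LinearMap.smul_apply, LinearMap.smul_apply, map_smul, hΦ])
    let Ξ : Module.Dual R (Module.Dual R M) :=
      { toFun := fun ψ => lam R m (ξ (Φ ψ))
        map_add' := fun ψ₁ ψ₂ => by rw [hΦadd, map_add, map_add]
        map_smul' := fun c ψ => by
          rw [hΦsmul, ← algebraMap_smul (Rn R (m + 1)) c (Φ ψ), map_smul, algebraMap_smul,
            map_smul]
          rfl }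
    obtain ⟨u, hu⟩ := hbij.2 Ξ
    refine ⟨u, ?_⟩
    apply frob_inj'
    intro φ
    have hφ : Φ ((lam R m) ∘ₗ φ.restrictScalars R) = φ :=
      frob_inj' _ _ (fun v => by rw [hΦ]; rfl)
    have h1 := LinearMap.congr_fun hu ((lam R m) ∘ₗ φ.restrictScalars R)
    rw [Module.Dual.eval_apply] at h1
    change lam R m (φ u) = lam R m (ξ (Φ _)) at h1
    rw [hφ] at h1
    exact h1

end Alg

end Groth.Agent.H89
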