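import Groth.Agent.H89.MultCrvFrob
import Mathlib.Algebra.Category.ModuleCat.Ext.HasExt
import Mathlib.Algebra.Homology.DerivedCategory.Ext.Linear
import Mathlib.Algebra.Homology.DerivedCategory.Ext.ExactSequences
import Mathlib.Algebra.Homology.ShortComplex.ModuleCat
import Mathlib.LinearAlgebra.Dimension.Free
import Mathlib.LinearAlgebra.Dual.Lemmas
import Mathlib.RingTheory.Polynomial.Basic
import Mathlib.Algebra.Module.Projective
import Mathlib.Algebra.Module.Torsion.Pi

set_option autoImplicit false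
set_option linter.style.haveILetI false
set_option linter.unusedSectionVars false
universe u

namespace Groth.Agent.H89

open Polynomial MultCrv CategoryTheory

section Alg

variable {R : Type*} [CommRing R] [IsDomain R] [IsPrincipalIdealRing R] (m : ℕ)

instance free_Rn (n : ℕ) : Module.Free R (Rn R n) := (monic_X_pow n).free_quotient

instance noeth_Rn (n : ℕ) : IsNoetherianRing (Rn R n) := by
  unfold Rn
  infer_instance

theorem finite_sub {M : Type*} [AddCommGroup M] [Module (Rn R (m + 1)) M]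
    [Module.Finite (Rn R (m + 1)) M] (K : Submodule (Rn R (m + 1)) M) :
    Module.Finite (Rn R (m + 1)) ↥K := by
  haveI : IsNoetherian (Rn R (m + 1)) M := isNoetherian_of_isNoetherianRing_of_finite _ M
  infer_instance

theorem torsionFree_sub {M : Type*} [AddCommGroup M] [Module (Rn R (m + 1)) M] [Module R M]
    [IsScalarTower R (Rn R (m + 1)) M] [Module.IsTorsionFree R M]
    (K : Submodule (Rn R (m + 1)) M) : Module.IsTorsionFree R ↥K :=
  Function.Injective.moduleIsTorsionFree (fun x : ↥K => (x : M))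
    Subtype.val_injective (fun _ _ => rfl)

/-- Core of S17941: forms extend along an injection with torsion-free cokernel. -/
theorem dual_extends {M' M M'' : Type*} [AddCommGroup M'] [Module (Rn R (m + 1)) M']
    [AddCommGroup M] [Module (Rn R (m + 1)) M] [Module R M] [IsScalarTower R (Rn R (m + 1)) M]
    [AddCommGroup M''] [Module (Rn R (m + 1)) M''] [Module R M'']
    [IsScalarTower R (Rn R (m + 1)) M''] [Module.Finite (Rn R (m + 1)) M'']
    [Module.IsTorsionFree R M'']
    (f : M' →ₗ[Rn R (m + 1)] M) (g : M →ₗ[Rn R (m + 1)] M'') (hf : Function.Injective f)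
    (hg : Function.Surjective g) (hfg : LinearMap.range f = LinearMap.ker g)
    (φ' : M' →ₗ[Rn R (m + 1)] Rn R (m + 1)) :
    ∃ φ : M →ₗ[Rn R (m + 1)] Rn R (m + 1), φ ∘ₗ f = φ' := by
  letI : Module R M' := Module.compHom M' (algebraMap R (Rn R (m + 1)))
  haveI : IsScalarTower R (Rn R (m + 1)) M' := ⟨fun r a u => by
    change (r • a) • u = (algebraMap R (Rn R (m + 1)) r) • (a • u)
    rw [← algebraMap_smul (Rn R (m + 1)) r a, smul_eq_mul, mul_smul]⟩
  haveI : Module.Finite R M'' := finite_R_of_finite_Rn R (m + 1) M''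
  haveI : Module.Free R M'' := inferInstance
  obtain ⟨s, hs⟩ := Module.projective_lifting_property (g.restrictScalars R)
    (LinearMap.id : M'' →ₗ[R] M'') hg
  have hex : Function.Exact (f.restrictScalars R) (g.restrictScalars R) :=
    (LinearMap.exact_iff (f := f) (g := g)).mpr hfg.symm
  have h01 := (Function.Exact.split_tfae hex hf hg).out 0 1
  obtain ⟨ρ, hρ⟩ := h01.mp ⟨s, hs⟩
  obtain ⟨φ, hφ⟩ := frob_surj (m := m) (((lam R m) ∘ₗ φ'.restrictScalars R) ∘ₗ ρ)
  refine ⟨φ, frob_inj' _ _ (fun u' => ?_)⟩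
  rw [LinearMap.comp_apply, hφ]
  have h1 : ρ (f u') = u' := LinearMap.congr_fun hρ u'
  simp only [LinearMap.comp_apply, LinearMap.restrictScalars_apply, h1]

/-- Multiplication by `z^m` on a finitely generated torsion-free module factors through a
finite free module. -/
theorem exists_factor_zpow {M : Type*} [AddCommGroup M] [Module (Rn R (m + 1)) M] [Module R M]
    [IsScalarTower R (Rn R (m + 1)) M] [Module.Finite (Rn R (m + 1)) M]
    [Module.IsTorsionFree R M] :
    ∃ (s : ℕ) (α : M →ₗ[Rn R (m + 1)] (Fin s → Rn R (m + 1)))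
      (β : (Fin s → Rn R (m + 1)) →ₗ[Rn R (m + 1)] M),
      ∀ u, β (α u) = z R (m + 1) ^ m • u := by
  classical
  let ZM : M →ₗ[Rn R (m + 1)] M := (z R (m + 1) ^ m) • LinearMap.id
  let L : Submodule (Rn R (m + 1)) M := LinearMap.range ZM
  haveI : Module.Finite R ↥L := finite_R_sub R (m + 1) M L
  haveI : Module.IsTorsionFree R ↥L := torsionFree_sub m L
  obtain ⟨s, b⟩ := Module.basisOfFiniteTypeTorsionFree' (R := R) (M := ↥L)
  have hlift : ∀ j : Fin s, ∃ v : M, z R (m + 1) ^ m • v = ((b j : ↥L) : M) := fun j => by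
    obtain ⟨v, hv⟩ := (b j).2
    exact ⟨v, hv⟩
  choose v hv using hlift
  let zr : M →ₗ[R] ↥L := (ZM.rangeRestrict).restrictScalars R
  have hzr : ∀ u, ((zr u : ↥L) : M) = z R (m + 1) ^ m • u := fun u => rfl
  let αR : M →ₗ[R] (Fin s → Rn R (m + 1)) :=
    LinearMap.pi (fun j => ((b.coord j) ∘ₗ zr).smulRight (z R (m + 1) ^ m))
  have hαR : ∀ u j, αR u j = (b.repr (zr u) j) • z R (m + 1) ^ m := fun u j => rfl
  have hαz : ∀ u, αR (z R (m + 1) • u) = z R (m + 1) • αR u := by
    intro u
    ext j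
    have h1 : zr (z R (m + 1) • u) = 0 := by
      apply Subtype.ext
      rw [hzr, ← mul_smul, ← pow_succ, z_pow_n]
      exact zero_smul (Rn R (m + 1)) u
    rw [Pi.smul_apply, hαR, hαR, h1, map_zero, Finsupp.zero_apply, zero_smul, smul_comm,
      smul_eq_mul, ← pow_succ', z_pow_n, smul_zero]
  refine ⟨s, ofZ αR hαz, Fintype.linearCombination (Rn R (m + 1)) v, fun u => ?_⟩
  rw [ofZ_apply, Fintype.linearCombination_apply]
  have h2 : ∀ j, αR u j • v j = (((b.repr (zr u) j) • b j : ↥L) : M) := by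
    intro j
    rw [hαR, smul_assoc, hv]
    rfl
  simp_rw [h2]
  rw [← hzr u, ← Submodule.coe_sum, b.sum_repr]

end Alg

section ExtGen

open Abelian

variable {A : Type u} [CommRing A]

/-- If `a • 𝟙 M` factors through a projective object then `a` kills `Ext^{i+1}(M, N)`. -/
theorem smul_ext_eq_zero_of_factor {M N F : ModuleCat.{u} A} [Projective F] (a : A)
    (α : M ⟶ F) (β : F ⟶ M) (h : α ≫ β = a • 𝟙 M) (i : ℕ) (x : Ext M N (i + 1)) :
    a • x = 0 := by
  have h1 : a • x = (Ext.mk₀ (a • 𝟙 M)).comp x (zero_add _) := by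
    rw [Ext.mk₀_smul, Ext.smul_comp, Ext.mk₀_id_comp]
  rw [h1, ← h, ← Ext.mk₀_comp_mk₀_assoc,
    Ext.eq_zero_of_projective ((Ext.mk₀ β).comp x (zero_add _)), Ext.comp_zero]

end ExtGen

section ExtRn

open Abelian

variable {R : Type u} [CommRing R] [IsDomain R] [IsPrincipalIdealRing R] (m : ℕ)

theorem zpow_smul_ext_eq_zero (M : Type u) [AddCommGroup M] [Module (Rn R (m + 1)) M]
    [Module R M] [IsScalarTower R (Rn R (m + 1)) M] [Module.Finite (Rn R (m + 1)) M]
    [Module.IsTorsionFree R M] (N : ModuleCat.{u} (Rn R (m + 1))) (i : ℕ)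
    (x : Ext (ModuleCat.of (Rn R (m + 1)) M) N (i + 1)) : (z R (m + 1) ^ m) • x = 0 := by
  obtain ⟨s, α, β, h⟩ := exists_factor_zpow (R := R) m (M := M)
  exact smul_ext_eq_zero_of_factor (z R (m + 1) ^ m) (ModuleCat.ofHom α) (ModuleCat.ofHom β)
    (by ext u; exact h u) i x

/-- Core of S17936. -/
theorem ext_self_eq_zero (i : ℕ) : ∀ (M : Type u) [AddCommGroup M] [Module (Rn R (m + 1)) M]
    [Module R M] [IsScalarTower R (Rn R (m + 1)) M] [Module.Finite (Rn R (m + 1)) M]
    [Module.IsTorsionFree R M]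
    (x : Ext (ModuleCat.of (Rn R (m + 1)) M)
      (ModuleCat.of (Rn R (m + 1)) (Rn R (m + 1))) (i + 1)), x = 0 := by
  induction i with
  | zero =>
    intro M _ _ _ _ _ _ x
    obtain ⟨r, p, hp⟩ := Module.Finite.exists_fin' (Rn R (m + 1)) M
    have hS : p.shortComplexKer.ShortExact := LinearMap.shortExact_shortComplexKer hp
    obtain ⟨x₁, hx₁⟩ := Ext.contravariant_sequence_exact₃ hS _ x
      (Ext.eq_zero_of_projective _) (rfl : 1 + 0 = 0 + 1)
    obtain ⟨φ', rfl⟩ := (Ext.mk₀_bijective _ _).2 x₁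
    obtain ⟨φ, hφ⟩ := dual_extends m (LinearMap.ker p).subtype p Subtype.val_injective hp
      (by rw [Submodule.range_subtype]) φ'.hom
    have h3 : φ' = p.shortComplexKer.f ≫ ModuleCat.ofHom φ := by
      ext u
      exact (LinearMap.congr_fun hφ u).symm
    rw [← hx₁, h3, ← Ext.mk₀_comp_mk₀]
    exact hS.extClass_comp_assoc _
  | succ i ih =>
    intro M _ _ _ _ _ _ x
    obtain ⟨r, p, hp⟩ := Module.Finite.exists_fin' (Rn R (m + 1)) M
    have hS : p.shortComplexKer.ShortExact := LinearMap.shortExact_shortComplexKer hp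
    obtain ⟨x₁, hx₁⟩ := Ext.contravariant_sequence_exact₃ hS _ x
      (Ext.eq_zero_of_projective _) (by omega : 1 + (i + 1) = i + 1 + 1)
    haveI : Module.Finite (Rn R (m + 1)) ↥(LinearMap.ker p) := finite_sub m _
    haveI : Module.IsTorsionFree R ↥(LinearMap.ker p) := torsionFree_sub m _
    have h4 := ih ↥(LinearMap.ker p) x₁
    rw [← hx₁, h4, Ext.comp_zero]

end ExtRn

end Groth.Agent.H89
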