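import Groth.Agent.H89.MultCrvBasic
import Mathlib.Algebra.Polynomial.Coeff
import Mathlib.Algebra.Polynomial.Div
import Mathlib.Algebra.Exact.Basic
import Mathlib.LinearAlgebra.Pi

set_option autoImplicit false

namespace Groth.Agent.H89

open Polynomial MultCrv

section Lam

variable (R : Type*) [CommRing R] (m : ℕ)

theorem lam_aux (p : R[X])
    (hp : p ∈ (Ideal.span {(X : R[X]) ^ (m + 1)}).restrictScalars R) :
    lcoeff R m p = 0 := by
  rw [Submodule.restrictScalars_mem, Ideal.mem_span_singleton] at hp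
  obtain ⟨q, rfl⟩ := hp
  rw [lcoeff_apply, coeff_X_pow_mul']
  simp

/-- The coefficient of `z^m` on `R[X]/(X^(m+1))`, as an `R`-linear form. -/
noncomputable def lam : Rn R (m + 1) →ₗ[R] R :=
  (Submodule.liftQ ((Ideal.span {(X : R[X]) ^ (m + 1)}).restrictScalars R) (lcoeff R m)
    (fun p hp => by rw [LinearMap.mem_ker]; exact lam_aux R m p hp)) ∘ₗ
    (Submodule.Quotient.restrictScalarsEquiv R
      (Ideal.span {(X : R[X]) ^ (m + 1)})).symm.toLinearMap

theorem lam_mk (p : R[X]) :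
    lam R m (Ideal.Quotient.mk (Ideal.span {(X : R[X]) ^ (m + 1)}) p) = p.coeff m := rfl

theorem mk_eq_sum (p : R[X]) :
    (Ideal.Quotient.mk (Ideal.span {(X : R[X]) ^ (m + 1)}) p : Rn R (m + 1)) =
      ∑ i ∈ Finset.range (m + 1), (p.coeff i) • (z R (m + 1)) ^ i := by
  have h1 : (∑ i ∈ Finset.range (m + 1), (p.coeff i) • (z R (m + 1)) ^ i) =
      Ideal.Quotient.mk (Ideal.span {(X : R[X]) ^ (m + 1)})
        (∑ i ∈ Finset.range (m + 1), C (p.coeff i) * X ^ i) := by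
    rw [map_sum]
    refine Finset.sum_congr rfl (fun i _ => ?_)
    rw [← smul_eq_C_mul, ← map_pow]
    rfl
  rw [h1, Ideal.Quotient.eq, Ideal.mem_span_singleton, X_pow_dvd_iff]
  intro d hd
  rw [coeff_sub, finsetSum_coeff]
  simp only [coeff_C_mul, coeff_X_pow]
  rw [Finset.sum_eq_single d]
  · simp
  · intro b _ hb
    rw [if_neg (Ne.symm hb), mul_zero]
  · intro h
    exact absurd (Finset.mem_range.mpr hd) h

theorem lam_zpow_mul (k : ℕ) (hk : k ≤ m) (p : R[X]) :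
    lam R m (z R (m + 1) ^ k * Ideal.Quotient.mk (Ideal.span {(X : R[X]) ^ (m + 1)}) p) =
      p.coeff (m - k) := by
  rw [← map_pow, ← map_mul, lam_mk, coeff_X_pow_mul', if_pos hk]

theorem lam_zpow (i : ℕ) : lam R m (z R (m + 1) ^ i) = if m = i then 1 else 0 := by
  rw [← map_pow, lam_mk, coeff_X_pow]

theorem expand (a : Rn R (m + 1)) :
    a = ∑ i ∈ Finset.range (m + 1),
      (lam R m (z R (m + 1) ^ (m - i) * a)) • (z R (m + 1)) ^ i := by
  obtain ⟨p, rfl⟩ := Ideal.Quotient.mk_surjective a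
  conv_lhs => rw [mk_eq_sum R m p]
  refine Finset.sum_congr rfl (fun i hi => ?_)
  rw [lam_zpow_mul R m (m - i) (Nat.sub_le _ _)]
  have := Finset.mem_range.mp hi
  have e : m - (m - i) = i := by omega
  rw [e]

end Lam

section Mod

variable {R : Type*} [CommRing R] {m : ℕ}
variable {N : Type*} [AddCommGroup N] [Module (Rn R (m + 1)) N] [Module R N]
  [IsScalarTower R (Rn R (m + 1)) N]
variable {N' : Type*} [AddCommGroup N'] [Module (Rn R (m + 1)) N'] [Module R N']
  [IsScalarTower R (Rn R (m + 1)) N']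

omit [IsScalarTower R (Rn R (m + 1)) N] [IsScalarTower R (Rn R (m + 1)) N'] in
theorem map_zpow_smul (g : N →ₗ[R] N')
    (hg : ∀ u, g (z R (m + 1) • u) = z R (m + 1) • g u) (k : ℕ) (u : N) :
    g (z R (m + 1) ^ k • u) = z R (m + 1) ^ k • g u := by
  induction k generalizing u with
  | zero => simp
  | succ k ih =>
    rw [pow_succ (z R (m + 1)) k, mul_smul, ih, hg, ← mul_smul]

theorem map_smul_of_z (g : N →ₗ[R] N')
    (hg : ∀ u, g (z R (m + 1) • u) = z R (m + 1) • g u) (a : Rn R (m + 1)) (u : N) :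
    g (a • u) = a • g u := by
  obtain ⟨p, rfl⟩ := Ideal.Quotient.mk_surjective a
  rw [mk_eq_sum R m p, Finset.sum_smul, Finset.sum_smul, map_sum]
  refine Finset.sum_congr rfl (fun i _ => ?_)
  rw [smul_assoc, smul_assoc, map_smul, map_zpow_smul g hg]

/-- An `R`-linear map commuting with `z` is `R[X]/(X^(m+1))`-linear. -/
def ofZ (g : N →ₗ[R] N') (hg : ∀ u, g (z R (m + 1) • u) = z R (m + 1) • g u) :
    N →ₗ[Rn R (m + 1)] N' :=
  { toFun := g
    map_add' := g.map_add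
    map_smul' := fun a u => map_smul_of_z g hg a u }

@[simp] theorem ofZ_apply (g : N →ₗ[R] N')
    (hg : ∀ u, g (z R (m + 1) • u) = z R (m + 1) • g u) (u : N) : ofZ g hg u = g u := rfl

omit [Module R N] [IsScalarTower R (Rn R (m + 1)) N] in
theorem frob_inj (φ : N →ₗ[Rn R (m + 1)] Rn R (m + 1)) (h : ∀ u, lam R m (φ u) = 0) :
    φ = 0 := by
  ext u
  rw [LinearMap.zero_apply, expand R m (φ u)]
  refine Finset.sum_eq_zero (fun i _ => ?_)
  rw [← smul_eq_mul, ← map_smul, h, zero_smul]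

omit [Module R N] [IsScalarTower R (Rn R (m + 1)) N] in
theorem frob_inj' (φ₁ φ₂ : N →ₗ[Rn R (m + 1)] Rn R (m + 1))
    (h : ∀ u, lam R m (φ₁ u) = lam R m (φ₂ u)) : φ₁ = φ₂ := by
  rw [← sub_eq_zero]
  apply frob_inj
  intro u
  rw [LinearMap.sub_apply, map_sub, h, sub_self]

/-- The `R`-linear map `u ↦ ∑ ψ(z^(m-i) u) z^i`. -/
noncomputable def frobInvR (m : ℕ) {N : Type*} [AddCommGroup N] [Module (Rn R (m + 1)) N] [Module R N]
    [IsScalarTower R (Rn R (m + 1)) N] (ψ : N →ₗ[R] R) : N →ₗ[R] Rn R (m + 1) :=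
  ∑ i ∈ Finset.range (m + 1),
    (ψ ∘ₗ DistribSMul.toLinearMap R N (z R (m + 1) ^ (m - i))).smulRight
      (z R (m + 1) ^ i)

theorem frobInvR_apply (ψ : N →ₗ[R] R) (u : N) :
    frobInvR m ψ u = ∑ i ∈ Finset.range (m + 1),
      ψ (z R (m + 1) ^ (m - i) • u) • z R (m + 1) ^ i := by
  simp [frobInvR, LinearMap.sum_apply, DistribSMul.toLinearMap_apply]

theorem frobInvR_z (ψ : N →ₗ[R] R) (u : N) :
    frobInvR m ψ (z R (m + 1) • u) = z R (m + 1) • frobInvR m ψ u := by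
  rw [frobInvR_apply, frobInvR_apply, Finset.smul_sum, Finset.sum_range_succ',
    Finset.sum_range_succ]
  have h0 : z R (m + 1) ^ (m - 0) • z R (m + 1) • u = 0 := by
    rw [Nat.sub_zero, ← mul_smul, ← pow_succ, z_pow_n]
    exact zero_smul (Rn R (m + 1)) u
  have hm : z R (m + 1) • (ψ (z R (m + 1) ^ (m - m) • u) • z R (m + 1) ^ m) = 0 := by
    rw [smul_comm, smul_eq_mul, ← pow_succ', z_pow_n, smul_zero]
  rw [h0, map_zero, zero_smul, add_zero, hm, add_zero]
  refine Finset.sum_congr rfl (fun i hi => ?_)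
  have hi' := Finset.mem_range.mp hi
  have e : z R (m + 1) ^ (m - (i + 1)) • z R (m + 1) • u = z R (m + 1) ^ (m - i) • u := by
    rw [← mul_smul, ← pow_succ]
    congr 2
    omega
  rw [e, smul_comm (z R (m + 1)), smul_eq_mul, ← pow_succ']

theorem lam_frobInvR (ψ : N →ₗ[R] R) (u : N) : lam R m (frobInvR m ψ u) = ψ u := by
  rw [frobInvR_apply, map_sum]
  rw [Finset.sum_eq_single m]
  · rw [map_smul, lam_zpow, if_pos rfl, Nat.sub_self, pow_zero, one_smul, smul_eq_mul, mul_one]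
  · intro b _ hb
    rw [map_smul, lam_zpow, if_neg (Ne.symm hb), smul_zero]
  · intro h
    exact absurd (Finset.mem_range.mpr (Nat.lt_succ_self m)) h

theorem frob_surj (ψ : N →ₗ[R] R) :
    ∃ φ : N →ₗ[Rn R (m + 1)] Rn R (m + 1), ∀ u, lam R m (φ u) = ψ u :=
  ⟨ofZ (frobInvR m ψ) (frobInvR_z ψ), fun u => lam_frobInvR ψ u⟩

end Mod

end Groth.Agent.H89
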