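import Groth.Agent.H89.MultCrvBasic

set_option autoImplicit false
set_option linter.style.haveILetI false
set_option linter.unusedSectionVars false

namespace Groth.Agent.H89

open MultCrv

section Gam

variable (R : Type*) [CommRing R] (n : ℕ) (M : Type*) [AddCommGroup M] [Module (Rn R n) M]
  [Module R M] [IsScalarTower R (Rn R n) M]

/-- Elementwise form of "`G_i(M)` is torsion-free". -/
def G1tf (i : ℕ) : Prop := ∀ (r : R) (x y : M), r ≠ 0 →
  r • (z R n ^ i • x) = z R n ^ (i + 1) • y → ∃ y' : M, z R n ^ i • x = z R n ^ (i + 1) • y'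

/-- Elementwise form of "`Γ^(i)(M)` is torsion-free". -/
def Gam2tf (i : ℕ) : Prop := ∀ (r : R) (u a b : M), r ≠ 0 → z R n ^ (i + 1) • u = 0 →
  z R n ^ i • a = 0 → z R n ^ (i + 2) • b = 0 → r • u = a + z R n • b →
  ∃ a' b' : M, z R n ^ i • a' = 0 ∧ z R n ^ (i + 2) • b' = 0 ∧ u = a' + z R n • b'

/-- `z^j M` is saturated in `M`. -/
def Sat (j : ℕ) : Prop := ∀ (r : R) (u v : M), r ≠ 0 → r • u = z R n ^ j • v →
  ∃ v' : M, u = z R n ^ j • v'

theorem zpow_smul_eq_zero_of_le {j : ℕ} (hj : n ≤ j) (x : M) : z R n ^ j • x = 0 := by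
  have h0 : z R n ^ j = 0 := pow_eq_zero_of_le hj (z_pow_n R n)
  rw [h0]
  exact zero_smul (Rn R n) x

theorem sat_of_G1tf (h : ∀ i < n, G1tf R n M i) : ∀ j, Sat R n M j := by
  intro j
  induction j with
  | zero => intro r u v _ _; exact ⟨u, by rw [pow_zero, one_smul]⟩
  | succ j ih =>
    intro r u v hr huv
    have h1 : r • u = z R n ^ j • (z R n • v) := by
      rw [huv, pow_succ (z R n) j, mul_smul]
    obtain ⟨x, rfl⟩ := ih r u (z R n • v) hr h1
    by_cases hj : j < n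
    · obtain ⟨y', hy'⟩ := h j hj r x v hr huv
      exact ⟨y', hy'⟩
    · refine ⟨0, ?_⟩
      rw [smul_zero, zpow_smul_eq_zero_of_le R n M (not_lt.mp hj)]

theorem gam2tf_of_sat (h : ∀ j, Sat R n M j) (i : ℕ) : Gam2tf R n M i := by
  intro r u a b hr hu ha hb hrel
  have h1 : r • (z R n ^ i • u) = z R n ^ (i + 1) • b := by
    rw [smul_comm r (z R n ^ i) u, hrel, smul_add, ha, zero_add, smul_smul, ← pow_succ]
  obtain ⟨b', hb'⟩ := h (i + 1) r (z R n ^ i • u) b hr h1
  refine ⟨u - z R n • b', b', ?_, ?_, by abel⟩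
  · rw [smul_sub, hb', smul_smul, ← pow_succ, sub_self]
  · show z R n ^ (i + 1 + 1) • b' = 0
    rw [pow_succ' (z R n) (i + 1), mul_smul, ← hb', smul_smul, ← pow_succ', hu]

theorem q1_of_gam2tf (h : ∀ i < n, Gam2tf R n M i) : ∀ j (r : R) (u v : M), r ≠ 0 →
    z R n • u = 0 → r • u = z R n ^ j • v → ∃ v', u = z R n ^ j • v' := by
  intro j
  induction j with
  | zero => intro r u v _ _ _; exact ⟨u, by rw [pow_zero, one_smul]⟩
  | succ j ih =>
    intro r u v hr hzu huv
    have h1 : r • u = z R n ^ j • (z R n • v) := by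
      rw [huv, pow_succ (z R n) j, mul_smul]
    obtain ⟨v₁, rfl⟩ := ih r u (z R n • v) hr hzu h1
    by_cases hj : j < n
    · have c1 : z R n ^ (j + 1) • v₁ = 0 := by
        rw [pow_succ' (z R n) j, mul_smul, hzu]
      have c2 : z R n ^ j • (r • v₁ - z R n • v) = 0 := by
        rw [smul_sub, smul_comm (z R n ^ j) r v₁, huv, smul_smul, ← pow_succ, sub_self]
      have c3 : z R n ^ (j + 2) • v = 0 := by
        show z R n ^ (j + 1 + 1) • v = 0
        rw [pow_succ' (z R n) (j + 1), mul_smul, ← huv, smul_comm (z R n) r, hzu, smul_zero]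
      obtain ⟨a', b', ha', hb', hv₁⟩ :=
        h j hj r v₁ (r • v₁ - z R n • v) v hr c1 c2 c3 (by abel)
      refine ⟨b', ?_⟩
      rw [hv₁, smul_add, ha', zero_add, smul_smul, ← pow_succ]
    · refine ⟨0, ?_⟩
      rw [smul_zero, zpow_smul_eq_zero_of_le R n M (not_lt.mp hj)]

theorem sat_of_q1 (hq : ∀ j (r : R) (u v : M), r ≠ 0 → z R n • u = 0 →
    r • u = z R n ^ j • v → ∃ v', u = z R n ^ j • v') :
    ∀ l j (r : R) (u v : M), r ≠ 0 → z R n ^ l • u = 0 → r • u = z R n ^ j • v →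
      ∃ v', u = z R n ^ j • v' := by
  intro l
  induction l with
  | zero =>
    intro j r u v _ hu _
    rw [pow_zero, one_smul] at hu
    exact ⟨0, by rw [hu, smul_zero]⟩
  | succ l ih =>
    intro j r u v hr hu huv
    have h1 : z R n ^ l • (z R n • u) = 0 := by
      rw [smul_smul, ← pow_succ]
      exact hu
    have h2 : r • (z R n • u) = z R n ^ (j + 1) • v := by
      rw [smul_comm r (z R n) u, huv, smul_smul, ← pow_succ']
    obtain ⟨v', hv'⟩ := ih (j + 1) r (z R n • u) v hr h1 h2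
    have h3 : z R n • (u - z R n ^ j • v') = 0 := by
      rw [smul_sub, hv', smul_smul, ← pow_succ', sub_self]
    have h4 : r • (u - z R n ^ j • v') = z R n ^ j • (v - r • v') := by
      rw [smul_sub, huv, smul_sub, smul_comm r (z R n ^ j) v']
    obtain ⟨v'', hv''⟩ := hq j r (u - z R n ^ j • v') (v - r • v') hr h3 h4
    exact ⟨v'' + v', by rw [smul_add, ← hv'']; abel⟩

theorem main_elementwise :
    (∀ i < n, G1tf R n M i) ↔ (∀ i < n, Gam2tf R n M i) := by
  constructor
  · intro h i _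
    exact gam2tf_of_sat R n M (sat_of_G1tf R n M h) i
  · intro h i _ r x y hr hxy
    have hs := sat_of_q1 R n M (q1_of_gam2tf R n M h) n (i + 1) r (z R n ^ i • x) y hr
      (by rw [smul_smul, ← pow_add, zpow_smul_eq_zero_of_le R n M (Nat.le_add_right n i)]) hxy
    exact hs

theorem mem_filt_iff (j : ℕ) (w : M) : w ∈ filt R n M j ↔ ∃ x : M, z R n ^ j • x = w := by
  unfold filt
  rw [LinearMap.mem_range]
  rfl

theorem mem_filt2_iff (j : ℕ) (u : M) : u ∈ filt2 R n M j ↔ z R n ^ j • u = 0 :=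
  Submodule.mem_torsionBy_iff _ _

theorem g1_mk_eq_zero_iff (i : ℕ) (w : ↥(filt R n M i)) :
    (Submodule.Quotient.mk w : G1 R n M i) = 0 ↔ (w : M) ∈ filt R n M (i + 1) := by
  rw [Submodule.Quotient.mk_eq_zero, Submodule.mem_comap]
  rfl

theorem g1_tf_iff [IsDomain R] (i : ℕ) :
    Module.IsTorsionFree R (G1 R n M i) ↔ G1tf R n M i := by
  constructor
  · intro htf r x y hr hxy
    have hw : z R n ^ i • x ∈ filt R n M i := (mem_filt_iff R n M i _).mpr ⟨x, rfl⟩
    have h0 : r • (Submodule.Quotient.mk ⟨z R n ^ i • x, hw⟩ : G1 R n M i) = 0 := by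
      rw [← Submodule.Quotient.mk_smul, g1_mk_eq_zero_iff]
      exact (mem_filt_iff R n M (i + 1) _).mpr ⟨y, hxy.symm⟩
    have h1 := (smul_eq_zero_iff_right hr).mp h0
    rw [g1_mk_eq_zero_iff] at h1
    obtain ⟨y', hy'⟩ := (mem_filt_iff R n M (i + 1) _).mp h1
    exact ⟨y', hy'.symm⟩
  · intro h
    rw [Module.isTorsionFree_iff_smul_eq_zero]
    intro r q hrq
    by_cases hr : r = 0
    · exact Or.inl hr
    right
    obtain ⟨⟨w, hw⟩, rfl⟩ := Submodule.Quotient.mk_surjective _ q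
    rw [← Submodule.Quotient.mk_smul, g1_mk_eq_zero_iff] at hrq
    obtain ⟨x, rfl⟩ := (mem_filt_iff R n M i w).mp hw
    obtain ⟨y, hy⟩ := (mem_filt_iff R n M (i + 1) _).mp hrq
    obtain ⟨y', hy'⟩ := h r x y hr hy.symm
    rw [g1_mk_eq_zero_iff]
    exact (mem_filt_iff R n M (i + 1) _).mpr ⟨y', hy'.symm⟩

theorem gam2_mk_eq_zero_iff (i : ℕ) (u : M) (hu : u ∈ filt2 R n M (i + 1)) :
    (Submodule.Quotient.mk (Submodule.Quotient.mk ⟨u, hu⟩ : G2 R n M (i + 1)) :
      Gam2 R n M i) = 0 ↔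
      ∃ a b : M, z R n ^ i • a = 0 ∧ z R n ^ (i + 2) • b = 0 ∧ u = a + z R n • b := by
  rw [Submodule.Quotient.mk_eq_zero, LinearMap.mem_range]
  constructor
  · rintro ⟨y, hy⟩
    obtain ⟨⟨b, hb⟩, rfl⟩ := Submodule.Quotient.mk_surjective _ y
    have h1 : (Submodule.Quotient.mk (zDown R n M (i + 1) ⟨b, hb⟩) : G2 R n M (i + 1)) =
        Submodule.Quotient.mk ⟨u, hu⟩ := hy
    rw [Submodule.Quotient.eq, Submodule.mem_comap, mem_filt2_iff] at h1
    have h2 : z R n ^ i • (z R n • b - u) = 0 := h1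
    refine ⟨u - z R n • b, b, ?_, (mem_filt2_iff R n M (i + 2) b).mp hb, by abel⟩
    rw [← neg_sub, smul_neg, h2, neg_zero]
  · rintro ⟨a, b, ha, hb, rfl⟩
    refine ⟨Submodule.Quotient.mk ⟨b, (mem_filt2_iff R n M (i + 2) b).mpr hb⟩, ?_⟩
    change (Submodule.Quotient.mk (zDown R n M (i + 1) ⟨b, _⟩) : G2 R n M (i + 1)) = _
    rw [Submodule.Quotient.eq, Submodule.mem_comap, mem_filt2_iff]
    change z R n ^ i • (z R n • b - (a + z R n • b)) = 0
    rw [sub_add_cancel_right, smul_neg, ha, neg_zero]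

theorem gam2_tf_iff [IsDomain R] (i : ℕ) :
    Module.IsTorsionFree R (Gam2 R n M i) ↔ Gam2tf R n M i := by
  constructor
  · intro htf r u a b hr hu ha hb hrel
    have hu' : u ∈ filt2 R n M (i + 1) := (mem_filt2_iff R n M (i + 1) u).mpr hu
    have hru' : r • u ∈ filt2 R n M (i + 1) := Submodule.smul_of_tower_mem _ r hu'
    have h0 : r • (Submodule.Quotient.mk (Submodule.Quotient.mk ⟨u, hu'⟩ : G2 R n M (i + 1)) :
        Gam2 R n M i) = 0 := by
      have h00 : r • (Submodule.Quotient.mk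
          (Submodule.Quotient.mk ⟨u, hu'⟩ : G2 R n M (i + 1)) : Gam2 R n M i) =
          (Submodule.Quotient.mk (Submodule.Quotient.mk ⟨r • u, hru'⟩ : G2 R n M (i + 1)) :
            Gam2 R n M i) := rfl
      rw [h00, gam2_mk_eq_zero_iff]
      exact ⟨a, b, ha, hb, hrel⟩
    have h1 := (smul_eq_zero_iff_right hr).mp h0
    exact (gam2_mk_eq_zero_iff R n M i u hu').mp h1
  · intro h
    rw [Module.isTorsionFree_iff_smul_eq_zero]
    intro r q hrq
    by_cases hr : r = 0
    · exact Or.inl hr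
    right
    obtain ⟨q', rfl⟩ := Submodule.Quotient.mk_surjective _ q
    obtain ⟨⟨u, hu⟩, rfl⟩ := Submodule.Quotient.mk_surjective _ q'
    have hru' : r • u ∈ filt2 R n M (i + 1) := Submodule.smul_of_tower_mem _ r hu
    have h00 : r • (Submodule.Quotient.mk
        (Submodule.Quotient.mk ⟨u, hu⟩ : G2 R n M (i + 1)) : Gam2 R n M i) =
        (Submodule.Quotient.mk (Submodule.Quotient.mk ⟨r • u, hru'⟩ : G2 R n M (i + 1)) :
          Gam2 R n M i) := rfl
    have h0 : (Submodule.Quotient.mk (Submodule.Quotient.mk ⟨r • u, hru'⟩ : G2 R n M (i + 1)) :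
        Gam2 R n M i) = 0 := by
      rw [← h00]
      exact hrq
    obtain ⟨a, b, ha, hb, hrel⟩ := (gam2_mk_eq_zero_iff R n M i (r • u) hru').mp h0
    obtain ⟨a', b', ha', hb', hu''⟩ :=
      h r u a b hr ((mem_filt2_iff R n M (i + 1) u).mp hu) ha hb hrel
    exact (gam2_mk_eq_zero_iff R n M i u hu).mpr ⟨a', b', ha', hb', hu''⟩

theorem free_G1_iff_free_Gam2 [IsDomain R] [IsPrincipalIdealRing R]
    [Module.Finite (Rn R n) M] :
    (∀ i : ℕ, i < n → Module.Free R (G1 R n M i)) ↔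
      (∀ i : ℕ, i < n → Module.Free R (Gam2 R n M i)) := by
  have fin1 : ∀ i, Module.Finite R (G1 R n M i) := fun i => by
    haveI := finite_R_sub R n M (filt R n M i)
    exact Module.Finite.equiv (Submodule.Quotient.restrictScalarsEquiv R
      (Submodule.comap (filt R n M i).subtype (filt R n M (i + 1))))
  have fin2 : ∀ i, Module.Finite R (Gam2 R n M i) := fun i => by
    haveI := finite_R_sub R n M (filt2 R n M (i + 1))
    haveI : Module.Finite R (G2 R n M (i + 1)) :=
      Module.Finite.equiv (Submodule.Quotient.restrictScalarsEquiv R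
        (Submodule.comap (filt2 R n M (i + 1)).subtype (filt2 R n M (i + 1 - 1))))
    exact Module.Finite.equiv (Submodule.Quotient.restrictScalarsEquiv R
      (LinearMap.range (lamG2 R n M i)))
  have e1 : ∀ i, Module.Free R (G1 R n M i) ↔ G1tf R n M i := fun i => by
    haveI := fin1 i
    rw [Module.free_iff_isTorsionFree, g1_tf_iff]
  have e2 : ∀ i, Module.Free R (Gam2 R n M i) ↔ Gam2tf R n M i := fun i => by
    haveI := fin2 i
    rw [Module.free_iff_isTorsionFree, gam2_tf_iff]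
  simp only [e1, e2]
  exact main_elementwise R n M

end Gam

end Groth.Agent.H89
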