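import Groth.Agent.H89.MultCrvBasic
import Mathlib.Algebra.Module.Projective
import Mathlib.LinearAlgebra.Pi
import Mathlib.LinearAlgebra.Isomorphisms
import Mathlib.LinearAlgebra.FreeModule.Basic
import Mathlib.LinearAlgebra.Span.Basic

set_option autoImplicit false
set_option linter.style.haveILetI false
set_option linter.unusedSectionVars false

namespace Groth.Agent.H89

open Polynomial MultCrv

section QF

variable (R : Type*) [CommRing R] (n : ℕ)

theorem eq_top_of_forall_exists_add_z {N : Type*} [AddCommGroup N] [Module (Rn R n) N]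
    (S : Submodule (Rn R n) N)
    (h : ∀ y : N, ∃ s ∈ S, ∃ y' : N, y = s + z R n • y') : S = ⊤ := by
  have key : ∀ k : ℕ, ∀ y : N, ∃ s ∈ S, ∃ y' : N, y = s + z R n ^ k • y' := by
    intro k
    induction k with
    | zero => intro y; exact ⟨0, S.zero_mem, y, by simp⟩
    | succ k ih =>
      intro y
      obtain ⟨s, hs, y', rfl⟩ := ih y
      obtain ⟨s', hs', y'', rfl⟩ := h y'
      refine ⟨s + z R n ^ k • s', S.add_mem hs (S.smul_mem _ hs'), y'', ?_⟩
      rw [smul_add, smul_smul, ← pow_succ, add_assoc]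
  rw [eq_top_iff]
  intro y _
  obtain ⟨s, hs, y', rfl⟩ := key n y
  have hz : z R n ^ n • y' = 0 := by rw [z_pow_n]; exact zero_smul (Rn R n) y'
  rw [hz, add_zero]
  exact hs

theorem eq_bot_of_forall_exists_z {N : Type*} [AddCommGroup N] [Module (Rn R n) N]
    (Q : Submodule (Rn R n) N)
    (h : ∀ f ∈ Q, ∃ f' ∈ Q, f = z R n • f') : Q = ⊥ := by
  have key : ∀ k : ℕ, ∀ f ∈ Q, ∃ f' ∈ Q, f = z R n ^ k • f' := by
    intro k
    induction k with
    | zero => intro f hf; exact ⟨f, hf, by simp⟩
    | succ k ih =>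
      intro f hf
      obtain ⟨f', hf', rfl⟩ := ih f hf
      obtain ⟨f'', hf'', rfl⟩ := h f' hf'
      exact ⟨f'', hf'', by rw [smul_smul, ← pow_succ]⟩
  rw [eq_bot_iff]
  intro f hf
  obtain ⟨f', _, rfl⟩ := key n f hf
  have hz : z R n ^ n • f' = 0 := by rw [z_pow_n]; exact zero_smul (Rn R n) f'
  rw [hz]
  exact Submodule.zero_mem _

theorem mul_zpow_eq_zero_iff [IsDomain R] (a b : ℕ) (hab : a + b = n) (x : Rn R n) :
    x * z R n ^ a = 0 ↔ z R n ^ b ∣ x := by
  constructor
  · intro h
    obtain ⟨p, rfl⟩ := Ideal.Quotient.mk_surjective x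
    rw [← map_pow, ← map_mul, Ideal.Quotient.eq_zero_iff_mem, Ideal.mem_span_singleton] at h
    have h' : (X : R[X]) ^ b * X ^ a ∣ p * X ^ a := by
      rw [← pow_add, add_comm b a, hab]
      exact h
    have h2 := (mul_dvd_mul_iff_right (pow_ne_zero a (X_ne_zero (R := R)))).mp h'
    obtain ⟨q, rfl⟩ := h2
    exact ⟨Ideal.Quotient.mk _ q, by rw [map_mul, map_pow]⟩
  · rintro ⟨c, rfl⟩
    rw [mul_comm, ← mul_assoc, ← pow_add, hab, z_pow_n, zero_mul]

/-- `(z^a) ≅ A/(z^b)` when `a + b = n`. -/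
noncomputable def idealEquiv [IsDomain R] (a b : ℕ) (hab : a + b = n) :
    ↥(Ideal.span {z R n ^ a}) ≃ₗ[Rn R n] Oi R n b :=
  have hr : LinearMap.range (LinearMap.toSpanSingleton (Rn R n) (Rn R n) (z R n ^ a)) =
      Ideal.span {z R n ^ a} := LinearMap.range_toSpanSingleton _
  have hk : LinearMap.ker (LinearMap.toSpanSingleton (Rn R n) (Rn R n) (z R n ^ a)) =
      Ideal.span {z R n ^ b} := by
    ext x
    rw [LinearMap.mem_ker, LinearMap.toSpanSingleton_apply, smul_eq_mul,
      Ideal.mem_span_singleton]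
    exact mul_zpow_eq_zero_iff R n a b hab x
  (LinearEquiv.ofEq _ _ hr.symm).trans
    ((LinearMap.toSpanSingleton (Rn R n) (Rn R n) (z R n ^ a)).quotKerEquivRange.symm.trans
      (Submodule.quotEquivOfEq _ _ hk))

/-- The index involution `i ↦ n - 2 - i` for `i + 1 < n`, fixing `n - 1`. -/
def sigFun (i : Fin n) : Fin n :=
  if h : i.1 + 1 < n then ⟨n - 2 - i.1, by omega⟩ else i

theorem sigFun_val_of_lt (i : Fin n) (h : i.1 + 1 < n) : (sigFun n i).1 = n - 2 - i.1 := by
  unfold sigFun
  rw [dif_pos h]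

theorem sigFun_of_not_lt (i : Fin n) (h : ¬ i.1 + 1 < n) : sigFun n i = i := by
  unfold sigFun
  rw [dif_neg h]

theorem sigFun_invol : Function.Involutive (sigFun n) := by
  intro i
  by_cases h : i.1 + 1 < n
  · have h1 := sigFun_val_of_lt n i h
    have h2 : (sigFun n i).1 + 1 < n := by omega
    apply Fin.ext
    rw [sigFun_val_of_lt n _ h2, h1]
    omega
  · rw [sigFun_of_not_lt n i h, sigFun_of_not_lt n i h]

def sig : Fin n ≃ Fin n := (sigFun_invol n).toPerm

theorem sig_apply (i : Fin n) : sig n i = sigFun n i := rfl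

variable {n} in
theorem revType_sig_of_lt (m : Fin n → ℕ) (i : Fin n) (h : i.1 + 1 < n) :
    m i = revType n m (sig n i) := by
  have h1 := sigFun_val_of_lt n i h
  have h2 : (sig n i).1 + 1 < n := by rw [sig_apply]; omega
  unfold revType
  rw [dif_pos h2]
  congr 1
  apply Fin.ext
  simp only [sig_apply, h1]
  omega

variable {n} in
theorem revType_sig_of_not_lt (m : Fin n → ℕ) (i : Fin n) (h : ¬ i.1 + 1 < n) :
    revType n m (sig n i) = 0 := by
  have h2 : ¬ (sig n i).1 + 1 < n := by rw [sig_apply, sigFun_of_not_lt n i h]; exact h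
  unfold revType
  rw [dif_neg h2]

/-- Componentwise equivalence used for the kernel of the standard cover. -/
noncomputable def compEquiv [IsDomain R] (m : Fin n → ℕ) (i : Fin n) :
    (Fin (m i) → ↥(Ideal.span {z R n ^ (i.1 + 1)})) ≃ₗ[Rn R n]
      (Fin (revType n m (sig n i)) → Oi R n ((sig n i).1 + 1)) :=
  if h : i.1 + 1 < n then
    (LinearEquiv.piCongrRight (fun _ => idealEquiv R n (i.1 + 1) ((sig n i).1 + 1) (by
      rw [sig_apply, sigFun_val_of_lt n i h]; omega))).trans
      (LinearEquiv.funCongrLeft (Rn R n) _ (finCongr (revType_sig_of_lt m i h).symm))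
  else by
    haveI : Subsingleton ↥(Ideal.span {z R n ^ (i.1 + 1)}) := by
      have h1 : i.1 + 1 = n := by have := i.2; omega
      rw [h1, z_pow_n]
      have : (Ideal.span {(0 : Rn R n)}) = ⊥ := Ideal.span_singleton_eq_bot.mpr rfl
      rw [this]
      infer_instance
    haveI : IsEmpty (Fin (revType n m (sig n i))) := by
      rw [revType_sig_of_not_lt m i h]
      infer_instance
    exact LinearEquiv.ofSubsingleton _ _

variable {n} in
/-- The standard cover of the product of the `A/(z^(i+1))`. -/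
noncomputable def piMap (m : Fin n → ℕ) : ((i : Fin n) → Fin (m i) → Rn R n) →ₗ[Rn R n]
    ((i : Fin n) → Fin (m i) → Oi R n (i.1 + 1)) where
  toFun f := fun i k => Ideal.Quotient.mk _ (f i k)
  map_add' f g := by
    funext i k
    exact map_add _ _ _
  map_smul' a f := by
    funext i k
    exact (Ideal.Quotient.mk (Ideal.span {z R n ^ (i.1 + 1)})).map_mul a (f i k)

variable {n} in
theorem piMap_surjective (m : Fin n → ℕ) : Function.Surjective (piMap R m) := by
  intro y
  refine ⟨fun i k => Classical.choose (Ideal.Quotient.mk_surjective (y i k)), ?_⟩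
  funext i k
  exact Classical.choose_spec (Ideal.Quotient.mk_surjective (y i k))

variable {n} in
theorem mem_ker_piMap (m : Fin n → ℕ) (f : (i : Fin n) → Fin (m i) → Rn R n) :
    f ∈ LinearMap.ker (piMap R m) ↔ ∀ i k, f i k ∈ Ideal.span {z R n ^ (i.1 + 1)} := by
  rw [LinearMap.mem_ker]
  constructor
  · intro h i k
    have := congrFun (congrFun h i) k
    exact Ideal.Quotient.eq_zero_iff_mem.mp this
  · intro h
    funext i k
    exact Ideal.Quotient.eq_zero_iff_mem.mpr (h i k)

variable {n} in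
/-- The kernel of the standard cover as a product of ideals. -/
noncomputable def kerPiEquiv (m : Fin n → ℕ) : ↥(LinearMap.ker (piMap R m)) ≃ₗ[Rn R n]
    ((i : Fin n) → Fin (m i) → ↥(Ideal.span {z R n ^ (i.1 + 1)})) where
  toFun x := fun i k => ⟨x.1 i k, (mem_ker_piMap R m x.1).mp x.2 i k⟩
  invFun y := ⟨fun i k => (y i k).1, (mem_ker_piMap R m _).mpr (fun i k => (y i k).2)⟩
  map_add' _ _ := rfl
  map_smul' _ _ := rfl
  left_inv _ := rfl
  right_inv _ := rfl

variable {n} in
/-- S17940 core: kernel of a minimal free cover of a quasi-free module. -/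
theorem ker_quasiFree [IsDomain R] (m : Fin n → ℕ) (M : Type*) [AddCommGroup M]
    [Module (Rn R n) M] (hM : IsQuasiFreeOfType R n M m) (r : ℕ)
    (φ : (Fin r → Rn R n) →ₗ[Rn R n] M) (hφ : Function.Surjective φ)
    (hφz : ∀ f : Fin r → Rn R n, φ f ∈ filt R n M 1 → f ∈ filt R n (Fin r → Rn R n) 1) :
    IsQuasiFreeOfType R n ↥(LinearMap.ker φ) (revType n m) := by
  obtain ⟨e₀⟩ := hM
  let e : M ≃ₗ[Rn R n] ((i : Fin n) → Fin (m i) → Oi R n (i.1 + 1)) :=
    e₀.trans (QFModel.equivPi R n m)
  -- lift through the standard cover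
  obtain ⟨θ, hθ⟩ := Module.projective_lifting_property (piMap R m) (e.toLinearMap ∘ₗ φ)
    (piMap_surjective R m)
  have hθ' : ∀ f, piMap R m (θ f) = e (φ f) := fun f => LinearMap.congr_fun hθ f
  -- θ is surjective
  have hsurj : Function.Surjective θ := by
    rw [← LinearMap.range_eq_top]
    apply eq_top_of_forall_exists_add_z
    intro y
    obtain ⟨f, hf⟩ := hφ (e.symm (piMap R m y))
    have hk : y - θ f ∈ LinearMap.ker (piMap R m) := by
      rw [LinearMap.mem_ker, map_sub, hθ', hf, LinearEquiv.apply_symm_apply]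
      exact sub_self (piMap R m y)
    rw [mem_ker_piMap] at hk
    have hc : ∀ i k, ∃ c, (y - θ f) i k = z R n ^ (i.1 + 1) * c := fun i k =>
      Ideal.mem_span_singleton'.mp (hk i k) |>.imp (fun c hc => by rw [← hc, mul_comm])
    choose c hc using hc
    refine ⟨θ f, LinearMap.mem_range_self _ _, fun i k => z R n ^ i.1 * c i k, ?_⟩
    funext i k
    have := hc i k
    rw [Pi.sub_apply, Pi.sub_apply, sub_eq_iff_eq_add'] at this
    rw [Pi.add_apply, Pi.add_apply, this, Pi.smul_apply, Pi.smul_apply, smul_eq_mul,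
      ← mul_assoc, ← pow_succ']
  -- θ is injective
  obtain ⟨σ, hσ⟩ := Module.projective_lifting_property θ LinearMap.id hsurj
  have hσ' : ∀ y, θ (σ y) = y := fun y => LinearMap.congr_fun hσ y
  have hinj : Function.Injective θ := by
    rw [← LinearMap.ker_eq_bot]
    apply eq_bot_of_forall_exists_z
    intro f hf
    rw [LinearMap.mem_ker] at hf
    have h0 : φ f = 0 := by
      have := hθ' f
      rw [hf, map_zero] at this
      exact e.map_eq_zero_iff.mp this.symm
    have h1 := hφz f (by rw [h0]; exact Submodule.zero_mem _)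
    obtain ⟨f₁, hf₁⟩ := h1
    have hf₁' : z R n • f₁ = f := by
      rw [LinearMap.smul_apply, LinearMap.id_apply, pow_one] at hf₁
      exact hf₁
    refine ⟨f₁ - σ (θ f₁), ?_, ?_⟩
    · rw [LinearMap.mem_ker, map_sub, hσ', sub_self]
    · rw [smul_sub, ← map_smul, ← map_smul, hf₁', hf, map_zero, sub_zero]
  let Θ : (Fin r → Rn R n) ≃ₗ[Rn R n] ((i : Fin n) → Fin (m i) → Rn R n) :=
    LinearEquiv.ofBijective θ ⟨hinj, hsurj⟩
  have hΘ : ∀ f, Θ f = θ f := fun f => rfl
  have hmap : Submodule.map Θ.toLinearMap (LinearMap.ker φ) = LinearMap.ker (piMap R m) := by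
    ext y
    constructor
    · rintro ⟨x, hx, rfl⟩
      rw [SetLike.mem_coe, LinearMap.mem_ker] at hx
      rw [LinearMap.mem_ker, LinearEquiv.coe_coe, hΘ, hθ', hx, map_zero]
    · intro hy
      rw [LinearMap.mem_ker] at hy
      refine ⟨Θ.symm y, ?_, by simp⟩
      rw [SetLike.mem_coe, LinearMap.mem_ker]
      have := hθ' (Θ.symm y)
      rw [← hΘ, LinearEquiv.apply_symm_apply, hy] at this
      exact e.map_eq_zero_iff.mp this.symm
  exact ⟨(Θ.submoduleMap (LinearMap.ker φ)).trans ((LinearEquiv.ofEq _ _ hmap).trans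
    ((kerPiEquiv R m).trans ((LinearEquiv.piCongrRight (fun i => compEquiv R n m i)).trans
      ((LinearEquiv.piCongrLeft (Rn R n)
        (fun i' : Fin n => Fin (revType n m i') → Oi R n (i'.1 + 1)) (sig n)).trans
        (QFModel.equivPi R n (revType n m)).symm))))⟩

end QF

end Groth.Agent.H89
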