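import Mathlib
import Groth.Prelude.Def_CohB1

/-!
# (PSI) of helper18's squad for S2448: a graded algebra generated by finitely many elements of
degree one is a graded quotient of a polynomial ring
-/

set_option autoImplicit false
universe u
open CategoryTheory CategoryTheory.Limits AlgebraicGeometry Opposite

namespace Groth.Agent.H89.PGE_PSI

theorem aeval_mem_of_isHomogeneous {A S : Type u} [CommRing A] [CommRing S] [Algebra A S]
    (𝒜 : ℕ → Submodule A S) [GradedAlgebra 𝒜] (r : ℕ) (g : Fin (r + 1) → S)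
    (hg1 : ∀ i, g i ∈ 𝒜 1) {i : ℕ} {x : MvPolynomial (Fin (r + 1)) A}
    (hx : x.IsHomogeneous i) : MvPolynomial.aeval g x ∈ 𝒜 i := by
  rw [← x.support_sum_monomial_coeff, map_sum]
  refine Submodule.sum_mem _ (fun d hd => ?_)
  rw [MvPolynomial.aeval_monomial, ← Algebra.smul_def]
  refine Submodule.smul_mem _ _ ?_
  have hdeg : i = ∑ j ∈ d.support, d j := hx.degree_eq_sum_deg_support hd
  have hmem : ∏ j ∈ d.support, g j ^ d j ∈ 𝒜 (∑ j ∈ d.support, d j • 1) :=
    SetLike.prod_pow_mem_graded 𝒜 (fun _ => 1) g d (fun j _ => hg1 j)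
  simp only [smul_eq_mul, mul_one] at hmem
  rw [hdeg]
  exact hmem

theorem exists_gradedHom_of_gens {A S : Type u} [CommRing A] [CommRing S] [Algebra A S]
    (𝒜 : ℕ → Submodule A S) [GradedAlgebra 𝒜] (r : ℕ) (g : Fin (r + 1) → S)
    (hg1 : ∀ i, g i ∈ 𝒜 1) (hgen : Algebra.adjoin A (Set.range g) = ⊤) :
    ∃ ψ : CohB1.polyGrading r A →+*ᵍ 𝒜, Function.Surjective ψ := by
  refine ⟨{ toRingHom := (MvPolynomial.aeval g : MvPolynomial (Fin (r + 1)) A →ₐ[A] S).toRingHom
            map_mem := fun {i x} hx => aeval_mem_of_isHomogeneous 𝒜 r g hg1 hx }, ?_⟩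
  intro s
  have hs : s ∈ (MvPolynomial.aeval g : MvPolynomial (Fin (r + 1)) A →ₐ[A] S).range := by
    rw [← Algebra.adjoin_range_eq_range_aeval, hgen]
    trivial
  obtain ⟨p, hp⟩ := hs
  exact ⟨p, hp⟩

end Groth.Agent.H89.PGE_PSI
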