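import Groth.Agent.H89.PinchFlat
import Mathlib

/-!
# Pinching squares: descent of "finite projective" (ring-theoretic core)
-/

set_option autoImplicit false
universe u

open TensorProduct Function
open Groth.Agent.H10.FlatDescent

namespace Groth.Agent.H89.PinchProj

variable {A : Type u} [CommRing A]

/-- For a flat module `M` presented as `0 → K → F → M → 0` with `F` finite, and an algebra `C`
with `C ⊗ M` finitely presented, `C ⊗ K` is a finite `C`-module. -/
theorem finite_baseChange_ker (C : Type u) [CommRing C] [Algebra A C]
    (M F : Type u) [AddCommGroup M] [Module A M] [AddCommGroup F] [Module A F] [Module.Finite A F]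
    [Module.Flat A M] (π : F →ₗ[A] M) (hπ : Surjective π)
    [Module.FinitePresentation C (C ⊗[A] M)] :
    Module.Finite C (C ⊗[A] LinearMap.ker π) := by
  have hT : TorZero (R := A) M C := TorZero.of_flat
  have hinj_r : Injective ((LinearMap.ker π).subtype.rTensor C) :=
    hT.rTensor_injective (LinearMap.ker π).subtype π (Submodule.subtype_injective _) hπ
      (LinearMap.exact_subtype_ker_map π)
  have hinj_l : Injective ((LinearMap.ker π).subtype.lTensor C) := by
    have hc : (LinearMap.ker π).subtype.lTensor C =
        (TensorProduct.comm A F C).toLinearMap ∘ₗ ((LinearMap.ker π).subtype.rTensor C) ∘ₗ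
          (TensorProduct.comm A C (LinearMap.ker π)).toLinearMap := by
      apply TensorProduct.ext'
      intro c k
      simp
    rw [hc]
    exact (TensorProduct.comm A F C).injective.comp
      (hinj_r.comp (TensorProduct.comm A C (LinearMap.ker π)).injective)
  have hinj : Injective (LinearMap.baseChange C (LinearMap.ker π).subtype) := by
    rw [LinearMap.baseChange_eq_ltensor]; exact hinj_l
  have hex : Function.Exact (LinearMap.baseChange C (LinearMap.ker π).subtype)
      (LinearMap.baseChange C π) := by
    rw [LinearMap.baseChange_eq_ltensor, LinearMap.baseChange_eq_ltensor]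
    exact lTensor_exact C (LinearMap.exact_subtype_ker_map π) hπ
  have hsurj : Surjective (LinearMap.baseChange C π) := by
    rw [LinearMap.baseChange_eq_ltensor]; exact LinearMap.lTensor_surjective C hπ
  have hker : (LinearMap.ker (LinearMap.baseChange C π)).FG :=
    Module.FinitePresentation.fg_ker _ hsurj
  have hrange : LinearMap.range (LinearMap.baseChange C (LinearMap.ker π).subtype) =
      LinearMap.ker (LinearMap.baseChange C π) := (LinearMap.exact_iff.mp hex).symm
  rw [Module.finite_def]
  apply Submodule.fg_of_fg_map_injective (LinearMap.baseChange C (LinearMap.ker π).subtype) hinj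
  rw [Submodule.map_top, hrange]
  exact hker

variable {A' B : Type u} [CommRing A'] [CommRing B] [Algebra A A'] [Algebra A B]

/-- **Pinching: finite projective descends.** -/
theorem projective_of_pinch (hB : Surjective (algebraMap A B))
    (h1 : RingHom.ker (algebraMap A A') ⊓ RingHom.ker (algebraMap A B) = ⊥)
    (h2 : ∀ a ∈ Ideal.map (algebraMap A A') (RingHom.ker (algebraMap A B)),
        ∃ i ∈ RingHom.ker (algebraMap A B), algebraMap A A' i = a)
    (M : Type u) [AddCommGroup M] [Module A M]
    [Module.Finite A' (A' ⊗[A] M)] [Module.Projective A' (A' ⊗[A] M)]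
    [Module.Finite B (B ⊗[A] M)] [Module.Projective B (B ⊗[A] M)] :
    Module.Finite A M ∧ Module.Projective A M := by
  haveI hfin : Module.Finite A M := Groth.Agent.H89.PinchRing.finite_of_pinch hB h1 h2 M
  haveI hflat : Module.Flat A M := Groth.Agent.H89.PinchFlat.flat_of_pinch hB h1 h2 M
  obtain ⟨n, π, hπ⟩ := Module.Finite.exists_fin' A M
  haveI : Module.FinitePresentation A' (A' ⊗[A] M) := Module.finitePresentation_of_projective A' _
  haveI : Module.FinitePresentation B (B ⊗[A] M) := Module.finitePresentation_of_projective B _
  haveI := finite_baseChange_ker A' M (Fin n → A) π hπ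
  haveI := finite_baseChange_ker B M (Fin n → A) π hπ
  haveI hK : Module.Finite A (LinearMap.ker π) :=
    Groth.Agent.H89.PinchRing.finite_of_pinch hB h1 h2 (LinearMap.ker π)
  haveI : Module.FinitePresentation A M :=
    Module.finitePresentation_of_surjective π hπ (Module.Finite.iff_fg.mp hK)
  exact ⟨hfin, Module.Flat.projective_of_finitePresentation⟩

end Groth.Agent.H89.PinchProj
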