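import Groth.Agent.H8.PullbackSections
import Groth.Agent.H8.PullbackFinType
import Groth.Agent.H8.ZeroStalk
import Groth.Agent.H89.PinchRing
import Mathlib

/-!
# Pinching squares: descent of vanishing / finiteness of sections over affine opens
-/

set_option autoImplicit false
set_option linter.style.haveILetI false
universe u
open CategoryTheory CategoryTheory.Limits AlgebraicGeometry TopologicalSpace Opposite TensorProduct

namespace Groth.Agent.H89.PinchSheaf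

/-- Sections of a zero module vanish. -/
theorem subsingleton_sections_of_isZero {X : Scheme.{u}} (N : X.Modules) (h : IsZero N)
    (U : X.Opens) : Subsingleton Γ(N, U) := by
  refine ⟨fun a b => ?_⟩
  have h1 : (𝟙 N : N ⟶ N) = 0 := (IsZero.iff_id_eq_zero N).mp h
  have hz : ∀ c : Γ(N, U), c = 0 := by
    intro c
    have := congrArg (fun φ : N ⟶ N => φ.app U c) h1
    exact this
  rw [hz a, hz b]

/-- A module whose sections over all affine opens vanish is zero. -/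
theorem isZero_of_forall_affine_subsingleton {X : Scheme.{u}} (G : X.Modules)
    (h : ∀ V : X.Opens, IsAffineOpen V → Subsingleton Γ(G, V)) : IsZero G := by
  apply Groth.Agent.H8.isZero_of_subsingleton_stalk
  intro y
  refine ⟨fun a b => ?_⟩
  have hz : ∀ c : G.presheaf.stalk y, c = 0 := by
    intro c
    obtain ⟨U, hyU, s, rfl⟩ := TopCat.Presheaf.exists_germ_eq G.presheaf c
    obtain ⟨V, hV, hyV, hVU⟩ := exists_isAffineOpen_mem_and_subset (x := y) (U := U) hyU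
    haveI := h V hV
    have hVU' : V ≤ U := hVU
    have hs0 : G.presheaf.map (homOfLE hVU').op s = 0 := Subsingleton.elim _ _
    rw [← TopCat.Presheaf.germ_res_apply G.presheaf (homOfLE hVU') y hyV s, hs0, map_zero]
  rw [hz a, hz b]

section Main

variable {X Y Y' : Scheme.{u}} (f : X ⟶ Y) (u : Y' ⟶ Y) [IsAffineHom f] [IsClosedImmersion u]
  (G : Y.Modules) [G.IsQuasicoherent] {V : Y.Opens} (hV : IsAffineOpen V)
  (hM : RingHom.ker (f.app V).hom ⊓ RingHom.ker (u.app V).hom = ⊥ ∧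
      ∀ a ∈ Ideal.map (f.app V).hom (RingHom.ker (u.app V).hom),
        ∃ i ∈ RingHom.ker (u.app V).hom, (f.app V).hom i = a)

include hV hM in
theorem subsingleton_sections_of_pinch
    (h1 : Subsingleton Γ((Scheme.Modules.pullback u).obj G, u ⁻¹ᵁ V))
    (h2 : Subsingleton Γ((Scheme.Modules.pullback f).obj G, f ⁻¹ᵁ V)) :
    Subsingleton Γ(G, V) := by
  letI algA' : Algebra Γ(Y, V) Γ(X, f ⁻¹ᵁ V) := (f.appLE V (f ⁻¹ᵁ V) le_rfl).hom.toAlgebra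
  letI algB : Algebra Γ(Y, V) Γ(Y', u ⁻¹ᵁ V) := (u.appLE V (u ⁻¹ᵁ V) le_rfl).hom.toAlgebra
  have hfA : algebraMap Γ(Y, V) Γ(X, f ⁻¹ᵁ V) = (f.app V).hom := by
    show (f.appLE V (f ⁻¹ᵁ V) le_rfl).hom = _
    rw [Scheme.Hom.appLE_eq_app]
  have hfB : algebraMap Γ(Y, V) Γ(Y', u ⁻¹ᵁ V) = (u.app V).hom := by
    show (u.appLE V (u ⁻¹ᵁ V) le_rfl).hom = _
    rw [Scheme.Hom.appLE_eq_app]
  have e1 := Groth.Agent.H8.sectionsPullbackEquiv f G hV (hV.preimage f) le_rfl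
  have e2 := Groth.Agent.H8.sectionsPullbackEquiv u G hV (hV.preimage u) le_rfl
  haveI : Subsingleton (Γ(X, f ⁻¹ᵁ V) ⊗[Γ(Y, V)] Γ(G, V)) := e1.symm.toEquiv.subsingleton
  haveI : Subsingleton (Γ(Y', u ⁻¹ᵁ V) ⊗[Γ(Y, V)] Γ(G, V)) := e2.symm.toEquiv.subsingleton
  refine Groth.Agent.H89.PinchRing.subsingleton_of_pinch (A := Γ(Y, V)) (A' := Γ(X, f ⁻¹ᵁ V))
    (B := Γ(Y', u ⁻¹ᵁ V)) ?_ ?_ ?_ Γ(G, V)
  · rw [hfB]; exact u.app_surjective V hV
  · rw [hfA, hfB]; exact hM.1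
  · rw [hfA, hfB]; exact hM.2

include hV hM in
theorem finite_sections_of_pinch
    (h1 : Module.Finite Γ(Y', u ⁻¹ᵁ V) Γ((Scheme.Modules.pullback u).obj G, u ⁻¹ᵁ V))
    (h2 : Module.Finite Γ(X, f ⁻¹ᵁ V) Γ((Scheme.Modules.pullback f).obj G, f ⁻¹ᵁ V)) :
    Module.Finite Γ(Y, V) Γ(G, V) := by
  letI algA' : Algebra Γ(Y, V) Γ(X, f ⁻¹ᵁ V) := (f.appLE V (f ⁻¹ᵁ V) le_rfl).hom.toAlgebra
  letI algB : Algebra Γ(Y, V) Γ(Y', u ⁻¹ᵁ V) := (u.appLE V (u ⁻¹ᵁ V) le_rfl).hom.toAlgebra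
  have hfA : algebraMap Γ(Y, V) Γ(X, f ⁻¹ᵁ V) = (f.app V).hom := by
    show (f.appLE V (f ⁻¹ᵁ V) le_rfl).hom = _
    rw [Scheme.Hom.appLE_eq_app]
  have hfB : algebraMap Γ(Y, V) Γ(Y', u ⁻¹ᵁ V) = (u.app V).hom := by
    show (u.appLE V (u ⁻¹ᵁ V) le_rfl).hom = _
    rw [Scheme.Hom.appLE_eq_app]
  have e1 := Groth.Agent.H8.sectionsPullbackEquiv f G hV (hV.preimage f) le_rfl
  have e2 := Groth.Agent.H8.sectionsPullbackEquiv u G hV (hV.preimage u) le_rfl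
  haveI : Module.Finite Γ(X, f ⁻¹ᵁ V) (Γ(X, f ⁻¹ᵁ V) ⊗[Γ(Y, V)] Γ(G, V)) :=
    Module.Finite.equiv e1
  haveI : Module.Finite Γ(Y', u ⁻¹ᵁ V) (Γ(Y', u ⁻¹ᵁ V) ⊗[Γ(Y, V)] Γ(G, V)) :=
    Module.Finite.equiv e2
  refine Groth.Agent.H89.PinchRing.finite_of_pinch (A := Γ(Y, V)) (A' := Γ(X, f ⁻¹ᵁ V))
    (B := Γ(Y', u ⁻¹ᵁ V)) ?_ ?_ ?_ Γ(G, V)
  · rw [hfB]; exact u.app_surjective V hV
  · rw [hfA, hfB]; exact hM.1
  · rw [hfA, hfB]; exact hM.2

end Main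

end Groth.Agent.H89.PinchSheaf
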