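import Groth.Agent.H89.PinchSheafFlat
import Groth.Agent.H89.PinchProj
import Groth.Agent.H8.LocFreeSections
import Mathlib

/-!
# Pinching squares: descent of finite local freeness
-/

set_option autoImplicit false
set_option linter.style.haveILetI false
universe u
open CategoryTheory CategoryTheory.Limits AlgebraicGeometry TopologicalSpace Opposite TensorProduct

namespace Groth.Agent.H89.PinchSheafProj

open Groth.Agent.H8

/-- The pullback of a finite locally free quasi-coherent module along an affine morphism is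
finite locally free (via sections over affine opens). -/
theorem isFinLocFree_pullback_of_isAffineHom {X Y : Scheme.{u}} (f : X ⟶ Y) [IsAffineHom f]
    (G : Y.Modules) [G.IsQuasicoherent] (hG : FlatMod.IsFinLocFree G) :
    FlatMod.IsFinLocFree ((Scheme.Modules.pullback f).obj G) := by
  haveI : ((Scheme.Modules.pullback f).obj G).IsQuasicoherent := isQuasicoherent_pullback f G
  refine isFinLocFree_of_projective_sections _ (fun x => ?_)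
  obtain ⟨V, hV, hxV, -⟩ := exists_isAffineOpen_mem_and_subset (x := f x)
    (U := (⊤ : Y.Opens)) trivial
  obtain ⟨hfp, hproj⟩ := finitePresentation_projective_sections_of_isFinLocFree G hG hV
  letI alg : Algebra Γ(Y, V) Γ(X, f ⁻¹ᵁ V) := (f.appLE V (f ⁻¹ᵁ V) le_rfl).hom.toAlgebra
  have e1 := sectionsPullbackEquiv f G hV (hV.preimage f) le_rfl
  haveI : Module.Finite Γ(Y, V) Γ(G, V) := inferInstance
  haveI : Module.Finite Γ(X, f ⁻¹ᵁ V) (Γ(X, f ⁻¹ᵁ V) ⊗[Γ(Y, V)] Γ(G, V)) := inferInstance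
  haveI : Module.Projective Γ(X, f ⁻¹ᵁ V) (Γ(X, f ⁻¹ᵁ V) ⊗[Γ(Y, V)] Γ(G, V)) := inferInstance
  exact ⟨f ⁻¹ᵁ V, hV.preimage f, hxV, Module.Finite.equiv e1.symm,
    Module.Projective.of_equiv e1.symm⟩

section Main

variable {X Y Y' : Scheme.{u}} (f : X ⟶ Y) (u : Y' ⟶ Y) [IsAffineHom f] [IsClosedImmersion u]
  (G : Y.Modules) [G.IsQuasicoherent] {V : Y.Opens} (hV : IsAffineOpen V)
  (hM : RingHom.ker (f.app V).hom ⊓ RingHom.ker (u.app V).hom = ⊥ ∧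
      ∀ a ∈ Ideal.map (f.app V).hom (RingHom.ker (u.app V).hom),
        ∃ i ∈ RingHom.ker (u.app V).hom, (f.app V).hom i = a)

include hV hM in
theorem projective_sections_of_pinch
    (h1f : Module.Finite Γ(Y', u ⁻¹ᵁ V) Γ((Scheme.Modules.pullback u).obj G, u ⁻¹ᵁ V))
    (h1p : Module.Projective Γ(Y', u ⁻¹ᵁ V) Γ((Scheme.Modules.pullback u).obj G, u ⁻¹ᵁ V))
    (h2f : Module.Finite Γ(X, f ⁻¹ᵁ V) Γ((Scheme.Modules.pullback f).obj G, f ⁻¹ᵁ V))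
    (h2p : Module.Projective Γ(X, f ⁻¹ᵁ V) Γ((Scheme.Modules.pullback f).obj G, f ⁻¹ᵁ V)) :
    Module.Finite Γ(Y, V) Γ(G, V) ∧ Module.Projective Γ(Y, V) Γ(G, V) := by
  letI algA' : Algebra Γ(Y, V) Γ(X, f ⁻¹ᵁ V) := (f.appLE V (f ⁻¹ᵁ V) le_rfl).hom.toAlgebra
  letI algB : Algebra Γ(Y, V) Γ(Y', u ⁻¹ᵁ V) := (u.appLE V (u ⁻¹ᵁ V) le_rfl).hom.toAlgebra
  have hfA : algebraMap Γ(Y, V) Γ(X, f ⁻¹ᵁ V) = (f.app V).hom := by
    show (f.appLE V (f ⁻¹ᵁ V) le_rfl).hom = _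
    rw [Scheme.Hom.appLE_eq_app]
  have hfB : algebraMap Γ(Y, V) Γ(Y', u ⁻¹ᵁ V) = (u.app V).hom := by
    show (u.appLE V (u ⁻¹ᵁ V) le_rfl).hom = _
    rw [Scheme.Hom.appLE_eq_app]
  have e1 := Groth.Agent.H8.sectionsPullbackEquiv f G hV (hV.preimage f) le_rfl
  have e2 := Groth.Agent.H8.sectionsPullbackEquiv u G hV (hV.preimage u) le_rfl
  haveI : Module.Finite Γ(X, f ⁻¹ᵁ V) (Γ(X, f ⁻¹ᵁ V) ⊗[Γ(Y, V)] Γ(G, V)) :=
    Module.Finite.equiv e1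
  haveI : Module.Finite Γ(Y', u ⁻¹ᵁ V) (Γ(Y', u ⁻¹ᵁ V) ⊗[Γ(Y, V)] Γ(G, V)) :=
    Module.Finite.equiv e2
  haveI : Module.Projective Γ(X, f ⁻¹ᵁ V) (Γ(X, f ⁻¹ᵁ V) ⊗[Γ(Y, V)] Γ(G, V)) :=
    Module.Projective.of_equiv e1
  haveI : Module.Projective Γ(Y', u ⁻¹ᵁ V) (Γ(Y', u ⁻¹ᵁ V) ⊗[Γ(Y, V)] Γ(G, V)) :=
    Module.Projective.of_equiv e2
  refine Groth.Agent.H89.PinchProj.projective_of_pinch (A := Γ(Y, V)) (A' := Γ(X, f ⁻¹ᵁ V))
    (B := Γ(Y', u ⁻¹ᵁ V)) ?_ ?_ ?_ Γ(G, V)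
  · rw [hfB]; exact u.app_surjective V hV
  · rw [hfA, hfB]; exact hM.1
  · rw [hfA, hfB]; exact hM.2

end Main

end Groth.Agent.H89.PinchSheafProj
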