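import Mathlib

/-!
# Sections of a colimit of presheafed spaces of commutative rings

For a colimit cocone `c` of a diagram `F : J ⥤ PresheafedSpace CommRingCat` and an open `V` of `c.pt`,
the ring `Γ(c.pt, V)` is the limit of the rings `Γ(F j, ι_j⁻¹ V)`: sections are determined by their
pullbacks (`isColimit_ext`) and compatible families glue (`isColimit_exists`).  Specialised to pushout
squares (`pushout_sections_ext`, `pushout_sections_exists`).
-/

set_option autoImplicit false

open CategoryTheory CategoryTheory.Limits AlgebraicGeometry TopologicalSpace Opposite TopCat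

namespace Groth.Agent.H89.PushoutSections

universe u w t

/-- Compatible families lift to points of a limit cone in `CommRingCat`. -/
theorem exists_of_compatible {J : Type w} [Category.{t} J] (F : J ⥤ CommRingCat.{u})
    [PreservesLimit F (forget CommRingCat.{u})] {D : Cone F} (hD : IsLimit D)
    (x : ∀ j, F.obj j) (hx : ∀ {j j' : J} (f : j ⟶ j'), F.map f (x j) = x j') :
    ∃ y : D.pt, ∀ j, D.π.app j y = x j := by
  let E := (forget CommRingCat.{u}).mapCone D
  have hE : IsLimit E := isLimitOfPreserves _ hD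
  let sec : (F ⋙ forget CommRingCat.{u}).sections := ⟨fun j => x j, fun {j j'} f => hx f⟩
  refine ⟨(Types.isLimitEquivSections hE).symm sec, fun j => ?_⟩
  exact Types.isLimitEquivSections_symm_apply hE sec j

theorem map_map_eq {Y : TopCat.{u}} (P : Y.Presheaf CommRingCat.{u}) {A B B' D : (Opens Y)ᵒᵖ}
    (m₁ : A ⟶ B) (m₂ : B ⟶ D) (m₁' : A ⟶ B') (m₂' : B' ⟶ D) (w : P.obj A) :
    P.map m₂ (P.map m₁ w) = P.map m₂' (P.map m₁' w) := by
  rw [← CategoryTheory.comp_apply, ← CategoryTheory.comp_apply, ← P.map_comp, ← P.map_comp,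
    Subsingleton.elim (m₁ ≫ m₂) (m₁' ≫ m₂')]

theorem map_map_self {Y : TopCat.{u}} (P : Y.Presheaf CommRingCat.{u}) {A B : (Opens Y)ᵒᵖ}
    (m₁ : A ⟶ B) (m₂ : B ⟶ A) (w : P.obj A) : P.map m₂ (P.map m₁ w) = w := by
  rw [← CategoryTheory.comp_apply, ← P.map_comp, Subsingleton.elim (m₁ ≫ m₂) (𝟙 A), P.map_id]
  rfl

theorem map_congr_hom {Y : TopCat.{u}} (P : Y.Presheaf CommRingCat.{u}) {A B : (Opens Y)ᵒᵖ}
    (m m' : A ⟶ B) (w : P.obj A) : P.map m w = P.map m' w := by
  rw [Subsingleton.elim m m']

theorem map_self {Y : TopCat.{u}} (P : Y.Presheaf CommRingCat.{u}) {A : (Opens Y)ᵒᵖ}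
    (m : A ⟶ A) (w : P.obj A) : P.map m w = w := by
  rw [Subsingleton.elim m (𝟙 A), P.map_id]
  rfl

theorem c_naturality_apply {X Y : PresheafedSpace.{_, _, u} CommRingCat.{u}} (α : X ⟶ Y)
    {A B : Opens Y.carrier} (m : op A ⟶ op B) (w : Y.presheaf.obj (op A)) :
    α.c.app (op B) (Y.presheaf.map m w) =
      X.presheaf.map ((Opens.map α.base).op.map m) (α.c.app (op A) w) :=
  congrArg (fun k => (ConcreteCategory.hom k) w) (α.c.naturality m)

theorem comp_c_app_apply {X Y Z : PresheafedSpace.{_, _, u} CommRingCat.{u}} (α : X ⟶ Y) (β : Y ⟶ Z)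
    (γ : X ⟶ Z) (h : α ≫ β = γ) (V : Opens Z.carrier) (s : Z.presheaf.obj (op V)) :
    ∃ hU : (Opens.map α.base).obj ((Opens.map β.base).obj V) = (Opens.map γ.base).obj V,
      γ.c.app (op V) s = X.presheaf.map (eqToHom hU.symm).op
        (α.c.app (op ((Opens.map β.base).obj V)) (β.c.app (op V) s)) := by
  subst h
  exact ⟨rfl, (map_self X.presheaf _ _).symm⟩

section General

variable {J : Type w} [Category.{t} J] [HasColimitsOfShape J TopCat.{u}]
  [∀ X : TopCat.{u}, HasLimitsOfShape Jᵒᵖ (X.Presheaf CommRingCat.{u})]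
  [HasLimitsOfShape Jᵒᵖ CommRingCat.{u}] [PreservesLimitsOfShape Jᵒᵖ (forget CommRingCat.{u})]
  (F : J ⥤ PresheafedSpace.{_, _, u} CommRingCat.{u})

theorem colimit_ext (U : Opens (Limits.colimit F).carrier)
    (s t : (Limits.colimit F).presheaf.obj (op U))
    (hst : ∀ j, (colimit.ι F j).c.app (op U) s = (colimit.ι F j).c.app (op U) t) : s = t := by
  have hinj : Function.Injective (PresheafedSpace.colimitPresheafObjIsoComponentwiseLimit F U).hom :=
    (ConcreteCategory.bijective_of_isIso _).1
  apply hinj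
  apply Concrete.limit_ext
  intro j
  have h := PresheafedSpace.colimitPresheafObjIsoComponentwiseLimit_hom_π F U j.unop
  have h1 := hst j.unop
  rw [← h] at h1
  exact h1

theorem colimit_exists (U : Opens (Limits.colimit F).carrier)
    (x : ∀ j : J, (F.obj j).presheaf.obj (op ((Opens.map (colimit.ι F j).base).obj U)))
    (hx : ∀ {j j' : J} (φ : j ⟶ j'),
      (PresheafedSpace.componentwiseDiagram F U).map φ.op (x j') = x j) :
    ∃ s : (Limits.colimit F).presheaf.obj (op U), ∀ j, (colimit.ι F j).c.app (op U) s = x j := by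
  obtain ⟨y, hy⟩ := exists_of_compatible (PresheafedSpace.componentwiseDiagram F U)
    (limit.isLimit _) (fun j => x j.unop) (fun {j j'} f => hx f.unop)
  refine ⟨(PresheafedSpace.colimitPresheafObjIsoComponentwiseLimit F U).inv y, fun j => ?_⟩
  have h := PresheafedSpace.colimitPresheafObjIsoComponentwiseLimit_inv_ι_app F U j
  rw [← CategoryTheory.comp_apply, h]
  exact hy (op j)

section Transport

variable {c : Cocone F} (hc : IsColimit c) (V : Opens c.pt.carrier)

theorem map_w_obj (c : Cocone F) (V : Opens c.pt.carrier) {j j' : J} (φ : j ⟶ j') :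
    (Opens.map (c.ι.app j).base).obj V =
      (Opens.map (F.map φ).base).obj ((Opens.map (c.ι.app j').base).obj V) := by
  rw [← c.w φ]; rfl

include hc in
theorem key_app (j : J) (s : c.pt.presheaf.obj (op V)) :
    ∃ (hU : (Opens.map (colimit.ι F j).base).obj
        ((Opens.map (hc.coconePointUniqueUpToIso (colimit.isColimit F)).inv.base).obj V) =
          (Opens.map (c.ι.app j).base).obj V),
      (c.ι.app j).c.app (op V) s = (F.obj j).presheaf.map (eqToHom hU.symm).op
        ((colimit.ι F j).c.app (op ((Opens.map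
          (hc.coconePointUniqueUpToIso (colimit.isColimit F)).inv.base).obj V))
          ((hc.coconePointUniqueUpToIso (colimit.isColimit F)).inv.c.app (op V) s)) :=
  comp_c_app_apply (colimit.ι F j) (hc.coconePointUniqueUpToIso (colimit.isColimit F)).inv
    (c.ι.app j) (IsColimit.comp_coconePointUniqueUpToIso_inv hc (colimit.isColimit F) j) V s

include hc in
theorem isColimit_ext (s t : c.pt.presheaf.obj (op V))
    (hst : ∀ j, (c.ι.app j).c.app (op V) s = (c.ι.app j).c.app (op V) t) : s = t := by
  haveI : IsIso (hc.coconePointUniqueUpToIso (colimit.isColimit F)).inv.c :=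
    PresheafedSpace.c_isIso_of_iso _
  haveI : IsIso ((hc.coconePointUniqueUpToIso (colimit.isColimit F)).inv.c.app (op V)) :=
    NatIso.isIso_app_of_isIso _ _
  have hb := ConcreteCategory.bijective_of_isIso
    ((hc.coconePointUniqueUpToIso (colimit.isColimit F)).inv.c.app (op V))
  apply hb.1
  apply colimit_ext F ((Opens.map (hc.coconePointUniqueUpToIso (colimit.isColimit F)).inv.base).obj V)
  intro j
  obtain ⟨hU, h1⟩ := key_app F hc V j s
  obtain ⟨_, h2⟩ := key_app F hc V j t
  have h3 := hst j
  rw [h1, h2] at h3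
  exact (ConcreteCategory.bijective_of_isIso ((F.obj j).presheaf.map (eqToHom hU.symm).op)).1 h3

include hc in
theorem isColimit_exists
    (x : ∀ j : J, (F.obj j).presheaf.obj (op ((Opens.map (c.ι.app j).base).obj V)))
    (hx : ∀ {j j' : J} (φ : j ⟶ j'),
      (F.obj j).presheaf.map (eqToHom (map_w_obj F c V φ)).op ((F.map φ).c.app _ (x j')) = x j) :
    ∃ s : c.pt.presheaf.obj (op V), ∀ j, (c.ι.app j).c.app (op V) s = x j := by
  haveI : IsIso (hc.coconePointUniqueUpToIso (colimit.isColimit F)).inv.c :=
    PresheafedSpace.c_isIso_of_iso _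
  haveI : IsIso ((hc.coconePointUniqueUpToIso (colimit.isColimit F)).inv.c.app (op V)) :=
    NatIso.isIso_app_of_isIso _ _
  have hb := ConcreteCategory.bijective_of_isIso
    ((hc.coconePointUniqueUpToIso (colimit.isColimit F)).inv.c.app (op V))
  have hfac : ∀ j, colimit.ι F j ≫ (hc.coconePointUniqueUpToIso (colimit.isColimit F)).inv =
      c.ι.app j := fun j => IsColimit.comp_coconePointUniqueUpToIso_inv hc (colimit.isColimit F) j
  have hU : ∀ j, (Opens.map (colimit.ι F j).base).obj
        ((Opens.map (hc.coconePointUniqueUpToIso (colimit.isColimit F)).inv.base).obj V) =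
          (Opens.map (c.ι.app j).base).obj V := by
    intro j; rw [← hfac j]; rfl
  obtain ⟨s', hs'⟩ := colimit_exists F
    ((Opens.map (hc.coconePointUniqueUpToIso (colimit.isColimit F)).inv.base).obj V)
    (fun j => (F.obj j).presheaf.map (eqToHom (hU j)).op (x j)) (by
      intro j j' φ
      rw [PresheafedSpace.componentwiseDiagram_map]
      refine (CategoryTheory.comp_apply _ _ _).trans ?_
      refine (congrArg _ (c_naturality_apply _ _ _)).trans ?_
      rw [← hx φ]
      exact map_map_eq (F.obj j).presheaf _ _ _ _ _)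
  obtain ⟨s, hs⟩ := hb.2 s'
  refine ⟨s, fun j => ?_⟩
  obtain ⟨hU', h1⟩ := key_app F hc V j s
  rw [h1, hs, hs' j]
  exact map_map_self (F.obj j).presheaf _ _ _

end Transport

end General

section Pushout

variable {Z X Z' X' : PresheafedSpace.{_, _, u} CommRingCat.{u}} {f : Z ⟶ X} {g : Z ⟶ Z'}
  {h : X ⟶ X'} {k : Z' ⟶ X'}

/-- Sections over an open of the pushout of presheafed spaces are determined by their pullbacks. -/
theorem pushout_sections_ext (P : IsPushout f g h k) (V : Opens X'.carrier)
    (s t : X'.presheaf.obj (op V)) (h1 : h.c.app (op V) s = h.c.app (op V) t)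
    (h2 : k.c.app (op V) s = k.c.app (op V) t) : s = t := by
  refine isColimit_ext (span f g) P.isColimit V s t ?_
  rintro (_ | _ | _)
  · obtain ⟨hU, e1⟩ := comp_c_app_apply f h (P.cocone.ι.app none) rfl V s
    obtain ⟨_, e2⟩ := comp_c_app_apply f h (P.cocone.ι.app none) rfl V t
    have e3 := congrArg (fun y => Z.presheaf.map (eqToHom hU.symm).op
      (f.c.app (op ((Opens.map h.base).obj V)) y)) h1
    exact e1.trans (e3.trans e2.symm)
  · exact h1
  · exact h2

/-- Compatible sections glue on the pushout of presheafed spaces. -/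
theorem pushout_sections_exists (P : IsPushout f g h k) (V : Opens X'.carrier)
    (a : X.presheaf.obj (op ((Opens.map h.base).obj V)))
    (b : Z'.presheaf.obj (op ((Opens.map k.base).obj V)))
    (e : (Opens.map f.base).obj ((Opens.map h.base).obj V) =
      (Opens.map g.base).obj ((Opens.map k.base).obj V))
    (hab : f.c.app _ a = Z.presheaf.map (eqToHom e).op (g.c.app _ b)) :
    ∃ s : X'.presheaf.obj (op V), h.c.app (op V) s = a ∧ k.c.app (op V) s = b := by
  obtain ⟨s, hs⟩ := isColimit_exists (span f g) P.isColimit V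
    (fun j => match j with
      | none => f.c.app _ a
      | some WalkingPair.left => a
      | some WalkingPair.right => b) (by
      intro j j' φ
      rcases φ with _ | j''
      · rcases j with _ | _ | _
        · exact map_self Z.presheaf _ _
        · exact map_self X.presheaf _ _
        · exact map_self Z'.presheaf _ _
      · rcases j'' with _ | _
        · exact map_self Z.presheaf _ _
        · show Z.presheaf.map _ (g.c.app _ b) = f.c.app _ a
          rw [hab]
          exact map_congr_hom Z.presheaf _ _ _)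
  exact ⟨s, hs (some WalkingPair.left), hs (some WalkingPair.right)⟩

end Pushout

section SchemeLevel

variable {Z X Z' X' : Scheme.{u}} (ι : Z ⟶ X) (q : Z ⟶ Z') (π : X ⟶ X') (ι' : Z' ⟶ X')

/-- Scheme version: a pushout square of schemes in ringed spaces; sections of `X'` are determined
by their pullbacks to `X` and `Z'`. -/
theorem scheme_sections_ext
    (hpo : IsPushout
      ((Scheme.forgetToLocallyRingedSpace ⋙ LocallyRingedSpace.forgetToSheafedSpace).map ι)
      ((Scheme.forgetToLocallyRingedSpace ⋙ LocallyRingedSpace.forgetToSheafedSpace).map q)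
      ((Scheme.forgetToLocallyRingedSpace ⋙ LocallyRingedSpace.forgetToSheafedSpace).map π)
      ((Scheme.forgetToLocallyRingedSpace ⋙ LocallyRingedSpace.forgetToSheafedSpace).map ι'))
    (V : X'.Opens) (s t : Γ(X', V)) (h1 : π.app V s = π.app V t) (h2 : ι'.app V s = ι'.app V t) :
    s = t :=
  pushout_sections_ext (hpo.map SheafedSpace.forgetToPresheafedSpace) V s t h1 h2

theorem scheme_sections_exists
    (hpo : IsPushout
      ((Scheme.forgetToLocallyRingedSpace ⋙ LocallyRingedSpace.forgetToSheafedSpace).map ι)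
      ((Scheme.forgetToLocallyRingedSpace ⋙ LocallyRingedSpace.forgetToSheafedSpace).map q)
      ((Scheme.forgetToLocallyRingedSpace ⋙ LocallyRingedSpace.forgetToSheafedSpace).map π)
      ((Scheme.forgetToLocallyRingedSpace ⋙ LocallyRingedSpace.forgetToSheafedSpace).map ι'))
    (V : X'.Opens) (a : Γ(X, π ⁻¹ᵁ V)) (b : Γ(Z', ι' ⁻¹ᵁ V))
    (e : ι ⁻¹ᵁ (π ⁻¹ᵁ V) = q ⁻¹ᵁ (ι' ⁻¹ᵁ V))
    (hab : ι.app _ a = Z.presheaf.map (eqToHom e).op (q.app _ b)) :
    ∃ s : Γ(X', V), π.app V s = a ∧ ι'.app V s = b :=
  pushout_sections_exists (hpo.map SheafedSpace.forgetToPresheafedSpace) V a b e hab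

/-- The underlying square of schemes commutes. -/
theorem scheme_comm
    (hpo : IsPushout
      ((Scheme.forgetToLocallyRingedSpace ⋙ LocallyRingedSpace.forgetToSheafedSpace).map ι)
      ((Scheme.forgetToLocallyRingedSpace ⋙ LocallyRingedSpace.forgetToSheafedSpace).map q)
      ((Scheme.forgetToLocallyRingedSpace ⋙ LocallyRingedSpace.forgetToSheafedSpace).map π)
      ((Scheme.forgetToLocallyRingedSpace ⋙ LocallyRingedSpace.forgetToSheafedSpace).map ι')) :
    ι ≫ π = q ≫ ι' := by
  apply (Scheme.forgetToLocallyRingedSpace ⋙ LocallyRingedSpace.forgetToSheafedSpace).map_injective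
  rw [Functor.map_comp, Functor.map_comp]
  exact hpo.w

end SchemeLevel

end Groth.Agent.H89.PushoutSections
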